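import Mathlib
import Cfsg.Agent.H2.Schmidt
import Cfsg.Agent.H2.Prim
import Cfsg.Agent.H3.HallCompl
import Cfsg.Agent.H4.Integral

/-! The theorem of Kegel and Wielandt: a product of two nilpotent groups is solvable. -/

namespace Cfsg.Agent.H2
open Subgroup
open scoped Pointwise commutatorElement

universe u
variable {G : Type*} [Group G]

theorem Fac.of_conj_right {A B : Subgroup G} {g : G} (h : Fac ⊤ A (MulAut.conj g • B)) :
    Fac ⊤ A B := by
  have := h.conj_conj (mem_top 1) (mem_top g⁻¹)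
  rwa [H3.conj_one_smul, H3.conj_inv_smul_conj_smul] at this

theorem Fac.conj_right {A B : Subgroup G} (h : Fac ⊤ A B) (g : G) :
    Fac ⊤ A (MulAut.conj g • B) := by
  have := h.conj_conj (mem_top 1) (mem_top g)
  rwa [H3.conj_one_smul] at this

/-- Kegel's criterion for nonsimplicity. -/
theorem kegel [Finite G] (B A : Subgroup G)
    (h : ∀ x : G, Fac (A ⊔ MulAut.conj x • B) A (MulAut.conj x • B)) (hne : ¬ Fac ⊤ A B) :
    normalClosure (A : Set G) ≠ ⊤ ∨ normalClosure (B : Set G) ≠ ⊤ := by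
  induction A using WellFoundedGT.induction with
  | _ A ih =>
  by_contra hcon
  rw [not_or, not_not, not_not] at hcon
  have hn : ¬ ∀ x : G, MulAut.conj x • B ≤ normalizer (A : Set G) := by
    intro hn
    have := normalClosure_le_of_forall_conj_le hn
    haveI := normal_of_top_le_normalizer (hcon.2 ▸ this)
    have h1 : A = ⊤ := by rw [← hcon.1, normalClosure_eq_self]
    exact hne ⟨le_top, le_top, fun g _ => ⟨g, h1 ▸ mem_top g, 1, one_mem _, by simp⟩⟩
  push Not at hn
  obtain ⟨x, hx⟩ := hn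
  obtain ⟨b, hb, hbn⟩ := SetLike.not_le_iff_exists.1 hx
  have hlt : A < A ⊔ MulAut.conj b • A :=
    left_lt_sup.2 fun h' => hbn (mem_normalizer_of_conj_smul_le h')
  have hf : ∀ y : G, Fac (A ⊔ MulAut.conj b • A ⊔ MulAut.conj y • B) (A ⊔ MulAut.conj b • A)
      (MulAut.conj y • B) := fun y => by
    have := (h (b⁻¹ * y)).conj b
    rw [H3.conj_smul_conj_smul, mul_inv_cancel_left] at this
    exact fac_sup_sup (h y) this
  have hne' : ¬ Fac ⊤ (A ⊔ MulAut.conj b • A) B := fun h' => by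
    have h2 := (h'.conj_right x).eq_sup
    have h3 : A ⊔ MulAut.conj x • B = ⊤ := by
      rw [eq_top_iff, h2]
      refine sup_le (sup_le le_sup_left ?_) le_sup_right
      exact conj_smul_le_of_mem_normalizer le_sup_left (le_normalizer (mem_sup_right hb))
    exact hne (h3 ▸ h x).of_conj_right
  rcases ih _ hlt hf hne' with h1 | h1
  · exact h1 (top_le_iff.1
      (hcon.1.ge.trans (normalClosure_mono (SetLike.coe_subset_coe.2 le_sup_left))))
  · exact h1 hcon.2

theorem commutator_le_pCore_aux {p : ℕ} [Fact p.Prime] (G : Type u) [Group G] [Finite G] :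
    ∀ X Y : Subgroup G, (∀ g : G, ∃ S : Subgroup G, IsPGroup p S ∧ Fac S X (MulAut.conj g • Y)) →
      ⁅X, Y⁆ ≤ pCore p G := by
  refine card_induction (P := fun G _ _ => ∀ X Y : Subgroup G,
    (∀ g : G, ∃ S : Subgroup G, IsPGroup p S ∧ Fac S X (MulAut.conj g • Y)) → ⁅X, Y⁆ ≤ pCore p G)
    (fun G _ _ ih X Y h => ?_) G
  by_cases h0 : pCore p G = ⊥
  swap
  · have := ih _ (H1.card_quotient_lt h0) (X.map (QuotientGroup.mk' (pCore p G)))
      (Y.map (QuotientGroup.mk' (pCore p G))) fun g => by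
        obtain ⟨g, rfl⟩ := QuotientGroup.mk'_surjective _ g
        obtain ⟨S, hS, hf⟩ := h g
        exact ⟨_, hS.map _, map_conj_smul (QuotientGroup.mk' (pCore p G)) Y g ▸ hf.map _⟩
    rw [H1.pCore_quotient_pCore, le_bot_iff] at this
    exact H10.commutator_le_iff_map_mk'.2 this
  have hsymm : ∀ X Y : Subgroup G,
      (∀ g : G, ∃ S : Subgroup G, IsPGroup p S ∧ Fac S X (MulAut.conj g • Y)) →
      (∀ g : G, ∃ S : Subgroup G, IsPGroup p S ∧ Fac S Y (MulAut.conj g • X)) := by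
    intro X Y h g
    obtain ⟨S, hS, hf⟩ := h g⁻¹
    have := (hf.conj g).symm
    rw [H3.conj_smul_conj_inv_smul] at this
    exact ⟨_, H3.isPGroup_conj_smul hS g, this⟩
  have hO : ∀ (L R : Subgroup G) [L.Normal], R ≤ L → L ≤ normalizer (R : Set G) → IsPGroup p R →
      R = ⊥ := fun L R _ h1 h2 h3 =>
    eq_bot_iff.2 (h0 ▸ (H1.le_map_pCore h1 h2 h3).trans (H1.map_subtype_pCore_le L))
  have key : ∀ X Y : Subgroup G,
      (∀ g : G, ∃ S : Subgroup G, IsPGroup p S ∧ Fac S X (MulAut.conj g • Y)) →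
      normalClosure (X : Set G) ≠ ⊤ → ⁅X, Y⁆ = ⊥ := by
    intro X Y h hL
    set L := normalClosure (X : Set G) with hLdef
    have hXL : X ≤ L := le_normalClosure
    have h1 : ∀ g : G, ⁅X, MulAut.conj g • Y ⊓ L⁆ = ⊥ := fun g => by
      have := ih L (H1.card_lt_of_ne_top hL) (X.subgroupOf L)
        ((MulAut.conj g • Y ⊓ L).subgroupOf L) fun l => by
          obtain ⟨S, hS, hf⟩ := h (l * g)
          refine ⟨(S ⊓ L).subgroupOf L, ?_, ?_⟩
          · exact (hS.to_inf_left).of_equiv (subgroupOfEquivOfLe inf_le_right).symm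
          · rw [conj_smul_subgroupOf', H3.conj_smul_inf, H3.conj_smul_conj_smul,
              H3.conj_smul_eq_of_normal L]
            exact (hf.inf_of_left_le hXL).subgroupOf' inf_le_right
      have h2 := map_mono (f := L.subtype) this
      rw [map_commutator, subgroupOf_map_subtype, subgroupOf_map_subtype, inf_eq_left.2 hXL,
        inf_eq_left.2 inf_le_right] at h2
      exact eq_bot_iff.2 (h0 ▸ h2.trans (H1.map_subtype_pCore_le L))
    have h2 : ∀ g : G, MulAut.conj g • Y ⊓ L = ⊥ := fun g => by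
      obtain ⟨S, hS, hf⟩ := h g
      refine hO L _ inf_le_right (H10.le_normalizer_of_le_centralizer ?_)
        ((hS.to_le hf.right_le).to_inf_left)
      refine normalClosure_le_of_forall_conj_le fun y => ?_
      have := H3.conj_smul_mono y (commutator_eq_bot_iff_le_centralizer.1 (h1 (y⁻¹ * g)))
      rwa [← H3.centralizer_conj_smul, H3.conj_smul_inf, H3.conj_smul_conj_smul,
        mul_inv_cancel_left, H3.conj_smul_eq_of_normal L] at this
    have h3 : normalClosure (Y : Set G) ≤ normalizer (X : Set G) := by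
      refine normalClosure_le_of_forall_conj_le fun g => ?_
      obtain ⟨S, hS, hf⟩ := h g
      have := (hf.inf_of_left_le hXL).eq_left_of_le (by rw [h2 g]; exact bot_le)
      rw [← this]
      exact H1.le_normalizer_inf (hf.right_le.trans le_normalizer) le_normalizer_of_normal
    obtain ⟨S, hS, hf⟩ := h 1
    rw [eq_bot_iff, ← hO (normalClosure (Y : Set G)) (X ⊓ normalClosure (Y : Set G)) inf_le_right
      (H1.le_normalizer_inf h3 le_normalizer) ((hS.to_le hf.left_le).to_inf_left)]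
    exact le_inf (H10.commutator_le_left_of_le_normalizer (le_normalClosure.trans h3))
      ((commutator_mono le_rfl le_normalClosure).trans (commutator_le_right _ _))
  by_cases hf : Fac ⊤ X Y
  · obtain ⟨S, hS, hf'⟩ := h 1
    rw [H3.conj_one_smul] at hf'
    rw [hf'.eq_sup, ← hf.eq_sup] at hS
    rw [H1.pCore_eq_top_iff.2 (hS.of_equiv Subgroup.topEquiv)]
    exact le_top
  rcases kegel Y X (fun x => by obtain ⟨S, -, hf⟩ := h x; exact hf.sup) hf with h1 | h1
  · rw [key X Y h h1]; exact bot_le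
  · rw [Subgroup.commutator_comm, key Y X (hsymm X Y h) h1]; exact bot_le

theorem commutator_le_pCore [Finite G] {p : ℕ} [Fact p.Prime] {X Y : Subgroup G}
    (h : ∀ g : G, ∃ S : Subgroup G, IsPGroup p S ∧ Fac S X (MulAut.conj g • Y)) :
    ⁅X, Y⁆ ≤ pCore p G := commutator_le_pCore_aux G X Y h

theorem sylowIn_of_normalizer_le [Finite G] {p : ℕ} [Fact p.Prime] {S H L : Subgroup G}
    (hS : H3.SylowIn p S H) (hHL : H ≤ L) (h : L ⊓ normalizer (S : Set G) ≤ H) :
    H3.SylowIn p S L := by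
  refine H3.sylowIn_of_forall_eq hS.2 (hS.1.trans hHL) fun R hR hRL hle => ?_
  by_contra hne
  have h2 := H3.lt_inf_normalizer_of_lt hR (lt_of_le_of_ne hle (Ne.symm hne))
  exact h2.ne' (hS.eq_of_le hR.to_inf_left ((inf_le_inf_right _ hRL).trans h) h2.le)

theorem exists_normal_complement_of_normalizer_le [Finite G] {H : Subgroup G}
    (hH : Group.IsNilpotent H) (h2 : ∀ p : ℕ, p.Prime → ∃ q : ℕ, q.Prime ∧ q ≠ p ∧ q ∣ Nat.card H)
    (h : ∀ p : ℕ, p.Prime → p ∣ Nat.card H → ∀ S : Subgroup G, H3.SylowIn p S H →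
      normalizer (S : Set G) ≤ H) :
    (Nat.card H).Coprime H.index ∧ ∃ N : Subgroup G, N.Normal ∧ N.IsComplement' H := by
  have h1 : ∀ p : ℕ, p.Prime → p ∣ Nat.card H → ∀ S : Subgroup G, H3.SylowIn p S H →
      H3.SylowIn p S ⊤ := fun p hp hd S hS => by
    haveI := Fact.mk hp
    exact sylowIn_of_normalizer_le hS le_top (inf_le_right.trans (h p hp hd S hS))
  have hHall : (Nat.card H).Coprime H.index := Nat.coprime_of_dvd fun p hp hd hd' => by
    haveI := Fact.mk hp
    obtain ⟨S, hS⟩ := H3.exists_sylowIn p H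
    exact (h1 p hp hd S hS).3 (by
      rw [relIndex_top_right]; exact hd'.trans (index_dvd_of_le hS.1))
  refine ⟨hHall, H3.exists_normal_complement_of_forall_prime H hHall fun p hp hd => ?_⟩
  haveI := Fact.mk hp
  obtain ⟨S, hS⟩ := H3.exists_sylowIn p H
  obtain ⟨q, hq, hqp, hqd⟩ := h2 p hp
  haveI := Fact.mk hq
  obtain ⟨T, hT⟩ := H3.exists_sylowIn q H
  have hST := le_centralizer_of_coprime_of_isNilpotent hH hS.1 hT.1
    (coprime_card_of_isPGroup_of_ne hqp.symm hS.2 hT.2)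
  refine H3.hasNormalPComplement_of_fusion_control (h1 p hp hd S hS).toSylowTop hS.1
    (fun x hx g hg => ?_) H3.hasNormalPComplement_of_isNilpotent
  obtain ⟨n, hn, e⟩ := H3.exists_normalizer_conj_of_centralizer (h1 q hq hqd T hT).toSylowTop
    (hST hx) (hST hg)
  exact ⟨n, h q hq hqd T hT hn, e⟩

theorem exists_mem_center_orderOf_eq [Finite G] {A : Subgroup G} (hA : Group.IsNilpotent A)
    {p : ℕ} [hp : Fact p.Prime] (hd : p ∣ Nat.card A) :
    ∃ z ∈ A ⊓ centralizer (A : Set G), orderOf z = p := by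
  obtain ⟨P, hP⟩ := H3.exists_sylowIn p A
  have h0 := inf_centralizer_ne_bot hA hP.1 (le_normalizer_of_sylowIn_of_isNilpotent hA hP)
    (fun h => hP.eq_bot_iff.1 h hd)
  obtain ⟨z, hz, hz'⟩ := H1.exists_prime_orderOf_mem h0
  refine ⟨z, ⟨hP.1 hz.1, hz.2⟩, ?_⟩
  obtain ⟨k, hk⟩ := hP.2 ⟨z, hz.1⟩
  exact (Nat.prime_dvd_prime_iff_eq hz' hp.out).1
    (hz'.dvd_of_dvd_pow (orderOf_dvd_of_pow_eq_one (congrArg Subtype.val hk)))

theorem inf_centralizer_le_of_sylowIn [Finite G] {A S : Subgroup G} (hA : Group.IsNilpotent A)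
    {p : ℕ} [hp : Fact p.Prime] (hS : H3.SylowIn p S A) :
    S ⊓ centralizer (S : Set G) ≤ centralizer (A : Set G) := by
  refine le_centralizer_iff.1 (H1.le_of_forall_pSubgroup_le fun q hq _ R hR hRq => ?_)
  haveI := Fact.mk hq
  by_cases hqp : q = p
  · subst hqp
    obtain ⟨g, hg, hle⟩ := hS.exists_conj_le hRq hR
    have := H3.conj_smul_mono g⁻¹ hle
    rw [H3.conj_inv_smul_conj_smul, H3.mem_normalizer_iff_conj_smul.1
      (le_normalizer_of_sylowIn_of_isNilpotent hA hS (inv_mem hg))] at this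
    exact this.trans (le_centralizer_iff.1 inf_le_right)
  · exact le_centralizer_of_coprime_of_isNilpotent hA hR (inf_le_left.trans hS.1)
      (coprime_card_of_isPGroup_of_ne hqp hRq hS.2.to_inf_left)

theorem exists_le_conj_of_not_dvd_index [Finite G] {p : ℕ} [Fact p.Prime] {B R : Subgroup G}
    (hR : IsPGroup p R) (hp : ¬ p ∣ B.index) : ∃ g : G, R ≤ MulAut.conj g • B := by
  obtain ⟨Q, hQ⟩ := H3.exists_sylowIn p B
  have hQ' : H3.SylowIn p Q ⊤ := by
    refine ⟨le_top, hQ.2, ?_⟩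
    rw [← relIndex_mul_relIndex Q B ⊤ hQ.1 le_top, relIndex_top_right]
    intro h'
    rcases (Nat.Prime.dvd_mul Fact.out).1 h' with h' | h'
    · exact hQ.3 h'
    · exact hp h'
  obtain ⟨g, -, hg⟩ := hQ'.exists_conj_le hR le_top
  have := H3.conj_smul_mono g⁻¹ (hg.trans hQ.1)
  rw [H3.conj_inv_smul_conj_smul] at this
  exact ⟨_, this⟩

/-- a minimal counterexample to Wielandt's theorem -/
structure KW (A B : Subgroup G) : Prop where
  fac : Fac ⊤ A B
  nilA : Group.IsNilpotent A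
  nilB : Group.IsNilpotent B
  cop : (Nat.card A).Coprime (Nat.card B)
  simple : IsSimpleGroup G
  nsol : ¬ Group.IsSolvable G
  ih : ∀ H X Y : Subgroup G, H ≠ ⊤ → Group.IsNilpotent X → Group.IsNilpotent Y → Fac H X Y →
    Group.IsSolvable H

namespace KW
variable [Finite G] {A B : Subgroup G}

omit [Finite G] in
theorem symm (h : KW A B) : KW B A :=
  ⟨h.fac.symm, h.nilB, h.nilA, h.cop.symm, h.simple, h.nsol, h.ih⟩

omit [Finite G] in
theorem conj (h : KW A B) (g : G) : KW A (MulAut.conj g • B) :=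
  ⟨h.fac.conj_right g, h.nilA, H1.isNilpotent_map _ h.nilB, by
    rw [H3.card_conj_smul]; exact h.cop, h.simple, h.nsol, h.ih⟩

omit [Finite G] in
theorem normalizer_ne_top (h : KW A B) {R : Subgroup G} (h0 : R ≠ ⊥) (h1 : R ≠ ⊤) :
    normalizer (R : Set G) ≠ ⊤ := fun h' => by
  haveI := h.simple
  rcases (normal_of_top_le_normalizer h'.ge).eq_bot_or_eq_top with h2 | h2
  · exact h0 h2
  · exact h1 h2

omit [Finite G] in
theorem ne_top (h : KW A B) {R : Subgroup G} (hR : Group.IsSolvable R) : R ≠ ⊤ :=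
  fun h' => h.nsol (isSolvable_of_eq_top h' hR)

omit [Finite G] in
theorem normalClosure_eq_top (h : KW A B) {R : Subgroup G} (h0 : R ≠ ⊥) :
    normalClosure (R : Set G) = ⊤ := by
  haveI := h.simple
  exact (normalClosure_normal.eq_bot_or_eq_top).resolve_left (normalClosure_ne_bot h0)

omit [Finite G] in
theorem left_ne_bot (h : KW A B) : A ≠ ⊥ := fun h0 => by
  haveI := h.nilB
  exact h.ne_top inferInstance (h.fac.eq_right_of_le (h0 ▸ bot_le)).symm

omit [Finite G] in
theorem inf_eq_bot (h : KW A B) : A ⊓ B = ⊥ := inf_eq_bot_of_coprime h.cop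

theorem hall (h : KW A B) : (Nat.card A).Coprime A.index :=
  h.cop.coprime_dvd_right h.fac.index_left_dvd

omit [Finite G] in
theorem isSolvable (h : KW A B) {H : Subgroup G} (hH : H ≠ ⊤) (hf : Fac H (H ⊓ A) (H ⊓ B)) :
    Group.IsSolvable H :=
  h.ih H _ _ hH (H1.isNilpotent_of_le inf_le_right h.nilA)
    (H1.isNilpotent_of_le inf_le_right h.nilB) hf

theorem exists_center (h : KW A B) : ∃ z ∈ A ⊓ centralizer (A : Set G), z ≠ 1 := by
  have := inf_centralizer_ne_bot h.nilA le_rfl le_normalizer h.left_ne_bot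
  obtain ⟨z, hz, hz'⟩ := H1.exists_prime_orderOf_mem this
  exact ⟨z, hz, fun h1 => by rw [h1, orderOf_one] at hz'; exact Nat.not_prime_one hz'⟩

theorem exists_prime_ne (h : KW A B) (p : ℕ) (hp : p.Prime) :
    ∃ q : ℕ, q.Prime ∧ q ≠ p ∧ q ∣ Nat.card A := by
  by_contra hcon
  have h1 : H1.IsPiNum {p} (Nat.card A) := fun q hq hd => by
    by_contra hne; exact hcon ⟨q, hq, hne, hd⟩
  obtain ⟨z, hz, hz1⟩ := h.symm.exists_center
  have h2 : B ≤ centralizer {z} := fun b hb => mem_centralizer_singleton_iff.2 (hz.2 b hb)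
  obtain ⟨k, hk⟩ := (H1.isPiNum_singleton_iff hp index_ne_zero_of_finite).1
    (h1.of_dvd ((index_dvd_of_le h2).trans h.fac.index_right_dvd))
  haveI := h.simple
  have := H4.comm_of_simple_of_class_prime_pow hp hz1 hk
  exact h.ne_top (H1.isSolvable_of_isMulCommutative _) this

theorem exists_sylow_ne (h : KW A B) (p : ℕ) (hp : p.Prime) :
    ∃ (q : ℕ) (Q : Subgroup G), q.Prime ∧ q ≠ p ∧ H3.SylowIn q Q A ∧ Q ≠ ⊥ := by
  obtain ⟨q, hq, hqp, hd⟩ := h.exists_prime_ne p hp
  haveI := Fact.mk hq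
  obtain ⟨Q, hQ⟩ := H3.exists_sylowIn q A
  exact ⟨q, Q, hq, hqp, hQ, fun h0 => hQ.eq_bot_iff.1 h0 hd⟩

theorem sylow_sup_eq_top (h : KW A B) {p q : ℕ} [Fact p.Prime] [Fact q.Prime] {P Q : Subgroup G}
    (hP : H3.SylowIn p P A) (hQ : H3.SylowIn q Q B) (hP0 : P ≠ ⊥) (hQ0 : Q ≠ ⊥) : P ⊔ Q = ⊤ := by
  by_contra hne
  have nP := le_normalizer_of_sylowIn_of_isNilpotent h.nilA hP
  have nQ := le_normalizer_of_sylowIn_of_isNilpotent h.nilB hQ
  have hf := h.fac.normalizer_sup nP nQ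
  have hs := h.isSolvable (h.normalizer_ne_top (fun h0 => hP0 (le_bot_iff.1 (h0 ▸ le_sup_left)))
    hne) hf
  have hP' := hP.top_of_hall h.hall (by by_contra h'; exact hP0 (hP.eq_bot_iff.2 h'))
  have hQ' := hQ.top_of_hall h.symm.hall (by by_contra h'; exact hQ0 (hQ.eq_bot_iff.2 h'))
  have h1 : P ≤ normalizer ((P ⊔ Q : Subgroup G) : Set G) := le_sup_left.trans le_normalizer
  have h2 : Q ≤ normalizer ((P ⊔ Q : Subgroup G) : Set G) := le_sup_right.trans le_normalizer
  have h3 := hf.fac_sup_of_hall hs (le_inf h1 hP.1) (inf_le_right.trans nP) (le_inf h2 hQ.1)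
    (inf_le_right.trans nQ) (hP'.of_le h1 le_top).card_coprime_relIndex
    (hQ'.of_le h2 le_top).card_coprime_relIndex
  rcases kegel Q P (fun x => by
    obtain ⟨a, ha, b, hb, rfl⟩ := h.fac.top x
    have := h3.conj a
    rw [H3.mem_normalizer_iff_conj_smul.1 (nP ha)] at this
    rw [← H3.conj_smul_conj_smul, H3.mem_normalizer_iff_conj_smul.1 (nQ hb)]
    exact this.sup) (fun h' => hne h'.eq_sup.symm) with h4 | h4
  · exact h4 (h.normalClosure_eq_top hP0)
  · exact h4 (h.normalClosure_eq_top hQ0)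

theorem le_of_isPGroup (h : KW A B) {L R : Subgroup G} (hf : Fac L (L ⊓ A) (L ⊓ B)) {r : ℕ}
    [hr : Fact r.Prime] (hR : IsPGroup r R) (hRL : R ≤ L) (hn : L ≤ normalizer (R : Set G))
    (hrB : ¬ r ∣ Nat.card B) : R ≤ A := by
  obtain ⟨S, hS⟩ := H3.exists_sylowIn r (L ⊓ A)
  have hS' : H3.SylowIn r S L := by
    refine ⟨hS.1.trans inf_le_left, hS.2, ?_⟩
    rw [← relIndex_mul_relIndex S _ L hS.1 inf_le_left]
    intro h'
    rcases (Nat.Prime.dvd_mul hr.out).1 h' with h' | h'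
    · exact hS.3 h'
    · exact hrB (h'.trans (hf.relIndex_left_dvd.trans (card_dvd_of_le inf_le_right)))
  exact (hS'.le_of_le_normalizer hR hRL hn).trans (hS.1.trans inf_le_right)

theorem sup_eq_top (h : KW A B) {X Y : Subgroup G} (hX0 : X ≠ ⊥) (hXA : X ≤ A)
    (hXn : A ≤ normalizer (X : Set G)) (hY0 : Y ≠ ⊥) (hYB : Y ≤ B)
    (hYn : B ≤ normalizer (Y : Set G)) : X ⊔ Y = ⊤ := by
  by_contra hne
  obtain ⟨⟨X, Y⟩, ⟨hX0, hXA, hXn, hY0, hYB, hYn, hne⟩, hmax⟩ := exists_maximal_ge_of_wellFoundedGT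
    (fun Z : Subgroup G × Subgroup G => Z.1 ≠ ⊥ ∧ Z.1 ≤ A ∧ A ≤ normalizer (Z.1 : Set G) ∧
      Z.2 ≠ ⊥ ∧ Z.2 ≤ B ∧ B ≤ normalizer (Z.2 : Set G) ∧ Z.1 ⊔ Z.2 ≠ ⊤) (X, Y)
    ⟨hX0, hXA, hXn, hY0, hYB, hYn, hne⟩ |>.imp fun _ h => h.2
  dsimp only at hX0 hXA hXn hY0 hYB hYn hne
  have hmaxX : ∀ X' : Subgroup G, X' ≤ A → A ≤ normalizer (X' : Set G) → X ⊔ X' ⊔ Y ≠ ⊤ →
      X' ≤ X := fun X' h1 h2 h3 => le_sup_right.trans (hmax (y := (X ⊔ X', Y))
        ⟨fun h0 => hX0 (le_bot_iff.1 (h0 ▸ le_sup_left)), sup_le hXA h1,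
          H1.le_normalizer_sup hXn h2, hY0, hYB, hYn, h3⟩ ⟨le_sup_left, le_rfl⟩).1
  have hmaxY : ∀ Y' : Subgroup G, Y' ≤ B → B ≤ normalizer (Y' : Set G) → Y ⊔ Y' ⊔ X ≠ ⊤ →
      Y' ≤ Y := fun Y' h1 h2 h3 => le_sup_right.trans (hmax (y := (X, Y ⊔ Y'))
        ⟨hX0, hXA, hXn, fun h0 => hY0 (le_bot_iff.1 (h0 ▸ le_sup_left)), sup_le hYB h1,
          H1.le_normalizer_sup hYn h2, by rwa [sup_comm]⟩ ⟨le_rfl, le_sup_left⟩).2
  clear hmax
  have hf := h.fac.normalizer_sup hXn hYn
  set L := normalizer ((X ⊔ Y : Subgroup G) : Set G) with hL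
  have hL1 : L ≠ ⊤ := h.normalizer_ne_top (fun h0 => hX0 (le_bot_iff.1 (h0 ▸ le_sup_left))) hne
  have hs := h.isSolvable hL1 hf
  have hXL : X ≤ L := le_sup_left.trans le_normalizer
  have hYL : Y ≤ L := le_sup_right.trans le_normalizer
  clear_value L
  clear hne hL
  let O : ℕ → Subgroup G := fun r => (pCore r L).map L.subtype
  have hO1 : ∀ r, O r ≤ L := fun r => map_subtype_le _
  have hO2 : ∀ r, L ≤ normalizer (O r : Set G) := fun r => H10.le_normalizer_map_subtype _
  have hO3 : ∀ r, IsPGroup r (O r) := fun r => H1.isPGroup_map_pCore r L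
  -- the two symmetric steps
  have step1 : ∀ (A B X Y : Subgroup G), KW A B → Fac L (L ⊓ A) (L ⊓ B) → X ≤ L → Y ≤ L →
      (∀ X' : Subgroup G, X' ≤ A → A ≤ normalizer (X' : Set G) → X ⊔ X' ⊔ Y ≠ ⊤ → X' ≤ X) →
      ∀ r : ℕ, r.Prime → ¬ r ∣ Nat.card B → O r ≠ ⊥ → ∀ s : ℕ, s.Prime → s ≠ r →
      ∀ S : Subgroup G, H3.SylowIn s S A → S ≤ X := by
    intro A B X Y h hf hXL hYL hmax r hr hrB h0 s hs' hsr S hS
    haveI := Fact.mk hr
    haveI := Fact.mk hs'
    have h1 := h.le_of_isPGroup hf (hO3 r) (hO1 r) (hO2 r) hrB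
    refine hmax S hS.1 (le_normalizer_of_sylowIn_of_isNilpotent h.nilA hS) fun h2 => ?_
    refine h.normalizer_ne_top h0 (h.ne_top (H1.isSolvable_of_isPGroup (hO3 r))) (top_le_iff.1 ?_)
    rw [← h2]
    refine sup_le (sup_le (hXL.trans (hO2 r)) ?_) (hYL.trans (hO2 r))
    exact H10.le_normalizer_of_le_centralizer (le_centralizer_of_coprime_of_isNilpotent h.nilA
      hS.1 h1 (coprime_card_of_isPGroup_of_ne hsr hS.2 (hO3 r)))
  have step2 : ∀ (A B X Y : Subgroup G), KW A B → Fac L (L ⊓ A) (L ⊓ B) → X ≤ L → Y ≤ L →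
      Y ≠ ⊥ → B ≤ normalizer (Y : Set G) →
      (∀ X' : Subgroup G, X' ≤ A → A ≤ normalizer (X' : Set G) → X ⊔ X' ⊔ Y ≠ ⊤ → X' ≤ X) →
      (∀ r : ℕ, r.Prime → O r ≠ ⊥ → ¬ r ∣ Nat.card B) → False := by
    intro A B X Y h hf hXL hYL hY0 hYn hmax hr
    have hAL : A ≤ L := by
      refine H1.le_of_forall_pSubgroup_le fun s hs' _ S hSA hS => ?_
      haveI := Fact.mk hs'
      obtain ⟨T, hT, hST⟩ := H3.exists_sylowIn_le hS hSA
      refine hST.trans ?_
      by_contra hcon
      have h1 : ∀ r : ℕ, r.Prime → r ≠ s → O r = ⊥ := fun r hr' hrs => by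
        by_contra h0
        exact hcon ((step1 A B X Y h hf hXL hYL hmax r hr' (hr r hr' h0) h0 s hs' hrs.symm T hT).trans
          hXL)
      have h2 : fittingSubgroup L ≤ pCore s L := by
        rw [H1.fittingSubgroup_eq_iSup_pCore, iSup_le_iff]
        intro r
        by_cases hrs : (r : ℕ) = s
        · rw [hrs]
        · rw [(Subgroup.map_eq_bot_iff_of_injective _ L.subtype_injective).1 (h1 r r.2 hrs)]
          exact bot_le
      have h3 : O s ≠ ⊥ := by
        intro h0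
        haveI : Nontrivial L := (nontrivial_iff_ne_bot L).2 fun h' => hY0 (le_bot_iff.1 (h' ▸ hYL))
        rw [Subgroup.map_eq_bot_iff_of_injective _ L.subtype_injective] at h0
        exact H1.fittingSubgroup_ne_bot hs (le_bot_iff.1 (h0 ▸ h2))
      obtain ⟨t, U, ht, hts, hU, hU0⟩ := h.exists_sylow_ne s hs'
      haveI := Fact.mk ht
      have h4 := (step1 A B X Y h hf hXL hYL hmax s hs' (hr s hs' h3) h3 t ht hts U hU).trans hXL
      have h5 := le_centralizer_of_coprime_of_isNilpotent h.nilA hU.1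
        (h.le_of_isPGroup hf (hO3 s) (hO1 s) (hO2 s) (hr s hs' h3))
        (coprime_card_of_isPGroup_of_ne hts hU.2 (hO3 s))
      have h6 : U ≤ O s := by
        have := map_mono (f := L.subtype) (((H10.centralizer_anti h2).trans
          (H1.centralizer_fittingSubgroup_le hs)).trans h2)
        rw [H10.map_subtype_centralizer] at this
        exact (le_inf h4 h5).trans this
      exact hU0 ((inf_eq_left.2 h6).symm.trans (inf_eq_bot_of_coprime
        (coprime_card_of_isPGroup_of_ne hts hU.2 (hO3 s))))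
    have := normalClosure_le_of_fac (h.fac.symm.mono le_rfl hAL le_top le_top) hYn hYL
    exact hL1 (top_le_iff.1 (h.normalClosure_eq_top hY0 ▸ this))
  by_cases c1 : ∀ r : ℕ, r.Prime → O r ≠ ⊥ → ¬ r ∣ Nat.card B
  · exact step2 A B X Y h hf hXL hYL hY0 hYn hmaxX c1
  by_cases c2 : ∀ r : ℕ, r.Prime → O r ≠ ⊥ → ¬ r ∣ Nat.card A
  · exact step2 B A Y X h.symm hf.symm hYL hXL hX0 hXn hmaxY c2
  push Not at c1 c2
  obtain ⟨r, hr, hr0, hrB⟩ := c1
  obtain ⟨s, hs', hs0, hsA⟩ := c2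
  obtain ⟨p, P, hp, hps, hP, hP0⟩ := h.exists_sylow_ne s hs'
  obtain ⟨q, Q, hq, hqr, hQ, hQ0⟩ := h.symm.exists_sylow_ne r hr
  haveI := Fact.mk hp
  haveI := Fact.mk hq
  have h1 := step1 A B X Y h hf hXL hYL hmaxX s hs'
    (fun h' => hs'.one_lt.ne' (Nat.eq_one_of_dvd_coprimes h.cop hsA h')) hs0 p hp hps P hP
  have h2 := step1 B A Y X h.symm hf.symm hYL hXL hmaxY r hr
    (fun h' => hr.one_lt.ne' (Nat.eq_one_of_dvd_coprimes h.cop h' hrB)) hr0 q hq hqr Q hQ
  exact hL1 (top_le_iff.1 (h.sylow_sup_eq_top hP hQ hP0 hQ0 ▸ sup_le (h1.trans hXL) (h2.trans hYL)))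

theorem eq_bot_of_mem_normalizer (h : KW A B) {z : G} (hz : z ∈ A ⊓ centralizer (A : Set G))
    (hz1 : z ≠ 1) {q : ℕ} [hq : Fact q.Prime] (hqA : ¬ q ∣ Nat.card A) {R : Subgroup G}
    (hR : IsPGroup q R) (hn : z ∈ normalizer (R : Set G)) : R = ⊥ := by
  by_contra h0
  obtain ⟨g, hg⟩ := exists_le_conj_of_not_dvd_index hR
    (fun h' => hqA (h'.trans h.fac.index_right_dvd))
  have h' := h.conj g
  obtain ⟨s, S, hs, hsq, hS, hS0⟩ := h'.symm.exists_sylow_ne q hq.out
  haveI := Fact.mk hs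
  have h1 := h'.sup_eq_top (X := zpowers z) (zpowers_ne_bot.2 hz1) (zpowers_le.2 hz.1)
    (H10.le_normalizer_of_le_centralizer (le_centralizer_iff.1 (zpowers_le.2 hz.2))) hS0 hS.1
    (le_normalizer_of_sylowIn_of_isNilpotent h'.nilB hS)
  refine h.normalizer_ne_top h0 (h.ne_top (H1.isSolvable_of_isPGroup hR)) (top_le_iff.1 ?_)
  rw [← h1]
  exact sup_le (zpowers_le.2 hn) (H10.le_normalizer_of_le_centralizer
    (le_centralizer_of_coprime_of_isNilpotent h'.nilB hS.1 hg
      (coprime_card_of_isPGroup_of_ne hsq hS.2 hR)))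

theorem centralizer_eq (h : KW A B) {z : G} (hz : z ∈ A ⊓ centralizer (A : Set G))
    (hz1 : z ≠ 1) : centralizer {z} = A := by
  have h1 : A ≤ centralizer {z} := fun a ha => mem_centralizer_singleton_iff.2 (hz.2 a ha)
  refine (h.fac.of_left_le h1 le_top).eq_left_of_le (le_trans ?_ bot_le)
  refine H1.le_of_forall_pSubgroup_le fun q hq hd R hR hRq => ?_
  haveI := Fact.mk hq
  refine (h.eq_bot_of_mem_normalizer hz hz1 (fun h' => hq.one_lt.ne' (Nat.eq_one_of_dvd_coprimes
    h.cop h' (hd.trans (card_dvd_of_le inf_le_left)))) hRq (centralizer_le_normalizer _ ?_)).le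
  rw [mem_centralizer_iff]
  exact fun x hx => mem_centralizer_singleton_iff.1 (hR hx).2

theorem mem_normalizer_of_conj_mem (h : KW A B) {z : G} (hz : z ∈ A ⊓ centralizer (A : Set G))
    (hz1 : z ≠ 1) {g : G} (hg : g * z * g⁻¹ ∈ A) : g ∈ normalizer (A : Set G) := by
  obtain ⟨y, hy, hp⟩ := H1.exists_prime_orderOf_mem (zpowers_ne_bot.2 hz1)
  have hy1 : y ≠ 1 := fun h1 => by rw [h1, orderOf_one] at hp; exact Nat.not_prime_one hp
  have hyA : y ∈ A ⊓ centralizer (A : Set G) := (zpowers_le.2 hz) hy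
  have hgy : y ∈ MulAut.conj g⁻¹ • A := by
    refine (zpowers_le (H := MulAut.conj g⁻¹ • A)).2 ?_ hy
    rwa [H3.mem_conj_smul, inv_inv]
  have h' : KW (MulAut.conj g⁻¹ • A) B := (h.symm.conj g⁻¹).symm
  obtain ⟨s, S, hs, hsp, hS, hS0⟩ := h'.exists_sylow_ne _ hp
  haveI := Fact.mk hs
  haveI := Fact.mk hp
  have h1 : S ≤ A := by
    rw [← h.centralizer_eq hyA hy1, ← H10.centralizer_zpowers]
    exact le_centralizer_of_coprime_of_isNilpotent h'.nilA hS.1 (zpowers_le.2 hgy)
      (coprime_card_of_isPGroup_of_ne hsp hS.2 (IsPGroup.of_card (n := 1) (by simp)))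
  have hS' : H3.SylowIn s S A := (hS.top_of_hall h'.hall
    (by by_contra h2; exact hS0 (hS.eq_bot_iff.2 h2))).of_le h1 le_top
  obtain ⟨w, hw, hw'⟩ := H1.exists_prime_orderOf_mem
    (inf_centralizer_ne_bot hS.2.isNilpotent le_rfl le_normalizer hS0)
  have hw1 : w ≠ 1 := fun h1 => by rw [h1, orderOf_one] at hw'; exact Nat.not_prime_one hw'
  have e1 := h.centralizer_eq ⟨h1 hw.1, inf_centralizer_le_of_sylowIn h.nilA hS' hw⟩ hw1
  have e2 := h'.centralizer_eq ⟨hS.1 hw.1, inf_centralizer_le_of_sylowIn h'.nilA hS hw⟩ hw1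
  have := H3.mem_normalizer_iff_conj_smul.2 (e2.symm.trans e1)
  simpa using inv_mem this

theorem centralizer_le_normalizer_right (h : KW A B) {u : G} (hu : u ∈ B)
    (hun : u ∈ normalizer (A : Set G)) (hu1 : u ≠ 1) :
    centralizer {u} ≤ normalizer (B : Set G) := by
  set C := centralizer ({u} : Set G) with hC
  have hf : Fac C (C ⊓ A) (C ⊓ B) := by
    refine Fac.symm ⟨inf_le_left, inf_le_left, fun n hn => ?_⟩
    obtain ⟨b, hb, a, ha, rfl⟩ := h.fac.symm.top n
    have hn' := mem_centralizer_singleton_iff.1 hn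
    have h1 : a * u * a⁻¹ * u⁻¹ ∈ A ⊓ B := by
      refine mem_inf.2 ⟨?_, ?_⟩
      · have : a * u * a⁻¹ * u⁻¹ = a * (u * a⁻¹ * u⁻¹) := by group
        rw [this]
        exact mul_mem ha ((mem_normalizer_iff.1 hun _).1 (inv_mem ha))
      · have : a * u * a⁻¹ * u⁻¹ = b⁻¹ * u * b * u⁻¹ := by
          calc a * u * a⁻¹ * u⁻¹ = b⁻¹ * (b * a * u) * a⁻¹ * u⁻¹ := by group
            _ = _ := by rw [hn']; group
        rw [this]
        exact mul_mem (mul_mem (mul_mem (inv_mem hb) hu) hb) (inv_mem hu)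
    rw [h.inf_eq_bot, mem_bot] at h1
    have h2 : a ∈ C := mem_centralizer_singleton_iff.2 (by
      calc a * u = a * u * a⁻¹ * u⁻¹ * (u * a) := by group
        _ = u * a := by rw [h1, one_mul])
    exact ⟨b, ⟨by simpa using mul_mem hn (inv_mem h2), hb⟩, a, ⟨h2, ha⟩, rfl⟩
  have hC1 : C ≠ ⊤ := by
    intro h1
    haveI := h.nilB
    refine h.normalizer_ne_top (zpowers_ne_bot.2 hu1) (h.ne_top (H1.isSolvable_zpowers u))
      (top_le_iff.1 ?_)
    rw [← h1, hC, ← H10.centralizer_zpowers]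
    exact centralizer_le_normalizer _
  have hs := h.isSolvable hC1 hf
  obtain ⟨w, hw, hw1⟩ := h.symm.exists_center
  have hwC : w ∈ C := mem_centralizer_singleton_iff.2 (hw.2 u hu).symm
  have hF : (fittingSubgroup C).map C.subtype ≤ B := by
    rw [H1.fittingSubgroup_eq_iSup_pCore, Subgroup.map_iSup, iSup_le_iff]
    intro r
    haveI := Fact.mk r.2
    by_cases hr : (r : ℕ) ∣ Nat.card B
    · exact h.symm.le_of_isPGroup hf.symm (H1.isPGroup_map_pCore r C) (map_subtype_le _)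
        (H10.le_normalizer_map_subtype _)
        (fun h' => r.2.one_lt.ne' (Nat.eq_one_of_dvd_coprimes h.cop h' hr))
    · rw [h.symm.eq_bot_of_mem_normalizer hw hw1 hr (H1.isPGroup_map_pCore r C)
        (H10.le_normalizer_map_subtype _ hwC)]
      exact bot_le
  have hwF : w ∈ (fittingSubgroup C).map C.subtype := by
    have := map_mono (f := C.subtype) (H1.centralizer_fittingSubgroup_le hs)
    rw [H10.map_subtype_centralizer] at this
    exact this ⟨hwC, H10.centralizer_anti hF hw.2⟩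
  intro n hn
  exact h.symm.mem_normalizer_of_conj_mem hw hw1
    (hF ((mem_normalizer_iff.1 (H10.le_normalizer_map_subtype _ hn) w).1 hwF))

theorem relIndex_normalizer_dvd (h : KW A B) (C : Subgroup G) :
    A.relIndex (C ⊓ normalizer (A : Set G)) ∣ Nat.card B := by
  rw [← H1.relIndex_sup_of_le_normalizer inf_le_right]
  exact (relIndex_dvd_index_of_le le_sup_left).trans h.fac.index_left_dvd

theorem centralizer_le_normalizer_left (h : KW A B) {x : G} (hx : x ∈ A) (hx1 : x ≠ 1) :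
    centralizer {x} ≤ normalizer (A : Set G) := by
  set C := centralizer ({x} : Set G) with hC
  by_cases hM : C ⊓ normalizer (A : Set G) ≤ A
  swap
  · obtain ⟨q, hq, hd, R, hR, hRq, hRA⟩ := H1.exists_pSubgroup_not_le hM
    haveI := Fact.mk hq
    have hqB := hd.trans (h.relIndex_normalizer_dvd C)
    obtain ⟨g, hg⟩ := exists_le_conj_of_not_dvd_index hRq (B := B) fun h' =>
      hq.one_lt.ne' (Nat.eq_one_of_dvd_coprimes h.cop (h'.trans h.fac.index_right_dvd) hqB)
    obtain ⟨u, hu, huA⟩ := SetLike.not_le_iff_exists.1 hRA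
    have h' := h.conj g
    have h1 := h'.centralizer_le_normalizer_right (hg hu) (hR hu).2
      (fun h1 => huA (h1 ▸ one_mem _))
    exact h'.symm.centralizer_le_normalizer_right hx (h1 (mem_centralizer_singleton_iff.2
      (mem_centralizer_singleton_iff.1 (hR hu).1).symm)) hx1
  have hZ : A ⊓ centralizer (A : Set G) ≤ C := fun z hz =>
    mem_centralizer_singleton_iff.2 (hz.2 x hx).symm
  have hdvd : ∀ p : ℕ, p.Prime → p ∣ Nat.card A → p ∣ Nat.card (A.subgroupOf C) := by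
    intro p hp hd
    haveI := Fact.mk hp
    obtain ⟨z, hz, hz'⟩ := exists_mem_center_orderOf_eq h.nilA hd
    rw [H1.card_subgroupOf_eq_inf, ← hz']
    exact Subgroup.orderOf_dvd_natCard _ ⟨hz.1, hZ hz⟩
  have hnil : Group.IsNilpotent (A.subgroupOf C) := by
    haveI := H1.isNilpotent_of_le (inf_le_left : A ⊓ C ≤ A) h.nilA
    rw [← inf_subgroupOf_right]
    exact Group.nilpotent_of_mulEquiv (subgroupOfEquivOfLe inf_le_right).symm
  obtain ⟨hHall, K, hKn, hK⟩ := exists_normal_complement_of_normalizer_le hnil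
    (fun p hp => by
      obtain ⟨q, hq, hqp, hd⟩ := h.exists_prime_ne p hp
      exact ⟨q, hq, hqp, hdvd q hq hd⟩)
    (fun p hp hd S hS n hn => by
      haveI := Fact.mk hp
      obtain ⟨z, hz, hz'⟩ := exists_mem_center_orderOf_eq h.nilA (hd.trans (by
        rw [H1.card_subgroupOf_eq_inf]; exact card_dvd_of_le inf_le_left))
      have hz1 : z ≠ 1 := fun h1 => by rw [h1, orderOf_one] at hz'; exact hp.one_lt.ne hz'
      have hzS : zpowers (⟨z, hZ hz⟩ : C) ≤ S := by
        refine hS.le_of_le_normalizer (IsPGroup.of_card (n := 1) (by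
          rw [Nat.card_zpowers, pow_one, ← hz', ← Subgroup.orderOf_coe])) (zpowers_le.2 hz.1) ?_
        refine H10.le_normalizer_of_le_centralizer ?_
        rw [H10.centralizer_zpowers]
        exact fun a ha => mem_centralizer_singleton_iff.2 (Subtype.ext (hz.2 a ha))
      have := hS.1 ((mem_normalizer_iff.1 hn _).1 (hzS (mem_zpowers _)))
      exact hM ⟨n.2, h.mem_normalizer_of_conj_mem hz hz1 this⟩)
  refine le_trans ?_ le_normalizer
  rw [← subgroupOf_eq_top, ← hK.sup_eq_top, eq_comm, sup_eq_right]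
  refine le_trans (H1.le_of_forall_pSubgroup_le fun q hq hd R hR hRq => ?_) bot_le
  exfalso
  haveI := Fact.mk hq
  obtain ⟨z, hz, hz1⟩ := h.exists_center
  rw [hK.index_eq_card] at hHall
  obtain ⟨V, hVK, hV0, -, hVq, hn⟩ := H1.exists_invariant_abelian_isPGroup
    (A := zpowers (⟨z, hZ hz⟩ : C)) le_normalizer_of_normal
    (hHall.coprime_dvd_left (card_dvd_of_le (zpowers_le.2 hz.1)))
    (Or.inl (H1.isSolvable_zpowers _)) hd
  refine hV0 ((Subgroup.map_eq_bot_iff_of_injective _ C.subtype_injective).1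
    (h.eq_bot_of_mem_normalizer hz hz1 (fun h' => hq.one_lt.ne'
      (Nat.eq_one_of_dvd_coprimes hHall (hdvd q hq h') hd)) (hVq.map _) ?_))
  exact H10.map_le_normalizer_map hn C.subtype ⟨_, mem_zpowers _, rfl⟩

theorem card_le (h : KW A B) : Nat.card A ≤ Nat.card B := by
  haveI := h.nilA
  obtain ⟨g, -, hg⟩ := SetLike.exists_of_lt (lt_top_iff_ne_top.2
    (h.normalizer_ne_top h.left_ne_bot (h.ne_top inferInstance)))
  have h' : KW (MulAut.conj g • A) B := (h.symm.conj g).symm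
  have h0 : A ⊓ MulAut.conj g • A = ⊥ := by
    rw [eq_bot_iff]
    intro x hx
    by_contra hx1
    obtain ⟨z, hz, hz1⟩ := h.exists_center
    have h1 : g * z * g⁻¹ ∈ normalizer (A : Set G) := by
      refine h.centralizer_le_normalizer_left hx.1 hx1 (mem_centralizer_singleton_iff.2 ?_)
      have := hz.2 _ (H3.mem_conj_smul.1 hx.2)
      calc g * z * g⁻¹ * x = g * (z * (g⁻¹ * x * g)) * g⁻¹ := by group
        _ = _ := by rw [← this]; group
    refine hg (h.mem_normalizer_of_conj_mem hz hz1 ?_)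
    have h2 : A.relIndex (zpowers (g * z * g⁻¹)) = 1 := by
      refine Nat.eq_one_of_dvd_coprimes h'.cop ((relIndex_dvd_card _ _).trans
        (card_dvd_of_le (zpowers_le.2 (H3.conj_mem_conj_smul.2 hz.1)))) ?_
      have := h.relIndex_normalizer_dvd (zpowers (g * z * g⁻¹))
      rwa [inf_eq_left.2 (zpowers_le.2 h1)] at this
    exact relIndex_eq_one.1 h2 (mem_zpowers _)
  have h1 := card_mul_card_le (le_top : A ≤ ⊤) (le_top : MulAut.conj g • A ≤ ⊤)
  have h2 := h.fac.card
  rw [h0, H3.card_conj_smul] at h1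
  rw [h.inf_eq_bot] at h2
  exact Nat.le_of_mul_le_mul_left (h1.trans h2.le) Nat.card_pos

theorem false (h : KW A B) : False := by
  have h1 := le_antisymm h.card_le h.symm.card_le
  have h2 := h.cop
  rw [← h1, Nat.coprime_self] at h2
  exact h.left_ne_bot (card_eq_one.1 h2)

end KW

theorem kegel_wielandt_aux (G : Type u) [Group G] [Finite G] : ∀ A B : Subgroup G,
    Group.IsNilpotent A → Group.IsNilpotent B → Fac ⊤ A B → Group.IsSolvable G := by
  refine card_induction (P := fun G _ _ => ∀ A B : Subgroup G,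
    Group.IsNilpotent A → Group.IsNilpotent B → Fac ⊤ A B → Group.IsSolvable G)
    (fun G _ _ ih A B hA hB h => ?_) G
  by_contra hG
  have hq : ∀ (N : Subgroup G) [N.Normal], N ≠ ⊥ → Group.IsSolvable (G ⧸ N) := fun N _ hN =>
    ih _ (H1.card_quotient_lt hN) _ _ (H1.isNilpotent_map _ hA) (H1.isNilpotent_map _ hB)
      (h.map_mk' N)
  have hsub : ∀ H X Y : Subgroup G, H ≠ ⊤ → Group.IsNilpotent X → Group.IsNilpotent Y →
      Fac H X Y → Group.IsSolvable H := fun H X Y hH hX hY hf =>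
    ih _ (H1.card_lt_of_ne_top hH) _ _
      (Group.nilpotent_of_mulEquiv (subgroupOfEquivOfLe hf.left_le).symm)
      (Group.nilpotent_of_mulEquiv (subgroupOfEquivOfLe hf.right_le).symm) hf.subgroupOf
  have hn : ∀ (N : Subgroup G) [N.Normal], Group.IsSolvable N → N = ⊥ := fun N _ hN => by
    by_contra h0
    exact hG (isSolvable_of_normal_of_quotient N hN (hq N h0))
  have hcop : (Nat.card A).Coprime (Nat.card B) := by
    refine Nat.coprime_of_dvd fun p hp hpA hpB => ?_
    haveI := Fact.mk hp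
    obtain ⟨P, Q, R, hP, hQ, hR, hf⟩ := h.exists_sylowIn p
    have nP := le_normalizer_of_sylowIn_of_isNilpotent hA hP
    have nQ := le_normalizer_of_sylowIn_of_isNilpotent hB hQ
    have h1 : normalClosure (Q : Set G) ≤ centralizer (P : Set G) := by
      refine normalClosure_le_of_forall_conj_le fun g => le_centralizer_iff.1 ?_
      rw [← commutator_eq_bot_iff_le_centralizer, eq_bot_iff,
        ← hn (pCore p G) (H1.isSolvable_of_isPGroup (H1.isPGroup_pCore p G))]
      refine commutator_le_pCore fun y => ?_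
      obtain ⟨a, ha, b, hb, e⟩ := h.top (y * g)
      have := hf.conj a
      rw [H3.mem_normalizer_iff_conj_smul.1 (nP ha)] at this
      rw [H3.conj_smul_conj_smul, e, ← H3.conj_smul_conj_smul,
        H3.mem_normalizer_iff_conj_smul.1 (nQ hb)]
      exact ⟨_, H3.isPGroup_conj_smul hR.2 a, this⟩
    have h2 : normalClosure (P : Set G) ≤ centralizer (normalClosure (Q : Set G) : Set G) :=
      normalClosure_le_normal (le_centralizer_iff.1 h1)
    have h3 : normalClosure (Q : Set G) ⊓ normalClosure (P : Set G) = ⊥ := by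
      haveI : IsMulCommutative
          (normalClosure (Q : Set G) ⊓ normalClosure (P : Set G) : Subgroup G) :=
        le_centralizer_iff_isMulCommutative.1
          (inf_le_right.trans (h2.trans (H10.centralizer_anti inf_le_left)))
      exact hn _ (H1.isSolvable_of_isMulCommutative _)
    obtain ⟨e⟩ := nonempty_equiv_map_mk' h3
    haveI := hq _ (normalClosure_ne_bot fun h0 => hP.eq_bot_iff.1 h0 hpA)
    exact normalClosure_ne_bot (fun h0 => hQ.eq_bot_iff.1 h0 hpB)
      (hn _ (H1.isSolvable_of_mulEquiv e.symm inferInstance))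
  haveI : Nontrivial G := by
    by_contra h
    rw [not_nontrivial_iff_subsingleton] at h
    exact hG inferInstance
  refine KW.false ⟨h, hA, hB, hcop, ⟨fun N hN => ?_⟩, hG, hsub⟩
  by_contra hcon
  rw [not_or] at hcon
  refine hcon.1 (hn N (hsub N (A ⊓ N) (B ⊓ N) hcon.2 (H1.isNilpotent_of_le inf_le_left hA)
    (H1.isNilpotent_of_le inf_le_left hB) (fac_of_coprime_relIndex inf_le_right inf_le_right ?_)))
  rw [inf_relIndex_right, inf_relIndex_right]
  exact (hcop.symm.coprime_dvd_left ((relIndex_dvd_index_of_normal_right _ _).trans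
    h.index_left_dvd)).coprime_dvd_right ((relIndex_dvd_index_of_normal_right _ _).trans
    h.index_right_dvd)

/-- The theorem of Kegel and Wielandt. -/
theorem kegel_wielandt [Finite G] {A B : Subgroup G} (hA : Group.IsNilpotent A)
    (hB : Group.IsNilpotent B) (h : Fac ⊤ A B) : Group.IsSolvable G :=
  kegel_wielandt_aux G A B hA hB h

theorem Fac.isSolvable_of_isNilpotent [Finite G] {L A B : Subgroup G} (h : Fac L A B)
    (hA : Group.IsNilpotent A) (hB : Group.IsNilpotent B) : Group.IsSolvable L :=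
  kegel_wielandt (Group.nilpotent_of_mulEquiv (subgroupOfEquivOfLe h.left_le).symm)
    (Group.nilpotent_of_mulEquiv (subgroupOfEquivOfLe h.right_le).symm) h.subgroupOf

theorem exists_normal_ge_of_fac_aux (G : Type u) [Group G] [Finite G] : ∀ A B : Subgroup G,
    Group.IsNilpotent A → Group.IsNilpotent B → Fac ⊤ A B → (A ≠ ⊤ ∨ B ≠ ⊤) →
    ∃ N : Subgroup G, N.Normal ∧ N ≠ ⊤ ∧ (A ≤ N ∨ B ≤ N) := by
  refine card_induction (P := fun G _ _ => ∀ A B : Subgroup G,
    Group.IsNilpotent A → Group.IsNilpotent B → Fac ⊤ A B → (A ≠ ⊤ ∨ B ≠ ⊤) →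
    ∃ N : Subgroup G, N.Normal ∧ N ≠ ⊤ ∧ (A ≤ N ∨ B ≤ N)) (fun G _ _ ih A B hA hB h hp => ?_) G
  by_cases hnil : Group.IsNilpotent G
  · rcases hp with hp | hp <;> obtain ⟨M, hM, hle⟩ := exists_isCoatom_ge hp
    · exact ⟨M, normal_of_isCoatom_of_isNilpotent hM, hM.1, Or.inl hle⟩
    · exact ⟨M, normal_of_isCoatom_of_isNilpotent hM, hM.1, Or.inr hle⟩
  have hA1 : A ≠ ⊤ := fun h' => hnil (isNilpotent_of_eq_top h' hA)
  have hB1 : B ≠ ⊤ := fun h' => hnil (isNilpotent_of_eq_top h' hB)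
  haveI := kegel_wielandt hA hB h
  haveI : Nontrivial G := by
    by_contra h
    rw [not_nontrivial_iff_subsingleton] at h
    exact hnil inferInstance
  obtain ⟨N, hN, hNa, -⟩ := exists_isMinNormal_of_isSolvable (G := G)
  haveI := hN.normal
  by_cases h1 : A.map (QuotientGroup.mk' N) ≠ ⊤ ∨ B.map (QuotientGroup.mk' N) ≠ ⊤
  · obtain ⟨M, hM, hM1, hle⟩ := ih _ (H1.card_quotient_lt hN.ne_bot) _ _ (H1.isNilpotent_map _ hA)
      (H1.isNilpotent_map _ hB) (h.map_mk' N) h1
    refine ⟨M.comap (QuotientGroup.mk' N), inferInstance, fun h' => hM1 ?_,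
      hle.imp map_le_iff_le_comap.1 map_le_iff_le_comap.1⟩
    rw [← map_comap_eq_self_of_surjective (QuotientGroup.mk'_surjective N) M, h',
      map_top_of_surjective _ (QuotientGroup.mk'_surjective N)]
  rw [not_or, not_not, not_not] at h1
  have key : ∀ X : Subgroup G, X ≠ ⊤ → Group.IsNilpotent X → X.map (QuotientGroup.mk' N) = ⊤ →
      X.Normal ∨ IsCarterSubgroup X := fun X h1 h2 h3 => by
    rcases eq_or_eq_top_of_coatom (hN.isCoatom_of_sup_eq_top h1
      (by rw [sup_comm]; exact sup_eq_top_of_map_mk'_eq_top h3)) le_normalizer with h4 | h4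
    · exact Or.inr ⟨h2, h4⟩
    · exact Or.inl (normal_of_top_le_normalizer h4.ge)
  rcases key A hA1 hA h1.1 with h2 | h2
  · exact ⟨A, h2, hA1, Or.inl le_rfl⟩
  rcases key B hB1 hB h1.2 with h3 | h3
  · exact ⟨B, h3, hB1, Or.inr le_rfl⟩
  obtain ⟨g, rfl⟩ := exists_conj_carter ‹_› h2 h3
  exact absurd (h.of_conj_right.eq_left_of_le le_rfl).symm hA1

theorem eq_top_of_fac_of_sup_commutator_aux (G : Type u) [Group G] [Finite G] :
    ∀ A B : Subgroup G, IsMulCommutative A → Group.IsNilpotent B → Fac ⊤ A B →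
      A ⊔ ⁅B, B⁆ = ⊤ → A = ⊤ := by
  refine card_induction (P := fun G _ _ => ∀ A B : Subgroup G, IsMulCommutative A →
    Group.IsNilpotent B → Fac ⊤ A B → A ⊔ ⁅B, B⁆ = ⊤ → A = ⊤)
    (fun G _ _ ih A B hA hB h h1 => ?_) G
  by_contra hA1
  haveI := kegel_wielandt (isNilpotent_of_isMulCommutative A) hB h
  have hq : ∀ (N : Subgroup G) [N.Normal], N ≠ ⊥ → A ⊔ N = ⊤ := fun N _ hN =>
    sup_eq_top_of_map_mk'_eq_top (ih _ (H1.card_quotient_lt hN) _ _ inferInstance
      (H1.isNilpotent_map _ hB) (h.map_mk' N) (by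
        rw [← map_commutator, ← Subgroup.map_sup, h1,
          map_top_of_surjective _ (QuotientGroup.mk'_surjective N)]))
  have hc : A.normalCore = ⊥ := by
    by_contra h0
    exact hA1 ((sup_eq_left.2 A.normalCore_le).symm.trans (hq _ h0))
  haveI : Nontrivial G := by
    by_contra h
    rw [not_nontrivial_iff_subsingleton] at h
    exact hA1 (Subsingleton.elim _ _)
  obtain ⟨V, hV, hVa, p, hp, hVp⟩ := exists_isMinNormal_of_isSolvable (G := G)
  haveI := hV.normal
  haveI := Fact.mk hp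
  have h2 : V ⊔ A = ⊤ := by rw [sup_comm]; exact hq V hV.ne_bot
  have hA2 := hV.isCoatom_of_sup_eq_top hA1 h2
  have hpA : ¬ p ∣ Nat.card A := by
    obtain ⟨P, hP⟩ := H3.exists_sylowIn p A
    exact hP.eq_bot_iff.1 (ne_of_core hA2 hc hV.ne_bot hVp hP.1
      (le_normalizer_of_le_of_isMulCommutative hP.1) hP.2)
  have hVB : V ≤ B := le_of_fac_of_not_dvd_index h le_normalizer_of_normal hVp
    fun h' => hpA (h'.trans h.index_right_dvd)
  have h3 : A ⊓ B = ⊥ := by
    rw [eq_bot_iff, ← centralizer_inf_eq_bot_of_core hA2 hc hV.ne_bot]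
    exact le_inf (le_centralizer_of_coprime_of_isNilpotent hB inf_le_right hVB
      (H1.coprime_card_of_isPGroup hVp fun h' => hpA (h'.trans (card_dvd_of_le inf_le_left))).symm)
      inf_le_left
  have h4 := ((h2 ▸ fac_sup_normal_left V A).of_left_le hVB le_top).eq_left_of_le (h3 ▸ bot_le)
  rw [h4, commutator_self_eq_bot_iff.2 hVa, sup_bot_eq] at h1
  exact hA1 h1

end Cfsg.Agent.H2
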