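import Mathlib
import Cfsg.Agent.H16.Lin

/-! A certified backtrack search for families of subsets of `Fin n`, up to relabelling. -/

namespace Cfsg.Agent.H2.St

open Finset H16
open scoped symmDiff

/-- the set given by a mask -/
def fs (n m : ℕ) : Finset (Fin n) := univ.filter fun i => m.testBit i

variable {n : ℕ}

@[simp] theorem mem_fs {m : ℕ} {i : Fin n} : i ∈ fs n m ↔ m.testBit i = true := by simp [fs]

theorem fs_and (a b : ℕ) : fs n (a &&& b) = fs n a ∩ fs n b := by ext; simp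

theorem fs_xor (a b : ℕ) : fs n (a ^^^ b) = fs n a ∆ fs n b := by
  ext p; simp only [mem_fs, Nat.testBit_xor, mem_symmDiff]
  cases a.testBit p <;> cases b.testBit p <;> simp

theorem fs_zero : fs n 0 = ∅ := by ext; simp

theorem lt_of_testBit {m j : ℕ} (h : m < 2 ^ n) (hj : m.testBit j = true) : j < n :=
  (Nat.pow_lt_pow_iff_right one_lt_two).1 ((Nat.ge_two_pow_of_testBit hj).trans_lt h)

theorem card_fs (hn : n ≤ 24) {m : ℕ} (h : m < 2 ^ n) : #(fs n m) = pc24 m := by
  rw [pc24_eq, pcS_eq, ← card_map Fin.valEmbedding]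
  congr 1; ext j
  simp only [mem_map, mem_fs, Fin.valEmbedding_apply, mem_filter, mem_range]
  exact ⟨fun ⟨i, h, e⟩ => ⟨by omega, e ▸ h⟩, fun ⟨_, hj⟩ => ⟨⟨j, lt_of_testBit h hj⟩, hj, rfl⟩⟩

theorem fs_inj {a b : ℕ} (ha : a < 2 ^ n) (hb : b < 2 ^ n) (h : fs n a = fs n b) : a = b :=
  Nat.eq_of_testBit_eq fun j => Bool.eq_iff_iff.2
    ⟨fun hj => mem_fs.1 (h ▸ mem_fs.2 hj : (⟨j, lt_of_testBit ha hj⟩ : Fin n) ∈ fs n b),
    fun hj => mem_fs.1 (h ▸ mem_fs.2 hj : (⟨j, lt_of_testBit hb hj⟩ : Fin n) ∈ fs n a)⟩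

/-- all ways of adding `r` bits below `n` -/
noncomputable def sub (f : ℕ → Bool) (n : ℕ) : ℕ → ℕ → Bool :=
  Nat.rec (fun r a => ifB (Nat.beq r 0) (f a) true)
    (fun i ih r a => ifB (Nat.beq r 0) (f a)
      (ifB (ih r a) (ifB (tb a i) true (force (Nat.lor a (bit i)) (ih (Nat.pred r)))) false)) n

theorem sub_spec {f : ℕ → Bool} (n : ℕ) : ∀ r a, sub f n r a = true → ∀ u : Finset ℕ,
    (∀ i ∈ u, i < n ∧ ¬ a.testBit i = true) → #u = r →
    ∃ c, f c = true ∧ ∀ j, c.testBit j = true ↔ a.testBit j = true ∨ j ∈ u := by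
  induction n with
  | zero =>
    intro r a h u hu hr
    obtain rfl : u = ∅ := eq_empty_of_forall_notMem fun i hi => (hu i hi).1.not_ge i.zero_le
    obtain rfl : r = 0 := hr.symm
    exact ⟨a, (if_pos rfl).symm.trans ((ifB_eq _ _ _).symm.trans h), by simp⟩
  | succ n ih =>
    intro r a h u hu hr
    change ifB _ _ (ifB (sub f n r a) (ifB _ _ (force _ (sub f n _))) _) = true at h
    simp only [ifB_eq, force_eq, tb_eq, Nat.beq_eq] at h
    split_ifs at h with h1 h2 h3
    · obtain rfl := card_eq_zero.1 (hr.trans h1)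
      exact ⟨a, h, by simp⟩
    all_goals by_cases h4 : n ∈ u
    · exact absurd h3 (hu n h4).2
    on_goal 2 =>
      obtain ⟨c, h5, h6⟩ := ih _ _ h (u.erase n) (fun i hi => by
        have := hu i (mem_of_mem_erase hi)
        have := ne_of_mem_erase hi
        exact ⟨by omega, by simp [Nat.lor_eq, testBit_bit, *]⟩) (by rw [card_erase_of_mem h4, hr]; rfl)
      refine ⟨c, h5, fun j => ?_⟩
      simp only [h6, Nat.lor_eq, Nat.testBit_or, Bool.or_eq_true, testBit_bit, mem_erase]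
      grind
    all_goals exact ih _ _ h2 u (fun i hi => ⟨lt_of_le_of_ne (Nat.le_of_lt_succ (hu i hi).1)
      fun e => h4 (e ▸ hi), (hu i hi).2⟩) hr

/-- xor of the selected entries -/
noncomputable def comb (L : List ℕ) : ℕ → ℕ :=
  List.rec (fun _ => 0) (fun a _ ih x => Nat.xor (ifB (tb x 0) a 0) (force (Nat.shiftRight x 1) ih)) L

/-- image of a mask under a packed map -/
noncomputable def img (n p m : ℕ) : ℕ := orN n fun i => ifB (tb m i) (bit (get 5 p i)) 0

theorem testBit_img (p m j : ℕ) :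
    (img n p m).testBit j = true ↔ ∃ i < n, m.testBit i = true ∧ get 5 p i = j := by
  rw [img, testBit_orN]
  refine exists_congr fun i => and_congr_right fun _ => ?_
  rw [ifB_eq, tb_eq]
  split_ifs with h
  · rw [testBit_bit, eq_comm, and_iff_right h]
  · simp [h]

theorem exists_perm {p : ℕ} (h : img n p (2 ^ n - 1) = 2 ^ n - 1) : ∃ π : Equiv.Perm (Fin n),
    (∀ i, (π i : ℕ) = get 5 p i) ∧ ∀ m, (fs n m).map π.toEmbedding = fs n (img n p m) := by
  have h1 := fun j => testBit_img (n := n) p (2 ^ n - 1) j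
  simp only [h, Nat.testBit_two_pow_sub_one, decide_eq_true_eq] at h1
  refine ⟨Equiv.ofBijective (fun i => ⟨get 5 p i, (h1 _).2 ⟨i, i.2, i.2, rfl⟩⟩)
    (Finite.surjective_iff_bijective.1 fun j => ?_), fun _ => rfl, fun m => ?_⟩
  · obtain ⟨i, a, -, e⟩ := (h1 j).1 j.2
    exact ⟨⟨i, a⟩, Fin.ext e⟩
  · ext j
    simp only [mem_map, mem_fs, testBit_img]
    exact ⟨fun ⟨i, a, e⟩ => ⟨i, i.2, a, congrArg Fin.val e⟩, fun ⟨i, a, b, e⟩ => ⟨⟨i, a⟩, b, Fin.ext e⟩⟩

/-- search trees -/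
inductive T
  | leaf (p xs : ℕ)
  | dead (x : ℕ)
  | br (s : ℕ) (sw : List ℕ) (kids : T)
  | cons (c : ℕ) (t rest : T)
  | nil

/-- problem data -/
structure Pr where
  (n t k q : ℕ)
  (cl : Bool)
  (ok1 : ℕ → Bool)
  (ok2 : ℕ → ℕ → Bool)
  (gens : List ℕ)

noncomputable def T.has (t : T) (c : ℕ) : Bool :=
  T.rec (fun _ _ => false) (fun _ => false) (fun _ _ _ _ => false)
    (fun a _ _ _ ih => ifB (Nat.beq a c) true ih) false t

noncomputable def T.isN (t : T) : Bool :=
  T.rec (fun _ _ => true) (fun _ => true) (fun _ _ _ _ => true) (fun _ _ _ _ _ => false) false t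

noncomputable def Pr.leaf (P : Pr) (p : ℕ) (L : List ℕ) : ℕ → Bool :=
  List.rec (fun _ => true) (fun g _ ih xs => force (img P.n p g) fun m =>
    ifB (ifB P.cl (Nat.beq (comb L (Nat.land xs 16777215)) m) (ifB (allL L fun a => ifB (Nat.beq a m) false true) false true))
      (force (Nat.shiftRight xs 24) ih) false) P.gens

noncomputable def Pr.chk (P : Pr) (t : T) : List ℕ → Bool :=
  T.rec
    (fun p xs L => ifB (Nat.beq (img P.n p (2 ^ P.n - 1)) (2 ^ P.n - 1))
      (ifB (allB P.q fun i => Nat.beq (get 5 p i) i) (P.leaf p L xs) false) false)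
    (fun x L => ifB P.cl (ifB (P.ok1 (comb L x)) false true) false)
    (fun s sw kids ih L => ifB (Nat.beq (pc24 s) P.t) (ifB (Nat.blt s (2 ^ P.n))
      (ifB (allL sw fun e => ifB (Nat.ble P.q (e % 32)) (ifB (Nat.blt (e % 32) (e / 32)) (ifB (Nat.blt (e / 32) P.n)
        (allL (s :: L) fun m => ifB (tb m (e % 32)) (tb m (e / 32)) (ifB (tb m (e / 32)) false true)) false) false) false)
      (ifB (sub (fun c => ifB (allL sw fun e => ifB (tb c (Nat.shiftRight e 5)) (tb c (Nat.land e 31)) true)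
        (ifB (P.ok1 c) (ifB (allL L fun m => P.ok2 m c) (kids.has c) true) true) true) P.n (P.k - P.t) s)
        (ih L) false) false) false) false)
    (fun c t _ ih ih' L => ifB t.isN (ifB (ih (c :: L)) (ih' L) false) false) (fun _ => true) t

variable {α β : Type*}

/-- transport of a family of sets -/
def tr (e : α ≃ β) (B : Set (Finset β)) : Set (Finset α) := {s | s.map e.toEmbedding ∈ B}

def Pr.In (P : Pr) (L : List ℕ) (B : Set (Finset (Fin P.n))) : Prop := ∀ m ∈ L, m < 2 ^ P.n ∧ fs _ m ∈ B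

def Pr.Goal (P : Pr) (B : Set (Finset (Fin P.n))) : Prop :=
  ∃ π : Equiv.Perm (Fin P.n), (∀ i : Fin P.n, i < P.q → π i = i) ∧ ∀ g ∈ P.gens, fs _ g ∈ tr π B

structure Pr.Ok (P : Pr) (K : Set (Finset (Fin P.n)) → Prop) : Prop where
  hn : P.n ≤ 24
  inv : ∀ B (π : Equiv.Perm (Fin P.n)), (∀ i : Fin P.n, i < P.q → π i = i) → K B → K (tr π B)
  cov : ∀ B, K B → ∀ s, #s = P.t → ∃ c ∈ B, s ⊆ c ∧ #c = P.k
  cl : P.cl = true → ∀ B, K B → ∅ ∈ B ∧ ∀ a ∈ B, ∀ b ∈ B, a ∆ b ∈ B
  ok1 : ∀ B, K B → ∀ a < 2 ^ P.n, fs _ a ∈ B → P.ok1 a = true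
  ok2 : ∀ B, K B → ∀ a < 2 ^ P.n, ∀ b < 2 ^ P.n, fs _ a ∈ B → fs _ b ∈ B → P.ok2 a b = true

variable {P : Pr} {K : Set (Finset (Fin P.n)) → Prop}

theorem Pr.Ok.comb (h : P.Ok K) (hc : P.cl = true) {B} (hB : K B) {L : List ℕ} (hL : P.In L B) (x : ℕ) :
    comb L x < 2 ^ P.n ∧ fs _ (comb L x) ∈ B := by
  have h0 : 0 < 2 ^ P.n ∧ fs P.n 0 ∈ B := ⟨Nat.two_pow_pos _, fs_zero (n := P.n) ▸ (h.cl hc B hB).1⟩
  induction L generalizing x with
  | nil => exact h0
  | cons a L ih =>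
    have h1 := ih (fun m hm => hL m (List.mem_cons_of_mem _ hm)) (x >>> 1)
    have h2 : ifB (tb x 0) a 0 < 2 ^ P.n ∧ fs P.n (ifB (tb x 0) a 0) ∈ B := by
      rw [ifB_eq]; split_ifs
      exacts [hL a List.mem_cons_self, h0]
    change (_ ^^^ force _ (St.comb L)) < _ ∧ fs _ (_ ^^^ force _ (St.comb L)) ∈ B
    rw [force_eq, fs_xor]
    exact ⟨Nat.xor_lt_two_pow h2.1 h1.1, (h.cl hc B hB).2 _ h2.2 _ h1.2⟩

theorem Pr.Ok.sound (h : P.Ok K) (t : T) : ∀ L, P.chk t L = true →
    (∀ c, t.has c = true → ∀ B, K B → P.In (c :: L) B → P.Goal B) ∧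
    (t.isN = true → ∀ B, K B → P.In L B → P.Goal B) := by
  induction t with
  | leaf p xs =>
    refine fun L H => ⟨fun _ => nofun, fun h0 B hB hL => ?_⟩
    clear h0
    change ifB _ (ifB _ _ _) _ = true at H
    simp only [ifB_eq, Nat.beq_eq, allB_iff, Bool.if_false_right, Bool.and_eq_true, decide_eq_true_eq] at H
    obtain ⟨π, h1, h2⟩ := exists_perm H.1
    refine ⟨π, fun i hi => Fin.ext ((h1 i).trans (H.2.1 i hi)), ?_⟩
    have h3 := H.2.2
    unfold Pr.leaf at h3
    generalize P.gens = l at h3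
    clear H
    induction l generalizing xs with
    | nil => simp
    | cons g l ih =>
      simp only [force_eq, ifB_eq, Bool.if_false_right, Bool.and_eq_true, decide_eq_true_eq] at h3 ih
      refine List.forall_mem_cons.2 ⟨?_, ih _ h3.2⟩
      change _ ∈ B
      rw [h2]
      have h4 := h3.1
      split_ifs at h4 with h5 h6
      · exact Nat.eq_of_beq_eq_true h4 ▸ (h.comb h5 hB hL _).2
      · simp only [allL_iff, not_forall] at h6
        obtain ⟨a, ha, e⟩ := h6
        exact (by simpa using e : a = _) ▸ (hL a ha).2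
  | dead x =>
    refine fun L H => ⟨fun _ => nofun, fun _ B hB hL => ?_⟩
    change ifB _ _ _ = true at H
    simp only [ifB_eq, Bool.if_false_right, Bool.and_eq_true, decide_eq_true_eq] at H
    have := h.comb H.1 hB hL x
    simp [h.ok1 B hB _ this.1 this.2] at H
  | nil => exact fun L _ => ⟨fun _ => nofun, nofun⟩
  | cons c t r ih ih' =>
    refine fun L H => ⟨fun a ha => ?_, nofun⟩
    change ifB _ (ifB (P.chk t _) (P.chk r _) _) _ = true at H
    change ifB _ _ (r.has a) = true at ha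
    simp only [ifB_eq, Nat.beq_eq, Bool.if_false_right, Bool.and_eq_true, decide_eq_true_eq] at H ha
    split_ifs at ha with e
    · exact e ▸ (ih _ H.2.1).2 H.1
    · exact (ih' _ H.2.2).1 a ha
  | br s sw r ih =>
    refine fun L H => ⟨fun _ => nofun, fun _ B hB hL => ?_⟩
    change ifB _ (ifB _ (ifB _ (ifB _ (P.chk r _) _) _) _) _ = true at H
    simp only [ifB_eq, Nat.beq_eq, Bool.if_false_right, Bool.and_eq_true, decide_eq_true_eq, allL_iff,
      Nat.blt_eq, Nat.ble_eq, tb_eq] at H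
    obtain ⟨h1, h2, h3, h4, h5⟩ := H
    rw [← card_fs h.hn h2] at h1
    obtain ⟨c, c1, c2, c3⟩ := h.cov B hB _ h1
    induction' hw : ∑ i ∈ c, (i : ℕ) using Nat.strong_induction_on with w IH generalizing B c
    obtain ⟨m, m1, m2⟩ := sub_spec _ _ _ h4 ((c \ fs _ s).map Fin.valEmbedding) (fun i hi => by
      obtain ⟨j, hj, rfl⟩ := mem_map.1 hi
      exact ⟨j.2, mt mem_fs.2 (mem_sdiff.1 hj).2⟩) (by rw [card_map, card_sdiff_of_subset c2, h1, c3])
    have m3 : m < 2 ^ P.n := lt_two_pow_of_bits fun j hj => ((m2 j).1 hj).elim (lt_of_testBit h2) fun hj => by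
      obtain ⟨j, -, rfl⟩ := mem_map.1 hj
      exact j.2
    obtain rfl : fs _ m = c := by
      ext j
      have := @c2 j
      simp only [mem_fs, m2, mem_map, mem_sdiff, Fin.valEmbedding_apply, Fin.val_inj, exists_eq_right] at this ⊢
      tauto
    split_ifs at m1 with a1 a2 a3
    · exact (ih _ h5).1 m m1 B hB (List.forall_mem_cons.2 ⟨⟨m3, c1⟩, hL⟩)
    · exact absurd (fun a ha => h.ok2 B hB _ (hL a ha).1 _ m3 (hL a ha).2 c1) a3
    · exact absurd (h.ok1 B hB _ m3 c1) a2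
    simp only [not_forall] at a1
    obtain ⟨e, he, a1⟩ := a1
    obtain ⟨b1, b2, b3, b4⟩ := h3 e he
    rw [show e.shiftRight 5 = e / 32 from Nat.shiftRight_eq_div_pow e 5,
      show e.land 31 = e % 32 from Nat.and_two_pow_sub_one_eq_mod e 5] at a1
    set i : Fin P.n := ⟨e % 32, b2.trans b3⟩
    set j : Fin P.n := ⟨e / 32, b3⟩
    have a2 : j ∈ fs _ m ∧ i ∉ fs _ m := by simpa using a1
    have hq : ∀ x : Fin P.n, x < P.q → Equiv.swap i j x = x := fun x hx =>
      Equiv.swap_apply_of_ne_of_ne (fun e => by simp [e, i] at hx; omega) fun e => by simp [e, j] at hx; omega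
    have hs : ∀ a ∈ s :: L, (fs _ a).map (Equiv.swap i j).toEmbedding = fs _ a := fun a ha => by
      have : i ∈ fs _ a ↔ j ∈ fs _ a := by have := b4 a ha; simp only [mem_fs]; grind
      ext x
      rw [mem_map_equiv, Equiv.symm_swap, Equiv.swap_apply_def]
      grind
    have e1 : (fs _ m).map (Equiv.swap i j).toEmbedding = insert i ((fs _ m).erase j) := by
      ext x
      rw [mem_map_equiv, Equiv.symm_swap, Equiv.swap_apply_def]
      grind
    obtain ⟨π, p1, p2⟩ := IH _ (by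
        rw [← hw, e1, sum_insert (by simp [a2.2]), ← add_sum_erase _ _ a2.1]
        exact Nat.add_lt_add_right b2 _) (tr (Equiv.swap i j) B) (h.inv B _ hq hB)
      (fun a ha => ⟨(hL a ha).1, by rw [tr, Set.mem_setOf, hs a (List.mem_cons_of_mem _ ha)]; exact (hL a ha).2⟩)
      ((fs _ m).map (Equiv.swap i j).toEmbedding) (by rwa [tr, Set.mem_setOf, map_map,
        ← Equiv.trans_toEmbedding, Equiv.swap_swap, Equiv.refl_toEmbedding, map_refl])
      (hs s List.mem_cons_self ▸ map_subset_map.2 c2) (by rw [card_map, c3]) rfl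
    exact ⟨π.trans (Equiv.swap i j), fun x hx => by simp [p1 x hx, hq x hx],
      fun g hg => by simpa [tr, map_map] using p2 g hg⟩

theorem Pr.Ok.goal (h : P.Ok K) (t : T) {L : List ℕ} (H : ifB t.isN (P.chk t L) false = true) {B}
    (hB : K B) (hL : P.In L B) : P.Goal B := by
  simp only [ifB_eq, Bool.if_false_right, Bool.and_eq_true, decide_eq_true_eq] at H
  exact (h.sound t L H.2).2 H.1 B hB hL

end Cfsg.Agent.H2.St
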