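import Mathlib
import Cfsg.Agent.H16.SteinerCount

/-! Intersection triangle and moment equations of Steiner systems. -/

namespace Cfsg.Agent.H2.St

open Cfsg Finset H16
open scoped Classical

variable {α : Type*} [Fintype α] [DecidableEq α] {t k : ℕ} {B : Set (Finset α)}

/-- number of blocks containing `I` and missing `J` -/
noncomputable def lam (B : Set (Finset α)) (I J : Finset α) : ℕ :=
  #{c ∈ blocksF B | I ⊆ c ∧ Disjoint c J}

theorem lam_rec (I J : Finset α) (x : α) : lam B I J = lam B (insert x I) J + lam B I (insert x J) := by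
  rw [lam, ← card_filter_add_card_filter_not (x ∈ ·), filter_filter, filter_filter]
  congr 2 <;> ext c <;> simp [insert_subset_iff] <;> tauto

/-- number of blocks through `i` points (of a block, if `t < i`) -/
def lv (t k v i : ℕ) : ℕ := if i ≤ t then (v - i).choose (t - i) / (k - i).choose (t - i) else 1

/-- the intersection triangle -/
def tri (f : ℕ → ℕ) : ℕ → ℕ → ℕ
  | i, 0 => f i
  | i, j + 1 => tri f i j - tri f (i + 1) j

theorem lam_empty (hB : IsSteinerSystem t k B) (htk : t ≤ k) {I : Finset α} (hI : #I ≤ t ∨ ∃ b ∈ B, I ⊆ b) :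
    lam B I ∅ = lv t k (Fintype.card α) #I := by
  unfold lv
  split_ifs with h
  · refine (Nat.div_eq_of_eq_mul_left (Nat.choose_pos (by omega)) ?_).symm
    have := sum_card_bipartiteAbove_eq_sum_card_bipartiteBelow (s := powersetCard (t - #I) Iᶜ)
      (t := {c ∈ blocksF B | I ⊆ c ∧ Disjoint c ∅}) (· ⊆ ·)
    rw [sum_congr rfl (g := fun _ => 1), eq_comm, sum_congr rfl (g := fun _ => (k - #I).choose (t - #I))] at this
    · simpa [card_compl, lam] using this.symm
    · intro c hc
      simp only [mem_filter, mem_blocksF] at hc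
      rw [← hB.1 c hc.1, ← card_sdiff_of_subset hc.2.1, ← card_powersetCard]
      congr 1; ext s; simp [subset_sdiff, subset_compl_iff_disjoint_right]; tauto
    · intro s hs
      rw [mem_powersetCard, subset_compl_iff_disjoint_right] at hs
      rw [← steiner_filter_card hB (s := s ∪ I) (by rw [card_union_of_disjoint hs.1]; omega)]
      congr 1; ext c; simp [union_subset_iff]; tauto
  obtain ⟨b, hb, hI⟩ := hI.resolve_left h
  refine card_eq_one.2 ⟨b, eq_singleton_iff_unique_mem.2 ⟨by simp [hb, hI], fun c hc => ?_⟩⟩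
  simp only [mem_filter, mem_blocksF] at hc
  exact steiner_eq_of_inter hB hc.1 hb ((not_le.1 h).le.trans (card_le_card (subset_inter hc.2.1 hI)))

theorem lam_eq (hB : IsSteinerSystem t k B) (htk : t ≤ k) {w : Finset α} (hw : #w ≤ t ∨ w ∈ B)
    (J : Finset α) : ∀ I ⊆ w, J ⊆ w → Disjoint I J → lam B I J = tri (lv t k (Fintype.card α)) #I #J := by
  induction J using Finset.induction_on with
  | empty => exact fun I hI _ _ => lam_empty hB htk (hw.imp (card_le_card hI).trans fun h => ⟨w, h, hI⟩)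
  | insert x J hx ih =>
    intro I hI hJ hd
    rw [insert_subset_iff] at hJ
    rw [disjoint_insert_right] at hd
    rw [card_insert_of_notMem hx, tri, ← ih I hI hJ.2 hd.2, ← card_insert_of_notMem hd.1,
      ← ih _ (insert_subset hJ.1 hI) hJ.2 (disjoint_insert_left.2 ⟨hx, hd.2⟩), lam_rec I J x,
      Nat.add_sub_cancel_left]

theorem ncard_inter (hB : IsSteinerSystem t k B) (htk : t ≤ k) {w s : Finset α} (hw : #w ≤ t ∨ w ∈ B)
    (hs : s ⊆ w) : {c | c ∈ B ∧ w ∩ c = s}.ncard = tri (lv t k (Fintype.card α)) #s (#w - #s) := by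
  rw [← card_sdiff_of_subset hs, ← lam_eq hB htk hw _ s hs sdiff_subset disjoint_sdiff, lam,
    ← Set.ncard_coe_finset]
  congr 1; ext c
  simp only [coe_filter, mem_blocksF, Set.mem_setOf_eq, and_congr_right_iff, Finset.ext_iff, mem_inter,
    disjoint_left, mem_sdiff, subset_iff] at hs ⊢
  grind

theorem tri_ne_zero (hB : IsSteinerSystem t k B) (htk : t ≤ k) {b c : Finset α} (hb : b ∈ B) (hc : c ∈ B)
    (h : b ≠ c) : #(b ∩ c) < t ∧ tri (lv t k (Fintype.card α)) #(b ∩ c) (k - #(b ∩ c)) ≠ 0 := by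
  refine ⟨not_le.1 (mt (steiner_eq_of_inter hB hb hc) h), ?_⟩
  have := ncard_inter hB htk (.inr hb) (inter_subset_left (s₂ := c))
  rw [hB.1 b hb] at this
  rw [← this]
  exact Set.ncard_ne_zero_of_mem (a := c) ⟨hc, rfl⟩

theorem exists_inter (hB : IsSteinerSystem t k B) (htk : t ≤ k) {w s : Finset α} (hw : #w ≤ t ∨ w ∈ B)
    (hs : s ⊆ w) (h : tri (lv t k (Fintype.card α)) #s (#w - #s) ≠ 0) : ∃ c ∈ B, w ∩ c = s :=
  Set.nonempty_of_ncard_ne_zero (ncard_inter hB htk hw hs ▸ h)

/-- number of blocks meeting `w` in `j` points -/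
noncomputable def nb (B : Set (Finset α)) (w : Finset α) (j : ℕ) : ℕ := {c | c ∈ B ∧ #(c ∩ w) = j}.ncard

theorem moment (hB : IsSteinerSystem t k B) (htk : t ≤ k) (w : Finset α) {m : ℕ} (hm : k < m ∨ #w < m)
    {i : ℕ} (hi : i ≤ t) :
    ∑ j ∈ range m, nb B w j * j.choose i = (#w).choose i * lv t k (Fintype.card α) i := by
  have := sum_card_bipartiteAbove_eq_sum_card_bipartiteBelow (s := powersetCard i w) (t := blocksF B) (· ⊆ ·)
  rw [sum_congr rfl (g := fun _ => lv t k (Fintype.card α) i), sum_const, card_powersetCard, smul_eq_mul,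
    ← sum_fiberwise_of_maps_to (t := range m) (g := fun c => #(c ∩ w))] at this
  · rw [this]
    refine sum_congr rfl fun j _ => ?_
    rw [sum_congr rfl (g := fun _ => j.choose i), sum_const, smul_eq_mul, nb, ← Set.ncard_coe_finset]
    · congr 2; ext; simp
    · intro c hc
      rw [← (mem_filter.1 hc).2, ← card_powersetCard]
      congr 1; ext s; simp [subset_inter_iff]; tauto
  · intro c hc
    have := hB.1 c (mem_blocksF.1 hc)
    have := card_le_card (inter_subset_left (s₁ := c) (s₂ := w))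
    have := card_le_card (inter_subset_right (s₁ := c) (s₂ := w))
    exact mem_range.2 (by omega)
  · intro s hs
    rw [mem_powersetCard] at hs
    rw [← hs.2, ← lam_empty hB htk (.inl (hs.2 ▸ hi)), lam]
    congr 1; ext; simp

theorem nb_eq_zero {w : Finset α} {j : ℕ} (h : ∀ c ∈ B, #(c ∩ w) ≠ j) : nb B w j = 0 := by
  rw [nb, Set.ncard_eq_zero]; ext c; simpa using h c

variable {b c : Finset α}

theorem inter24 (hα : Fintype.card α = 24) (hB : IsSteinerSystem 5 8 B) (hb : b ∈ B) (hc : c ∈ B)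
    (h : b ≠ c) : #(b ∩ c) = 0 ∨ #(b ∩ c) = 2 ∨ #(b ∩ c) = 4 := by
  obtain ⟨h1, h2⟩ := tri_ne_zero hB (by omega) hb hc h
  rw [hα] at h2
  generalize #(b ∩ c) = i at *
  interval_cases i <;> first | omega | exact absurd (by decide +kernel) h2

theorem inter23 (hα : Fintype.card α = 23) (hB : IsSteinerSystem 4 7 B) (hb : b ∈ B) (hc : c ∈ B)
    (h : b ≠ c) : #(b ∩ c) = 1 ∨ #(b ∩ c) = 3 := by
  obtain ⟨h1, h2⟩ := tri_ne_zero hB (by omega) hb hc h
  rw [hα] at h2
  generalize #(b ∩ c) = i at *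
  interval_cases i <;> first | omega | exact absurd (by decide +kernel) h2

theorem inter22 (hα : Fintype.card α = 22) (hB : IsSteinerSystem 3 6 B) (hb : b ∈ B) (hc : c ∈ B)
    (h : b ≠ c) : #(b ∩ c) = 0 ∨ #(b ∩ c) = 2 := by
  obtain ⟨h1, h2⟩ := tri_ne_zero hB (by omega) hb hc h
  rw [hα] at h2
  generalize #(b ∩ c) = i at *
  interval_cases i <;> first | omega | exact absurd (by decide +kernel) h2

theorem inter21 (hα : Fintype.card α = 21) (hB : IsSteinerSystem 2 5 B) (hb : b ∈ B) (hc : c ∈ B)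
    (h : b ≠ c) : #(b ∩ c) = 1 := by
  obtain ⟨h1, h2⟩ := tri_ne_zero hB (by omega) hb hc h
  rw [hα] at h2
  generalize #(b ∩ c) = i at *
  interval_cases i <;> first | omega | exact absurd (by decide +kernel) h2

theorem inter12 (hα : Fintype.card α = 12) (hB : IsSteinerSystem 5 6 B) (hb : b ∈ B) (hc : c ∈ B)
    (h : b ≠ c) : #(b ∩ c) = 0 ∨ #(b ∩ c) = 2 ∨ #(b ∩ c) = 3 ∨ #(b ∩ c) = 4 := by
  obtain ⟨h1, h2⟩ := tri_ne_zero hB (by omega) hb hc h
  rw [hα] at h2
  generalize #(b ∩ c) = i at *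
  interval_cases i <;> first | omega | exact absurd (by decide +kernel) h2

end Cfsg.Agent.H2.St
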