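import Mathlib
import Cfsg.Agent.H2.Eng
import Cfsg.Agent.H2.St1
import Cfsg.Agent.H2.Deg11

/-! Strong uniqueness of `S(4,5,11)`, `S(5,6,12)` and of the plane of order 4 with a hyperoval. -/

namespace Cfsg.Agent.H2.St

open Cfsg Finset H16 MulAction
open scoped Pointwise

variable {α β γ : Type*} {t k : ℕ}

theorem mem_tr {e : α ≃ β} {B : Set (Finset β)} {s : Finset α} : s ∈ tr e B ↔ s.map e.toEmbedding ∈ B := Iff.rfl

theorem tr_tr (e : α ≃ β) (f : β ≃ γ) (B : Set (Finset γ)) : tr e (tr f B) = tr (e.trans f) B := by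
  ext; simp [mem_tr, map_map]

theorem tr_refl (B : Set (Finset α)) : tr (Equiv.refl α) B = B := by ext; simp [mem_tr]

theorem map_symm_map (e : α ≃ β) (s : Finset β) : (s.map e.symm.toEmbedding).map e.toEmbedding = s := by
  ext; simp

theorem tr_trans_symm {e : γ ≃ α} {f : γ ≃ β} {B : Set (Finset α)} {B' : Set (Finset β)}
    (h : tr e B = tr f B') : tr (e.symm.trans f) B' = B := by
  rw [← tr_tr, ← h, tr_tr, e.symm_trans_self, tr_refl]

theorem steiner_tr (e : α ≃ β) {B : Set (Finset β)} (hB : IsSteinerSystem t k B) :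
    IsSteinerSystem t k (tr e B) := by
  refine ⟨fun b hb => by rw [← hB.1 _ hb, card_map], fun s hs => ?_⟩
  obtain ⟨b, ⟨h1, h2⟩, h3⟩ := hB.2 (s.map e.toEmbedding) (by rw [card_map, hs])
  refine ⟨b.map e.symm.toEmbedding, ⟨by rwa [mem_tr, map_symm_map], map_subset_map.1 (by rwa [map_symm_map])⟩,
    fun c hc => map_injective e.toEmbedding ?_⟩
  rw [map_symm_map, h3 _ ⟨hc.1, map_subset_map.2 hc.2⟩]

theorem iso_iff [DecidableEq β] {B : Set (Finset α)} {B' : Set (Finset β)} :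
    SetSystemIso B B' ↔ ∃ e : α ≃ β, tr e B' = B := by
  refine exists_congr fun e => ?_
  have h : ∀ b : Finset α, b.image e = b.map e.toEmbedding := fun b => (map_eq_image e.toEmbedding b).symm
  simp only [h]
  constructor
  · rintro rfl
    exact Set.preimage_image_eq _ (map_injective _)
  · rintro rfl
    exact Set.image_preimage_eq _ fun s => ⟨_, map_symm_map e s⟩

theorem smul_eq_map [DecidableEq α] (σ : Equiv.Perm α) (s : Finset α) : σ • s = s.map σ.toEmbedding :=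
  (map_eq_image σ.toEmbedding s).symm

theorem mem_aut [DecidableEq α] {B : Set (Finset α)} {σ : Equiv.Perm α} :
    σ ∈ setSystemAut B ↔ tr σ B = B := by
  rw [← inv_mem_iff, mem_stabilizer_iff]
  simp only [Set.ext_iff, Set.mem_inv_smul_set_iff, smul_eq_map, mem_tr]

theorem mem_aut_of [Fintype α] [DecidableEq α] {B : Set (Finset α)} {σ : Equiv.Perm α}
    (h : ∀ b ∈ B, σ • b ∈ B) : σ ∈ setSystemAut B :=
  Set.eq_of_subset_of_ncard_le (by rintro _ ⟨b, hb, rfl⟩; exact h b hb) (Set.ncard_smul_set _ _).ge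

theorem smul_mem_of_aut [DecidableEq α] {B : Set (Finset α)} {σ : Equiv.Perm α} (h : σ ∈ setSystemAut B)
    {b : Finset α} (hb : b ∈ B) : σ • b ∈ B := (h : σ • B = B) ▸ Set.smul_mem_smul_set hb

theorem steiner_eq [Fintype α] [DecidableEq α] {B B' : Set (Finset α)} (hB : IsSteinerSystem t k B)
    (htk : t ≤ k) (h : B' ⊆ B) (h' : ∀ s, #s = t → ∃ b ∈ B', s ⊆ b) : B = B' := by
  refine (h.antisymm fun c hc => ?_).symm
  obtain ⟨s, h1, h2⟩ := exists_subset_card_eq (htk.trans_eq (hB.1 c hc).symm)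
  obtain ⟨b, h3, h4⟩ := h' s h2
  rwa [steiner_eq_of_inter hB hc (h h3) (h2 ▸ card_le_card (subset_inter h1 h4))]

/-- the family given by a list of masks -/
def fam (n : ℕ) (l : List ℕ) : Set (Finset (Fin n)) := {s | ∃ g ∈ l, fs n g = s}

theorem sub_all {n r : ℕ} {f : ℕ → Bool} (h : sub f n r 0 = true) (s : Finset (Fin n)) (hs : #s = r) :
    ∃ m < 2 ^ n, f m = true ∧ fs n m = s := by
  obtain ⟨c, h1, h2⟩ := sub_spec _ _ _ h (s.map Fin.valEmbedding) (fun i hi => by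
    obtain ⟨j, -, rfl⟩ := mem_map.1 hi
    simp) (by rw [card_map, hs])
  refine ⟨c, lt_two_pow_of_bits fun j hj => ?_, h1, by ext; simp [h2, Fin.val_inj]⟩
  obtain ⟨j, -, rfl⟩ := mem_map.1 (((h2 j).1 hj).resolve_left (by simp))
  exact j.2

theorem Pr.Ok.strong {P : Pr} {K : Set (Finset (Fin P.n)) → Prop} (h : P.Ok K) (T : T)
    (H : ifB T.isN (P.chk T []) false = true) (htk : P.t ≤ P.k)
    (H' : sub (fun s => ifB (allL P.gens fun g => ifB (Nat.beq (Nat.land s g) s) false true) false true)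
      P.n P.t 0 = true) [Fintype α] (hα : Fintype.card α = P.n) {B : Set (Finset α)}
    (hB : IsSteinerSystem P.t P.k B) (x : Fin P.q → α) (hx : x.Injective)
    (hK : ∀ e : Fin P.n ≃ α, (∀ i : Fin P.n, ∀ h : i < P.q, e i = x ⟨i, h⟩) → K (tr e B)) :
    ∃ e : Fin P.n ≃ α, (∀ i : Fin P.n, ∀ h : i < P.q, e i = x ⟨i, h⟩) ∧ tr e B = fam _ P.gens := by
  have hq : P.q ≤ P.n := by simpa [hα] using Fintype.card_le_of_injective x hx
  let e0 := (Fintype.equivFinOfCardEq hα).symm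
  obtain ⟨σ, hσ⟩ := Equiv.Perm.exists_extending_pair _ _ (e0.injective.comp (Fin.castLE_injective hq)) hx
  have h1 : ∀ i : Fin P.n, ∀ h : i < P.q, (e0.trans σ) i = x ⟨i, h⟩ := fun i h => hσ ⟨i, h⟩
  obtain ⟨π, h2, h3⟩ := h.goal T H (hK _ h1) nofun
  refine ⟨π.trans (e0.trans σ), fun i hi => by rw [Equiv.trans_apply, h2 i hi, h1], ?_⟩
  refine steiner_eq (steiner_tr _ hB) htk (by rintro _ ⟨g, hg, rfl⟩; exact tr_tr π _ B ▸ h3 g hg) fun s hs => ?_
  obtain ⟨m, -, h4, rfl⟩ := sub_all H' s hs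
  simp only [ifB_eq, Bool.if_false_left, allL_iff, Nat.beq_eq] at h4
  simp only [Bool.and_true, Bool.not_eq_eq_eq_not, Bool.not_true, decide_eq_false_iff_not, not_forall,
    not_not] at h4
  obtain ⟨g, hg, e⟩ := h4
  exact ⟨_, ⟨g, hg, rfl⟩, inter_eq_left.1 (by rw [← fs_and]; exact congrArg _ e)⟩

/-- intersection test -/
noncomputable def okI (W a b : ℕ) : Bool := tb W (pc24 (Nat.land a b))

theorem okI_of {n W a b : ℕ} (hn : n ≤ 24) (ha : a < 2 ^ n) (h : W.testBit #(fs n a ∩ fs n b) = true) :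
    okI W a b = true := by
  rwa [← fs_and, card_fs hn (Nat.and_le_left.trans_lt ha), ← tb_eq] at h

noncomputable def p11 : Pr := ⟨11, 4, 5, 4, false, fun _ => true, okI 46,
  [31, 103, 121, 171, 182, 213, 218, 236, 301, 314, 334, 339, 372, 391, 412, 433, 457, 482, 558, 565, 587, 604, 626, 653, 659, 696, 710, 737, 790, 793,
  803, 837, 872, 906, 932, 976, 1075, 1084, 1101, 1110, 1130, 1166, 1177, 1189, 1219, 1264, 1291, 1301, 1318, 1368, 1377, 1426, 1448, 1476, 1543, 1562,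
  1577, 1617, 1636, 1684, 1698, 1736, 1804, 1840, 1858, 1921]⟩

noncomputable def p12 : Pr := ⟨12, 5, 6, 5, false, fun _ => true, okI 93,
  [63, 207, 243, 252, 343, 365, 378, 414, 427, 437, 473, 486, 603, 622, 629, 669, 679, 698, 726, 745, 783, 822, 825, 860, 867, 915, 940, 965, 970, 1008,
  1117, 1131, 1142, 1175, 1198, 1209, 1242, 1253, 1307, 1319, 1340, 1358, 1393, 1421, 1458, 1475, 1492, 1512, 1566, 1581, 1587, 1607, 1656, 1675, 1716,
  1740, 1745, 1762, 1813, 1834, 1865, 1874, 1892, 1926, 1944, 1953, 2142, 2151, 2169, 2203, 2221, 2230, 2261, 2282, 2333, 2350, 2355, 2379, 2420, 2439,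
  2488, 2508, 2514, 2529, 2583, 2603, 2620, 2637, 2674, 2702, 2737, 2755, 2776, 2788, 2842, 2853, 2886, 2897, 2920, 2953, 2964, 2978, 3087, 3125, 3130,
  3155, 3180, 3228, 3235, 3270, 3273, 3312, 3350, 3369, 3397, 3416, 3426, 3466, 3473, 3492, 3609, 3622, 3658, 3668, 3681, 3717, 3730, 3752, 3843, 3852,
  3888, 4032]⟩

noncomputable def p21 : Pr := ⟨21, 2, 5, 6, false, okI 5 63, okI 34,
  [451, 3589, 12810, 49228, 67880, 86033, 132248, 172065, 262768, 288896, 300288, 458758, 528548, 559122, 599104, 672512, 1057044, 1066018, 1147520,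
  1185856, 1835017]⟩

set_option maxRecDepth 100000 in
def c11 : T := (.br 15 [164, 197, 230, 263, 296, 329] (.cons 31 (.br 39 [230, 263, 296, 329] (.cons 103 (.br 43 [263, 296, 329] (.cons 171 (.br 135 [296, 329] (.cons
  391 (.br 75 [329] (.cons 331 (.br 519 [] (.cons 1543 (.br 523 [] .nil) .nil)) (.cons 587 (.br 519 [] (.cons 1543 (.br 267 [] (.cons 1291 (.br 1059 []
  (.cons 1075 (.br 291 [] (.cons 803 (.br 275 [] (.cons 339 (.br 147 [] (.cons 659 (.br 195 [] (.cons 1219 (.br 45 [] (.cons 301 (.br 525 [] (.cons 653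
  (.br 77 [] (.cons 1101 (.br 549 [] (.cons 565 (.br 85 [] (.cons 213 (.br 277 [] (.cons 1301 (.br 165 [] (.cons 1189 (.br 325 [] (.cons 837 (.br 57 []
  (.cons 121 (.br 553 [] (.cons 1577 (.br 537 [] (.cons 793 (.br 153 [] (.cons 1177 (.br 201 [] (.cons 457 (.br 177 [] (.cons 433 (.br 593 [] (.cons
  1617 (.br 225 [] (.cons 737 (.br 353 [] (.cons 1377 (.br 897 [] (.cons 1921 (.br 46 [] (.cons 558 (.br 270 [] (.cons 334 (.br 142 [] (.cons 1166 (.br
  150 [] (.cons 182 (.br 278 [] (.cons 790 (.br 86 [] (.cons 1110 (.br 294 [] (.cons 1318 (.br 198 [] (.cons 710 (.br 58 [] (.cons 314 (.br 90 [] (.cons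
  218 (.br 538 [] (.cons 1562 (.br 106 [] (.cons 1130 (.br 394 [] (.cons 906 (.br 114 [] (.cons 626 (.br 402 [] (.cons 1426 (.br 226 [] (.cons 482 (.br
  674 [] (.cons 1698 (.br 834 [] (.cons 1858 (.br 60 [] (.cons 1084 (.br 92 [] (.cons 604 (.br 156 [] (.cons 412 (.br 108 [] (.cons 236 (.br 780 []
  (.cons 1804 (.br 116 [] (.cons 372 (.br 660 [] (.cons 1684 (.br 612 [] (.cons 1636 (.br 420 [] (.cons 932 (.br 452 [] (.cons 1476 (.br 184 [] (.cons
  696 (.br 344 [] (.cons 1368 (.br 360 [] (.cons 872 (.br 424 [] (.cons 1448 (.br 712 [] (.cons 1736 (.br 240 [] (.cons 1264 (.br 816 [] (.cons 1840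
  (.br 464 [] (.cons 976 (.leaf 11584701642934304 0) .nil)) .nil)) .nil)) .nil)) .nil)) .nil)) .nil)) .nil)) .nil)) .nil)) .nil)) .nil)) .nil)) .nil))
  .nil)) .nil)) .nil)) .nil)) .nil)) .nil)) .nil)) .nil)) .nil)) .nil)) .nil)) .nil)) .nil)) .nil)) .nil)) .nil)) .nil)) .nil)) .nil)) .nil)) .nil))
  (.cons 1070 (.br 142 [] (.cons 206 (.br 270 [] (.cons 782 (.br 278 [] (.cons 310 (.br 150 [] (.cons 1174 (.br 86 [] (.cons 598 (.br 166 [] (.cons 678
  (.br 326 [] (.cons 1350 (.br 58 [] (.cons 570 (.br 90 [] (.cons 1114 (.br 154 [] (.cons 410 (.br 106 [] (.cons 362 (.br 650 [] (.cons 1674 (.br 114 []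
  (.cons 242 (.br 786 [] (.cons 1810 (.br 610 [] (.cons 1634 (.br 418 [] (.cons 1442 (.br 450 [] (.cons 962 (.br 60 [] (.cons 188 (.br 92 [] (.cons 348
  (.br 540 [] (.cons 1564 (.br 108 [] (.cons 620 (.br 396 [] (.cons 1420 (.br 116 [] (.cons 1140 (.br 404 [] (.cons 916 (.br 228 [] (.cons 484 (.br 804
  [] (.cons 1828 (.br 708 [] (.cons 1732 (.br 312 [] (.cons 1336 (.br 216 [] (.cons 728 (.br 232 [] (.cons 1256 (.br 424 [] (.cons 936 (.br 840 []
  (.cons 1864 (.br 368 [] (.cons 880 (.br 688 [] (.cons 1712 (.br 464 [] (.cons 1488 (.leaf 9264799787616288 0) .nil)) .nil)) .nil)) .nil)) .nil))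
  .nil)) .nil)) .nil)) .nil)) .nil)) .nil)) .nil)) .nil)) .nil)) .nil)) .nil)) .nil)) .nil)) .nil)) .nil)) .nil)) .nil)) .nil)) .nil)) .nil)) .nil))
  .nil)) .nil)) .nil)) .nil)) .nil)) .nil)) .nil)) .nil)) .nil)) .nil))) .nil)) .nil)) .nil)) .nil)) .nil)) .nil)) .nil)) .nil)) .nil)) .nil)) .nil))
  .nil)) .nil)) .nil)) .nil)) .nil)) .nil)) (.cons 557 (.br 269 [] (.cons 333 (.br 141 [] (.cons 1165 (.br 165 [] (.cons 181 (.br 293 [] (.cons 1317
  (.br 277 [] (.cons 789 (.br 85 [] (.cons 1109 (.br 197 [] (.cons 709 (.br 537 [] (.cons 1561 (.br 297 [] (.cons 313 (.br 89 [] (.cons 217 (.br 105 []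
  (.cons 1129 (.br 393 [] (.cons 905 (.br 113 [] (.cons 625 (.br 401 [] (.cons 1425 (.br 225 [] (.cons 481 (.br 673 [] (.cons 1697 (.br 833 [] (.cons
  1857 (.br 46 [] (.cons 302 (.br 526 [] (.cons 654 (.br 78 [] (.cons 1102 (.br 54 [] (.cons 566 (.br 86 [] (.cons 214 (.br 278 [] (.cons 1302 (.br 166
  [] (.cons 1190 (.br 326 [] (.cons 838 (.br 58 [] (.cons 122 (.br 538 [] (.cons 794 (.br 154 [] (.cons 1178 (.br 554 [] (.cons 1578 (.br 202 [] (.cons
  458 (.br 178 [] (.cons 434 (.br 594 [] (.cons 1618 (.br 226 [] (.cons 738 (.br 354 [] (.cons 1378 (.br 898 [] (.cons 1922 (.br 60 [] (.cons 1084 (.br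
  92 [] (.cons 604 (.br 156 [] (.cons 412 (.br 108 [] (.cons 236 (.br 780 [] (.cons 1804 (.br 116 [] (.cons 372 (.br 660 [] (.cons 1684 (.br 612 []
  (.cons 1636 (.br 420 [] (.cons 932 (.br 452 [] (.cons 1476 (.br 184 [] (.cons 696 (.br 344 [] (.cons 1368 (.br 360 [] (.cons 872 (.br 424 [] (.cons
  1448 (.br 712 [] (.cons 1736 (.br 240 [] (.cons 1264 (.br 816 [] (.cons 1840 (.br 464 [] (.cons 976 (.leaf 5848587229562912 0) .nil)) .nil)) .nil))
  .nil)) .nil)) .nil)) .nil)) .nil)) .nil)) .nil)) .nil)) .nil)) .nil)) .nil)) .nil)) .nil)) .nil)) .nil)) .nil)) .nil)) .nil)) .nil)) .nil)) .nil))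
  .nil)) .nil)) .nil)) .nil)) .nil)) .nil)) .nil)) .nil)) .nil)) .nil)) .nil)) (.cons 1070 (.br 78 [] (.cons 206 (.br 270 [] (.cons 782 (.br 86 []
  (.cons 598 (.br 54 [] (.cons 310 (.br 150 [] (.cons 1174 (.br 166 [] (.cons 678 (.br 326 [] (.cons 1350 (.br 154 [] (.cons 410 (.br 538 [] (.cons 570
  (.br 90 [] (.cons 1114 (.br 106 [] (.cons 362 (.br 650 [] (.cons 1674 (.br 114 [] (.cons 242 (.br 786 [] (.cons 1810 (.br 610 [] (.cons 1634 (.br 418
  [] (.cons 1442 (.br 450 [] (.cons 962 (.br 60 [] (.cons 124 (.br 156 [] (.cons 668 (.br 284 [] (.cons 1308 (.br 172 [] (.cons 428 (.br 588 [] (.cons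
  1612 (.br 564 [] (.cons 1588 (.br 212 [] (.cons 468 (.br 228 [] (.cons 1252 (.br 356 [] (.cons 868 (.br 900 [] (.cons 1924 (.br 184 [] (.cons 1208
  (.br 344 [] (.cons 856 (.br 232 [] (.cons 744 (.br 808 [] (.cons 1832 (.br 456 [] (.cons 1480 (.br 368 [] (.cons 1392 (.br 432 [] (.cons 944 (.br 720
  [] (.cons 1744 (.leaf 8168489084880928 0) .nil)) .nil)) .nil)) .nil)) .nil)) .nil)) .nil)) .nil)) .nil)) .nil)) .nil)) .nil)) .nil)) .nil)) .nil))
  .nil)) .nil)) .nil)) .nil)) .nil)) .nil)) .nil)) .nil)) .nil)) .nil)) .nil)) .nil)) .nil)) .nil)) .nil)) .nil)) .nil)) .nil)) .nil)) .nil)) .nil)))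
  .nil)) .nil)) .nil)) .nil)) .nil)) .nil)) .nil)) .nil)) .nil)) .nil)) .nil)) .nil)) .nil)) .nil)) .nil)) .nil)) .nil)) (.cons 1069 (.br 293 [] (.cons
  309 (.br 533 [] (.cons 597 (.br 149 [] (.cons 1173 (.br 165 [] (.cons 677 (.br 141 [] (.cons 205 (.br 269 [] (.cons 781 (.br 325 [] (.cons 1349 (.br
  153 [] (.cons 409 (.br 297 [] (.cons 361 (.br 57 [] (.cons 569 (.br 89 [] (.cons 1113 (.br 649 [] (.cons 1673 (.br 113 [] (.cons 241 (.br 785 []
  (.cons 1809 (.br 609 [] (.cons 1633 (.br 417 [] (.cons 1441 (.br 449 [] (.cons 961 (.br 46 [] (.cons 302 (.br 78 [] (.cons 1102 (.br 142 [] (.cons 654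
  (.br 86 [] (.cons 214 (.br 54 [] (.cons 566 (.br 278 [] (.cons 1302 (.br 166 [] (.cons 1190 (.br 326 [] (.cons 838 (.br 58 [] (.cons 122 (.br 154 []
  (.cons 1178 (.br 282 [] (.cons 794 (.br 554 [] (.cons 1578 (.br 202 [] (.cons 458 (.br 178 [] (.cons 434 (.br 594 [] (.cons 1618 (.br 226 [] (.cons
  738 (.br 354 [] (.cons 1378 (.br 898 [] (.cons 1922 (.br 60 [] (.cons 188 (.br 92 [] (.cons 348 (.br 540 [] (.cons 1564 (.br 108 [] (.cons 620 (.br
  396 [] (.cons 1420 (.br 116 [] (.cons 1140 (.br 404 [] (.cons 916 (.br 228 [] (.cons 484 (.br 804 [] (.cons 1828 (.br 708 [] (.cons 1732 (.br 312 []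
  (.cons 1336 (.br 216 [] (.cons 728 (.br 232 [] (.cons 1256 (.br 424 [] (.cons 936 (.br 840 [] (.cons 1864 (.br 368 [] (.cons 880 (.br 688 [] (.cons
  1712 (.br 464 [] (.cons 1488 (.leaf 6941568292456480 0) .nil)) .nil)) .nil)) .nil)) .nil)) .nil)) .nil)) .nil)) .nil)) .nil)) .nil)) .nil)) .nil))
  .nil)) .nil)) .nil)) .nil)) .nil)) .nil)) .nil)) .nil)) .nil)) .nil)) .nil)) .nil)) .nil)) .nil)) .nil)) .nil)) .nil)) .nil)) .nil)) .nil)) .nil))
  .nil)) (.cons 558 (.br 142 [] (.cons 1166 (.br 78 [] (.cons 334 (.br 54 [] (.cons 182 (.br 86 [] (.cons 1110 (.br 278 [] (.cons 790 (.br 294 [] (.cons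
  1318 (.br 198 [] (.cons 710 (.br 154 [] (.cons 218 (.br 58 [] (.cons 314 (.br 538 [] (.cons 1562 (.br 106 [] (.cons 1130 (.br 394 [] (.cons 906 (.br
  114 [] (.cons 626 (.br 402 [] (.cons 1426 (.br 226 [] (.cons 482 (.br 674 [] (.cons 1698 (.br 834 [] (.cons 1858 (.br 60 [] (.cons 124 (.br 156 []
  (.cons 668 (.br 284 [] (.cons 1308 (.br 172 [] (.cons 428 (.br 588 [] (.cons 1612 (.br 564 [] (.cons 1588 (.br 212 [] (.cons 468 (.br 228 [] (.cons
  1252 (.br 356 [] (.cons 868 (.br 900 [] (.cons 1924 (.br 184 [] (.cons 1208 (.br 344 [] (.cons 856 (.br 232 [] (.cons 744 (.br 808 [] (.cons 1832 (.br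
  456 [] (.cons 1480 (.br 368 [] (.cons 1392 (.br 432 [] (.cons 944 (.br 720 [] (.cons 1744 (.leaf 10491720580040736 0) .nil)) .nil)) .nil)) .nil))
  .nil)) .nil)) .nil)) .nil)) .nil)) .nil)) .nil)) .nil)) .nil)) .nil)) .nil)) .nil)) .nil)) .nil)) .nil)) .nil)) .nil)) .nil)) .nil)) .nil)) .nil))
  .nil)) .nil)) .nil)) .nil)) .nil)) .nil)) .nil)) .nil)) .nil)) .nil)) .nil))) .nil)) .nil)) .nil)) .nil)) .nil)) .nil)) .nil)) .nil)) .nil)) .nil))
  .nil)) .nil)) .nil)) .nil)) .nil)) .nil)) .nil)) .nil)))) .nil)) .nil)) .nil)) .nil)) .nil)) .nil)) .nil)) .nil))) .nil)) .nil)) .nil)) .nil))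

set_option maxRecDepth 100000 in
def c12 : T := (.br 31 [197, 230, 263, 296, 329, 362] (.cons 63 (.br 79 [263, 296, 329, 362] (.cons 207 (.br 87 [296, 329, 362] (.cons 343 (.br 271 [329, 362] (.cons
  783 (.br 151 [362] (.cons 663 (.br 1039 [] (.cons 3087 (.br 1047 [] .nil) .nil)) (.cons 1175 (.br 1039 [] (.cons 3087 (.br 535 [] (.cons 2583 (.br
  2119 [] (.cons 2151 (.br 583 [] (.cons 1607 (.br 551 [] (.cons 679 (.br 295 [] (.cons 1319 (.br 391 [] (.cons 2439 (.br 632 [] (.cons 1656 (.br 440 []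
  (.cons 2488 (.br 728 [] (.cons 2776 (.br 1368 [] (.cons 3416 (.br 920 [] (.cons 1944 (.br 488 [] (.cons 1512 (.br 872 [] (.cons 2920 (.br 1704 []
  (.cons 3752 (.br 496 [] (.cons 1008 (.br 1264 [] (.cons 3312 (.br 1840 [] (.cons 3888 (.br 1984 [] (.cons 4032 (.br 91 [] (.cons 603 (.br 1051 []
  (.cons 1307 (.br 155 [] (.cons 2203 (.br 1099 [] (.cons 1131 (.br 171 [] (.cons 427 (.br 555 [] (.cons 2603 (.br 331 [] (.cons 2379 (.br 651 [] (.cons
  1675 (.br 115 [] (.cons 243 (.br 1107 [] (.cons 3155 (.br 1075 [] (.cons 1587 (.br 307 [] (.cons 2355 (.br 403 [] (.cons 915 (.br 355 [] (.cons 867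
  (.br 1187 [] (.cons 3235 (.br 451 [] (.cons 1475 (.br 707 [] (.cons 2755 (.br 1795 [] (.cons 3843 (.br 124 [] (.cons 252 (.br 316 [] (.cons 1340 (.br
  572 [] (.cons 2620 (.br 348 [] (.cons 860 (.br 1180 [] (.cons 3228 (.br 1132 [] (.cons 3180 (.br 428 [] (.cons 940 (.br 460 [] (.cons 2508 (.br 716 []
  (.cons 1740 (.br 1804 [] (.cons 3852 (.br 372 [] (.cons 2420 (.br 692 [] (.cons 1716 (.br 468 [] (.cons 1492 (.br 1620 [] (.cons 3668 (.br 916 []
  (.cons 2964 (.br 740 [] (.cons 2788 (.br 868 [] (.cons 1892 (.br 1444 [] (.cons 3492 (.br 93 [] (.cons 1117 (.br 541 [] (.cons 669 (.br 285 [] (.cons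
  2333 (.br 301 [] (.cons 365 (.br 557 [] (.cons 1581 (.br 173 [] (.cons 2221 (.br 589 [] (.cons 2637 (.br 397 [] (.cons 1421 (.br 117 [] (.cons 629
  (.br 181 [] (.cons 437 (.br 1077 [] (.cons 3125 (.br 213 [] (.cons 2261 (.br 789 [] (.cons 1813 (.br 229 [] (.cons 1253 (.br 805 [] (.cons 2853 (.br
  453 [] (.cons 965 (.br 1349 [] (.cons 3397 (.br 1669 [] (.cons 3717 (.br 121 [] (.cons 2169 (.br 185 [] (.cons 1209 (.br 313 [] (.cons 825 (.br 217 []
  (.cons 473 (.br 1561 [] (.cons 3609 (.br 233 [] (.cons 745 (.br 1321 [] (.cons 3369 (.br 1225 [] (.cons 3273 (.br 841 [] (.cons 1865 (.br 905 []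
  (.cons 2953 (.br 369 [] (.cons 1393 (.br 689 [] (.cons 2737 (.br 721 [] (.cons 1745 (.br 849 [] (.cons 2897 (.br 1425 [] (.cons 3473 (.br 481 []
  (.cons 2529 (.br 1633 [] (.cons 3681 (.br 929 [] (.cons 1953 (.br 94 [] (.cons 2142 (.br 158 [] (.cons 414 (.br 542 [] (.cons 1566 (.br 110 [] (.cons
  622 (.br 174 [] (.cons 1198 (.br 302 [] (.cons 2350 (.br 334 [] (.cons 1358 (.br 654 [] (.cons 2702 (.br 118 [] (.cons 1142 (.br 182 [] (.cons 2230
  (.br 310 [] (.cons 822 (.br 214 [] (.cons 726 (.br 1302 [] (.cons 3350 (.br 230 [] (.cons 486 (.br 1574 [] (.cons 3622 (.br 1222 [] (.cons 3270 (.br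
  838 [] (.cons 2886 (.br 902 [] (.cons 1926 (.br 122 [] (.cons 378 (.br 186 [] (.cons 698 (.br 1082 [] (.cons 3130 (.br 218 [] (.cons 1242 (.br 794 []
  (.cons 2842 (.br 234 [] (.cons 2282 (.br 810 [] (.cons 1834 (.br 458 [] (.cons 970 (.br 1610 [] (.cons 3658 (.br 1418 [] (.cons 3466 (.br 626 []
  (.cons 2674 (.br 434 [] (.cons 1458 (.br 466 [] (.cons 2514 (.br 850 [] (.cons 1874 (.br 1682 [] (.cons 3730 (.br 738 [] (.cons 1762 (.br 1378 []
  (.cons 3426 (.br 930 [] (.cons 2978 (.leaf 407901468851537952 0) .nil)) .nil)) .nil)) .nil)) .nil)) .nil)) .nil)) .nil)) .nil)) .nil)) .nil)) .nil))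
  .nil)) .nil)) .nil)) .nil)) .nil)) .nil)) .nil)) .nil)) .nil)) .nil)) .nil)) .nil)) .nil)) .nil)) .nil)) .nil)) .nil)) .nil)) .nil)) .nil)) .nil))
  .nil)) .nil)) .nil)) .nil)) .nil)) .nil)) .nil)) .nil)) .nil)) .nil)) .nil)) .nil)) .nil)) .nil)) .nil)) .nil)) .nil)) .nil)) .nil)) .nil)) .nil))
  .nil)) .nil)) .nil)) .nil)) .nil)) .nil)) .nil)) .nil)) .nil)) .nil)) .nil)) .nil)) .nil)) .nil)) .nil)) .nil)) .nil)) (.cons 2141 (.br 285 [] (.cons
  413 (.br 541 [] (.cons 1565 (.br 557 [] (.cons 621 (.br 301 [] (.cons 2349 (.br 173 [] (.cons 1197 (.br 333 [] (.cons 1357 (.br 653 [] (.cons 2701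
  (.br 117 [] (.cons 1141 (.br 181 [] (.cons 2229 (.br 309 [] (.cons 821 (.br 213 [] (.cons 725 (.br 1301 [] (.cons 3349 (.br 229 [] (.cons 485 (.br
  1573 [] (.cons 3621 (.br 1221 [] (.cons 3269 (.br 837 [] (.cons 2885 (.br 901 [] (.cons 1925 (.br 121 [] (.cons 377 (.br 185 [] (.cons 697 (.br 1081
  [] (.cons 3129 (.br 217 [] (.cons 1241 (.br 793 [] (.cons 2841 (.br 233 [] (.cons 2281 (.br 809 [] (.cons 1833 (.br 457 [] (.cons 969 (.br 1609 []
  (.cons 3657 (.br 1417 [] (.cons 3465 (.br 625 [] (.cons 2673 (.br 433 [] (.cons 1457 (.br 465 [] (.cons 2513 (.br 849 [] (.cons 1873 (.br 1681 []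
  (.cons 3729 (.br 737 [] (.cons 1761 (.br 1377 [] (.cons 3425 (.br 929 [] (.cons 2977 (.br 94 [] (.cons 1118 (.br 158 [] (.cons 670 (.br 286 [] (.cons
  2334 (.br 110 [] (.cons 366 (.br 174 [] (.cons 2222 (.br 558 [] (.cons 1582 (.br 590 [] (.cons 2638 (.br 398 [] (.cons 1422 (.br 118 [] (.cons 630
  (.br 182 [] (.cons 438 (.br 1078 [] (.cons 3126 (.br 214 [] (.cons 2262 (.br 790 [] (.cons 1814 (.br 230 [] (.cons 1254 (.br 806 [] (.cons 2854 (.br
  454 [] (.cons 966 (.br 1350 [] (.cons 3398 (.br 1670 [] (.cons 3718 (.br 122 [] (.cons 2170 (.br 186 [] (.cons 1210 (.br 314 [] (.cons 826 (.br 218 []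
  (.cons 474 (.br 1562 [] (.cons 3610 (.br 234 [] (.cons 746 (.br 1322 [] (.cons 3370 (.br 1226 [] (.cons 3274 (.br 842 [] (.cons 1866 (.br 906 []
  (.cons 2954 (.br 370 [] (.cons 1394 (.br 690 [] (.cons 2738 (.br 722 [] (.cons 1746 (.br 850 [] (.cons 2898 (.br 1426 [] (.cons 3474 (.br 482 []
  (.cons 2530 (.br 1634 [] (.cons 3682 (.br 930 [] (.cons 1954 (.leaf 333664609481361440 0) .nil)) .nil)) .nil)) .nil)) .nil)) .nil)) .nil)) .nil))
  .nil)) .nil)) .nil)) .nil)) .nil)) .nil)) .nil)) .nil)) .nil)) .nil)) .nil)) .nil)) .nil)) .nil)) .nil)) .nil)) .nil)) .nil)) .nil)) .nil)) .nil))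
  .nil)) .nil)) .nil)) .nil)) .nil)) .nil)) .nil)) .nil)) .nil)) .nil)) .nil)) .nil)) .nil)) .nil)) .nil)) .nil)) .nil)) .nil)) .nil)) .nil)) .nil))
  .nil)) .nil)) .nil)) .nil)) .nil)) .nil)) .nil)) .nil)) .nil)) .nil)) .nil)) .nil)) .nil)) .nil)) .nil)) .nil)) .nil)) .nil)) .nil)) .nil)) .nil))
  .nil))) .nil)) .nil)) .nil)) .nil)) .nil)) .nil)) .nil)) .nil)) .nil)) .nil)) .nil)) .nil)) .nil)) .nil)) .nil)) .nil)) .nil)) .nil)) .nil)) .nil))
  .nil)) .nil)) .nil)) .nil)) .nil)) .nil)) .nil)) .nil)) .nil)) .nil)) .nil)) .nil)) .nil)) .nil)) .nil)) (.cons 1115 (.br 539 [] (.cons 667 (.br 283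
  [] (.cons 2331 (.br 331 [] (.cons 363 (.br 587 [] (.cons 2635 (.br 555 [] (.cons 1579 (.br 171 [] (.cons 2219 (.br 395 [] (.cons 1419 (.br 1075 []
  (.cons 3123 (.br 595 [] (.cons 627 (.br 179 [] (.cons 435 (.br 211 [] (.cons 2259 (.br 787 [] (.cons 1811 (.br 227 [] (.cons 1251 (.br 803 [] (.cons
  2851 (.br 451 [] (.cons 963 (.br 1347 [] (.cons 3395 (.br 1667 [] (.cons 3715 (.br 124 [] (.cons 380 (.br 188 [] (.cons 700 (.br 1084 [] (.cons 3132
  (.br 220 [] (.cons 1244 (.br 796 [] (.cons 2844 (.br 236 [] (.cons 2284 (.br 812 [] (.cons 1836 (.br 460 [] (.cons 972 (.br 1612 [] (.cons 3660 (.br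
  1420 [] (.cons 3468 (.br 628 [] (.cons 2676 (.br 436 [] (.cons 1460 (.br 468 [] (.cons 2516 (.br 852 [] (.cons 1876 (.br 1684 [] (.cons 3732 (.br 740
  [] (.cons 1764 (.br 1380 [] (.cons 3428 (.br 932 [] (.cons 2980 (.br 93 [] (.cons 605 (.br 1053 [] (.cons 1309 (.br 157 [] (.cons 2205 (.br 109 []
  (.cons 1133 (.br 173 [] (.cons 429 (.br 557 [] (.cons 2605 (.br 333 [] (.cons 2381 (.br 653 [] (.cons 1677 (.br 117 [] (.cons 245 (.br 1077 [] (.cons
  1589 (.br 309 [] (.cons 2357 (.br 1109 [] (.cons 3157 (.br 405 [] (.cons 917 (.br 357 [] (.cons 869 (.br 1189 [] (.cons 3237 (.br 453 [] (.cons 1477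
  (.br 709 [] (.cons 2757 (.br 1797 [] (.cons 3845 (.br 121 [] (.cons 2169 (.br 185 [] (.cons 1209 (.br 313 [] (.cons 825 (.br 217 [] (.cons 473 (.br
  1561 [] (.cons 3609 (.br 233 [] (.cons 745 (.br 1321 [] (.cons 3369 (.br 1225 [] (.cons 3273 (.br 841 [] (.cons 1865 (.br 905 [] (.cons 2953 (.br 369
  [] (.cons 1393 (.br 689 [] (.cons 2737 (.br 721 [] (.cons 1745 (.br 849 [] (.cons 2897 (.br 1425 [] (.cons 3473 (.br 481 [] (.cons 2529 (.br 1633 []
  (.cons 3681 (.br 929 [] (.cons 1953 (.br 94 [] (.cons 2142 (.br 158 [] (.cons 414 (.br 542 [] (.cons 1566 (.br 110 [] (.cons 622 (.br 174 [] (.cons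
  1198 (.br 302 [] (.cons 2350 (.br 334 [] (.cons 1358 (.br 654 [] (.cons 2702 (.br 118 [] (.cons 1142 (.br 182 [] (.cons 2230 (.br 310 [] (.cons 822
  (.br 214 [] (.cons 726 (.br 1302 [] (.cons 3350 (.br 230 [] (.cons 486 (.br 1574 [] (.cons 3622 (.br 1222 [] (.cons 3270 (.br 838 [] (.cons 2886 (.br
  902 [] (.cons 1926 (.br 122 [] (.cons 250 (.br 314 [] (.cons 1338 (.br 570 [] (.cons 2618 (.br 346 [] (.cons 858 (.br 1178 [] (.cons 3226 (.br 1130 []
  (.cons 3178 (.br 426 [] (.cons 938 (.br 458 [] (.cons 2506 (.br 714 [] (.cons 1738 (.br 1802 [] (.cons 3850 (.br 370 [] (.cons 2418 (.br 690 [] (.cons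
  1714 (.br 466 [] (.cons 1490 (.br 1618 [] (.cons 3666 (.br 914 [] (.cons 2962 (.br 738 [] (.cons 2786 (.br 866 [] (.cons 1890 (.br 1442 [] (.cons 3490
  (.leaf 224345807623653408 0) .nil)) .nil)) .nil)) .nil)) .nil)) .nil)) .nil)) .nil)) .nil)) .nil)) .nil)) .nil)) .nil)) .nil)) .nil)) .nil)) .nil))
  .nil)) .nil)) .nil)) .nil)) .nil)) .nil)) .nil)) .nil)) .nil)) .nil)) .nil)) .nil)) .nil)) .nil)) .nil)) .nil)) .nil)) .nil)) .nil)) .nil)) .nil))
  .nil)) .nil)) .nil)) .nil)) .nil)) .nil)) .nil)) .nil)) .nil)) .nil)) .nil)) .nil)) .nil)) .nil)) .nil)) .nil)) .nil)) .nil)) .nil)) .nil)) .nil))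
  .nil)) .nil)) .nil)) .nil)) .nil)) .nil)) .nil)) .nil)) .nil)) .nil)) .nil)) .nil)) (.cons 2141 (.br 157 [] (.cons 413 (.br 541 [] (.cons 1565 (.br
  173 [] (.cons 1197 (.br 109 [] (.cons 621 (.br 301 [] (.cons 2349 (.br 333 [] (.cons 1357 (.br 653 [] (.cons 2701 (.br 309 [] (.cons 821 (.br 1077 []
  (.cons 1141 (.br 181 [] (.cons 2229 (.br 213 [] (.cons 725 (.br 1301 [] (.cons 3349 (.br 229 [] (.cons 485 (.br 1573 [] (.cons 3621 (.br 1221 []
  (.cons 3269 (.br 837 [] (.cons 2885 (.br 901 [] (.cons 1925 (.br 121 [] (.cons 249 (.br 313 [] (.cons 1337 (.br 569 [] (.cons 2617 (.br 345 [] (.cons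
  857 (.br 1177 [] (.cons 3225 (.br 1129 [] (.cons 3177 (.br 425 [] (.cons 937 (.br 457 [] (.cons 2505 (.br 713 [] (.cons 1737 (.br 1801 [] (.cons 3849
  (.br 369 [] (.cons 2417 (.br 689 [] (.cons 1713 (.br 465 [] (.cons 1489 (.br 1617 [] (.cons 3665 (.br 913 [] (.cons 2961 (.br 737 [] (.cons 2785 (.br
  865 [] (.cons 1889 (.br 1441 [] (.cons 3489 (.br 94 [] (.cons 606 (.br 158 [] (.cons 2206 (.br 286 [] (.cons 1310 (.br 110 [] (.cons 1134 (.br 174 []
  (.cons 430 (.br 558 [] (.cons 2606 (.br 334 [] (.cons 2382 (.br 654 [] (.cons 1678 (.br 118 [] (.cons 246 (.br 310 [] (.cons 2358 (.br 566 [] (.cons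
  1590 (.br 1110 [] (.cons 3158 (.br 406 [] (.cons 918 (.br 358 [] (.cons 870 (.br 1190 [] (.cons 3238 (.br 454 [] (.cons 1478 (.br 710 [] (.cons 2758
  (.br 1798 [] (.cons 3846 (.br 122 [] (.cons 2170 (.br 186 [] (.cons 1210 (.br 314 [] (.cons 826 (.br 218 [] (.cons 474 (.br 1562 [] (.cons 3610 (.br
  234 [] (.cons 746 (.br 1322 [] (.cons 3370 (.br 1226 [] (.cons 3274 (.br 842 [] (.cons 1866 (.br 906 [] (.cons 2954 (.br 370 [] (.cons 1394 (.br 690
  [] (.cons 2738 (.br 722 [] (.cons 1746 (.br 850 [] (.cons 2898 (.br 1426 [] (.cons 3474 (.br 482 [] (.cons 2530 (.br 1634 [] (.cons 3682 (.br 930 []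
  (.cons 1954 (.leaf 298582666993829920 0) .nil)) .nil)) .nil)) .nil)) .nil)) .nil)) .nil)) .nil)) .nil)) .nil)) .nil)) .nil)) .nil)) .nil)) .nil))
  .nil)) .nil)) .nil)) .nil)) .nil)) .nil)) .nil)) .nil)) .nil)) .nil)) .nil)) .nil)) .nil)) .nil)) .nil)) .nil)) .nil)) .nil)) .nil)) .nil)) .nil))
  .nil)) .nil)) .nil)) .nil)) .nil)) .nil)) .nil)) .nil)) .nil)) .nil)) .nil)) .nil)) .nil)) .nil)) .nil)) .nil)) .nil)) .nil)) .nil)) .nil)) .nil))
  .nil)) .nil)) .nil)) .nil)) .nil)) .nil)) .nil)) .nil)) .nil)) .nil)) .nil)) .nil)) .nil)) .nil)) .nil))) .nil)) .nil)) .nil)) .nil)) .nil)) .nil))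
  .nil)) .nil)) .nil)) .nil)) .nil)) .nil)) .nil)) .nil)) .nil)) .nil)) .nil)) .nil)) .nil)) .nil)) .nil)) .nil)) .nil)) .nil)) .nil)) .nil)) .nil))
  .nil)) .nil)) .nil)) .nil)) .nil)) .nil)) .nil)) .nil)) (.cons 2139 (.br 587 [] (.cons 619 (.br 1067 [] (.cons 1195 (.br 299 [] (.cons 2347 (.br 331
  [] (.cons 1355 (.br 283 [] (.cons 411 (.br 539 [] (.cons 1563 (.br 651 [] (.cons 2699 (.br 307 [] (.cons 819 (.br 595 [] (.cons 723 (.br 115 [] (.cons
  1139 (.br 179 [] (.cons 2227 (.br 1299 [] (.cons 3347 (.br 227 [] (.cons 483 (.br 1571 [] (.cons 3619 (.br 1219 [] (.cons 3267 (.br 835 [] (.cons 2883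
  (.br 899 [] (.cons 1923 (.br 124 [] (.cons 2172 (.br 188 [] (.cons 1212 (.br 316 [] (.cons 828 (.br 220 [] (.cons 476 (.br 1564 [] (.cons 3612 (.br
  236 [] (.cons 748 (.br 1324 [] (.cons 3372 (.br 1228 [] (.cons 3276 (.br 844 [] (.cons 1868 (.br 908 [] (.cons 2956 (.br 372 [] (.cons 1396 (.br 692
  [] (.cons 2740 (.br 724 [] (.cons 1748 (.br 852 [] (.cons 2900 (.br 1428 [] (.cons 3476 (.br 484 [] (.cons 2532 (.br 1636 [] (.cons 3684 (.br 932 []
  (.cons 1956 (.br 93 [] (.cons 605 (.br 157 [] (.cons 2205 (.br 285 [] (.cons 1309 (.br 173 [] (.cons 429 (.br 109 [] (.cons 1133 (.br 557 [] (.cons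
  2605 (.br 333 [] (.cons 2381 (.br 653 [] (.cons 1677 (.br 117 [] (.cons 245 (.br 309 [] (.cons 2357 (.br 565 [] (.cons 1589 (.br 1109 [] (.cons 3157
  (.br 405 [] (.cons 917 (.br 357 [] (.cons 869 (.br 1189 [] (.cons 3237 (.br 453 [] (.cons 1477 (.br 709 [] (.cons 2757 (.br 1797 [] (.cons 3845 (.br
  121 [] (.cons 377 (.br 185 [] (.cons 697 (.br 1081 [] (.cons 3129 (.br 217 [] (.cons 1241 (.br 793 [] (.cons 2841 (.br 233 [] (.cons 2281 (.br 809 []
  (.cons 1833 (.br 457 [] (.cons 969 (.br 1609 [] (.cons 3657 (.br 1417 [] (.cons 3465 (.br 625 [] (.cons 2673 (.br 433 [] (.cons 1457 (.br 465 []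
  (.cons 2513 (.br 849 [] (.cons 1873 (.br 1681 [] (.cons 3729 (.br 737 [] (.cons 1761 (.br 1377 [] (.cons 3425 (.br 929 [] (.cons 2977 (.br 94 []
  (.cons 1118 (.br 158 [] (.cons 670 (.br 286 [] (.cons 2334 (.br 110 [] (.cons 366 (.br 174 [] (.cons 2222 (.br 558 [] (.cons 1582 (.br 590 [] (.cons
  2638 (.br 398 [] (.cons 1422 (.br 118 [] (.cons 630 (.br 182 [] (.cons 438 (.br 1078 [] (.cons 3126 (.br 214 [] (.cons 2262 (.br 790 [] (.cons 1814
  (.br 230 [] (.cons 1254 (.br 806 [] (.cons 2854 (.br 454 [] (.cons 966 (.br 1350 [] (.cons 3398 (.br 1670 [] (.cons 3718 (.br 122 [] (.cons 250 (.br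
  314 [] (.cons 1338 (.br 570 [] (.cons 2618 (.br 346 [] (.cons 858 (.br 1178 [] (.cons 3226 (.br 1130 [] (.cons 3178 (.br 426 [] (.cons 938 (.br 458 []
  (.cons 2506 (.br 714 [] (.cons 1738 (.br 1802 [] (.cons 3850 (.br 370 [] (.cons 2418 (.br 690 [] (.cons 1714 (.br 466 [] (.cons 1490 (.br 1618 []
  (.cons 3666 (.br 914 [] (.cons 2962 (.br 738 [] (.cons 2786 (.br 866 [] (.cons 1890 (.br 1442 [] (.cons 3490 (.leaf 259321201636247584 0) .nil))
  .nil)) .nil)) .nil)) .nil)) .nil)) .nil)) .nil)) .nil)) .nil)) .nil)) .nil)) .nil)) .nil)) .nil)) .nil)) .nil)) .nil)) .nil)) .nil)) .nil)) .nil))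
  .nil)) .nil)) .nil)) .nil)) .nil)) .nil)) .nil)) .nil)) .nil)) .nil)) .nil)) .nil)) .nil)) .nil)) .nil)) .nil)) .nil)) .nil)) .nil)) .nil)) .nil))
  .nil)) .nil)) .nil)) .nil)) .nil)) .nil)) .nil)) .nil)) .nil)) .nil)) .nil)) .nil)) .nil)) .nil)) .nil)) .nil)) .nil)) .nil)) .nil)) .nil)) .nil))
  .nil)) .nil)) .nil)) .nil)) .nil)) .nil)) .nil)) (.cons 1117 (.br 285 [] (.cons 2333 (.br 157 [] (.cons 669 (.br 109 [] (.cons 365 (.br 173 [] (.cons
  2221 (.br 557 [] (.cons 1581 (.br 589 [] (.cons 2637 (.br 397 [] (.cons 1421 (.br 309 [] (.cons 437 (.br 117 [] (.cons 629 (.br 1077 [] (.cons 3125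
  (.br 213 [] (.cons 2261 (.br 789 [] (.cons 1813 (.br 229 [] (.cons 1253 (.br 805 [] (.cons 2853 (.br 453 [] (.cons 965 (.br 1349 [] (.cons 3397 (.br
  1669 [] (.cons 3717 (.br 121 [] (.cons 249 (.br 313 [] (.cons 1337 (.br 569 [] (.cons 2617 (.br 345 [] (.cons 857 (.br 1177 [] (.cons 3225 (.br 1129
  [] (.cons 3177 (.br 425 [] (.cons 937 (.br 457 [] (.cons 2505 (.br 713 [] (.cons 1737 (.br 1801 [] (.cons 3849 (.br 369 [] (.cons 2417 (.br 689 []
  (.cons 1713 (.br 465 [] (.cons 1489 (.br 1617 [] (.cons 3665 (.br 913 [] (.cons 2961 (.br 737 [] (.cons 2785 (.br 865 [] (.cons 1889 (.br 1441 []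
  (.cons 3489 (.br 94 [] (.cons 606 (.br 158 [] (.cons 2206 (.br 286 [] (.cons 1310 (.br 110 [] (.cons 1134 (.br 174 [] (.cons 430 (.br 558 [] (.cons
  2606 (.br 334 [] (.cons 2382 (.br 654 [] (.cons 1678 (.br 118 [] (.cons 246 (.br 310 [] (.cons 2358 (.br 566 [] (.cons 1590 (.br 1110 [] (.cons 3158
  (.br 406 [] (.cons 918 (.br 358 [] (.cons 870 (.br 1190 [] (.cons 3238 (.br 454 [] (.cons 1478 (.br 710 [] (.cons 2758 (.br 1798 [] (.cons 3846 (.br
  122 [] (.cons 378 (.br 186 [] (.cons 698 (.br 1082 [] (.cons 3130 (.br 218 [] (.cons 1242 (.br 794 [] (.cons 2842 (.br 234 [] (.cons 2282 (.br 810 []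
  (.cons 1834 (.br 458 [] (.cons 970 (.br 1610 [] (.cons 3658 (.br 1418 [] (.cons 3466 (.br 626 [] (.cons 2674 (.br 434 [] (.cons 1458 (.br 466 []
  (.cons 2514 (.br 850 [] (.cons 1874 (.br 1682 [] (.cons 3730 (.br 738 [] (.cons 1762 (.br 1378 [] (.cons 3426 (.br 930 [] (.cons 2978 (.leaf
  372926074838943776 0) .nil)) .nil)) .nil)) .nil)) .nil)) .nil)) .nil)) .nil)) .nil)) .nil)) .nil)) .nil)) .nil)) .nil)) .nil)) .nil)) .nil)) .nil))
  .nil)) .nil)) .nil)) .nil)) .nil)) .nil)) .nil)) .nil)) .nil)) .nil)) .nil)) .nil)) .nil)) .nil)) .nil)) .nil)) .nil)) .nil)) .nil)) .nil)) .nil))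
  .nil)) .nil)) .nil)) .nil)) .nil)) .nil)) .nil)) .nil)) .nil)) .nil)) .nil)) .nil)) .nil)) .nil)) .nil)) .nil)) .nil)) .nil)) .nil)) .nil)) .nil))
  .nil)) .nil)) .nil)) .nil)) .nil)) .nil)) .nil)) .nil)) .nil)) .nil)) .nil)) .nil))) .nil)) .nil)) .nil)) .nil)) .nil)) .nil)) .nil)) .nil)) .nil))
  .nil)) .nil)) .nil)) .nil)) .nil)) .nil)) .nil)) .nil)) .nil)) .nil)) .nil)) .nil)) .nil)) .nil)) .nil)) .nil)) .nil)) .nil)) .nil)) .nil)) .nil))
  .nil)) .nil)) .nil)) .nil)) .nil)) .nil)))) .nil)) .nil)) .nil)) .nil)) .nil)) .nil)) .nil)) .nil)) .nil)) .nil)) .nil)) .nil)) .nil)) .nil)) .nil))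
  .nil)) .nil)) .nil)) .nil)) .nil))) .nil)) .nil)) .nil)) .nil))

set_option maxRecDepth 100000 in
def c21 : T := (.br 3 [230, 263, 296, 329, 362, 395, 428, 461, 494, 527, 560, 593, 626, 659] (.cons 451 (.br 5 [329, 362, 395, 428, 461, 494, 527, 560, 593, 626,
  659] (.cons 3589 (.br 10 [329, 362, 428, 461, 494, 527, 560, 593, 626, 659] (.cons 12810 (.br 12 [230, 263, 494, 527, 560, 593, 626, 659] (.cons 49228
  (.br 17 [428, 494, 560, 593, 626, 659] (.cons 86033 (.br 24 [263, 362, 593, 626, 659] (.cons 132248 (.br 6 [626, 659] (.cons 458758 (.br 18 [659]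
  (.cons 559122 (.br 9 [] (.cons 1835017 (.br 33 [] (.cons 172065 (.br 34 [] (.cons 1066018 (.br 20 [] (.cons 1057044 (.br 36 [] (.cons 528548 (.br 40
  [] (.cons 67880 (.br 48 [] (.cons 262768 (.br 1088 [] (.cons 599104 (.br 2112 [] (.cons 1185856 (.br 640 [] (.cons 1147520 (.br 2176 [] (.cons 288896
  (.br 768 [] (.cons 672512 (.br 1280 [] (.cons 300288 (.leaf 26128640051322339214200517265440 0) .nil)) .nil)) .nil)) .nil)) .nil)) .nil)) .nil))
  .nil)) .nil)) .nil)) .nil)) .nil)) .nil)) .nil)) .nil)) .nil)) .nil)) .nil)) .nil)) .nil)) .nil))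

theorem c11_ok : ifB c11.isN (p11.chk c11 []) false = true := by decide +kernel
theorem c12_ok : ifB c12.isN (p12.chk c12 []) false = true := by decide +kernel
theorem c21_ok : ifB c21.isN (p21.chk c21 []) false = true := by decide +kernel

theorem cov_of {B : Set (Finset α)} (hB : IsSteinerSystem t k B) (s : Finset α) (hs : #s = t) :
    ∃ c ∈ B, s ⊆ c ∧ #c = k := by
  obtain ⟨c, ⟨h1, h2⟩, -⟩ := hB.2 s hs
  exact ⟨c, h1, h2, hB.1 c h1⟩

theorem okI_steiner {n W : ℕ} (hn : n ≤ 24) {B : Set (Finset (Fin n))} (hB : IsSteinerSystem t k B) (htk : t ≤ k)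
    (hW : W.testBit k = true ∧ ∀ i < t, tri (lv t k n) i (k - i) ≠ 0 → W.testBit i = true)
    (a : ℕ) (ha : a < 2 ^ n) (b : ℕ) (_ : b < 2 ^ n) (h1 : fs n a ∈ B) (h2 : fs n b ∈ B) : okI W a b = true := by
  refine okI_of hn ha ?_
  by_cases e : fs n a = fs n b
  · rw [← e, inter_self, hB.1 _ h1, hW.1]
  · have := tri_ne_zero hB htk h1 h2 e
    rw [Fintype.card_fin] at this
    exact hW.2 _ this.1 this.2

theorem ok11 : p11.Ok (IsSteinerSystem 4 5) :=
  ⟨by decide, fun _ π _ => steiner_tr π, fun _ => cov_of, nofun, fun _ _ _ _ _ => rfl,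
    fun _ h => okI_steiner (by decide) h (by decide) (by decide +kernel)⟩

theorem ok12 : p12.Ok (IsSteinerSystem 5 6) :=
  ⟨by decide, fun _ π _ => steiner_tr π, fun _ => cov_of, nofun, fun _ _ _ _ _ => rfl,
    fun _ h => okI_steiner (by decide) h (by decide) (by decide +kernel)⟩

theorem map_inter_card [DecidableEq α] [DecidableEq β] (e : α ≃ β) (a b : Finset α) :
    #(a.map e.toEmbedding ∩ b.map e.toEmbedding) = #(a ∩ b) := by rw [← map_inter, card_map]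

theorem ok21 : p21.Ok fun B => IsSteinerSystem 2 5 B ∧ ∀ l ∈ B, #(fs 21 63 ∩ l) = 0 ∨ #(fs 21 63 ∩ l) = 2 := by
  refine ⟨by decide, fun B (π : Equiv.Perm (Fin 21)) h hB => ⟨steiner_tr π hB.1, fun (l : Finset (Fin 21)) hl => ?_⟩, fun _ h => cov_of h.1, nofun,
    fun _ h a _ ha => okI_of (n := 21) (by decide) (by decide) ?_,
    fun _ h => okI_steiner (by decide) h.1 (by decide) (by decide +kernel)⟩
  · have : (fs 21 63).map π.toEmbedding = fs 21 63 := eq_of_subset_of_card_le (fun i hi => by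
      obtain ⟨j, hj, rfl⟩ := mem_map.1 hi
      exact (h j (lt_of_testBit (n := 6) (by decide) (mem_fs.1 hj))).symm ▸ hj) (card_map _).ge
    rw [← map_inter_card π, this]
    exact hB.2 _ hl
  · rcases h.2 _ ha with e | e <;> exact e ▸ rfl

variable [Fintype α] [DecidableEq α] [Fintype β] [DecidableEq β] {B : Set (Finset α)} {B' : Set (Finset β)}

/-- labelled copy of the family `F` -/
def Lab {n q : ℕ} (F : Set (Finset (Fin n))) (B : Set (Finset α)) (x : Fin q → α) : Prop :=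
  ∃ e : Fin n ≃ α, (∀ i : Fin n, ∀ h : i < q, e i = x ⟨i, h⟩) ∧ tr e B = F

omit [Fintype α] [DecidableEq α] [Fintype β] [DecidableEq β] in
theorem Lab.iso {n q : ℕ} (hq : q ≤ n) {F : Set (Finset (Fin n))} {x : Fin q → α} {y : Fin q → β}
    (h : Lab F B x) (h' : Lab F B' y) : ∃ f : α ≃ β, (∀ i, f (x i) = y i) ∧ tr f B' = B := by
  obtain ⟨e, h1, h2⟩ := h
  obtain ⟨f, h3, h4⟩ := h'
  refine ⟨e.symm.trans f, fun i => ?_, tr_trans_symm (h2.trans h4.symm)⟩
  rw [← show _ = x i from h1 (i.castLE hq) i.2, Equiv.trans_apply, e.symm_apply_apply]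
  exact h3 _ i.2

omit [DecidableEq α] in
theorem lab11 (hα : Fintype.card α = 11) (hB : IsSteinerSystem 4 5 B) {x : Fin 4 → α} (hx : x.Injective) :
    Lab (fam 11 p11.gens) B x :=
  ok11.strong c11 c11_ok (by decide) (by decide +kernel) hα hB x hx fun e _ => steiner_tr e hB

omit [DecidableEq α] in
theorem lab12 (hα : Fintype.card α = 12) (hB : IsSteinerSystem 5 6 B) {x : Fin 5 → α} (hx : x.Injective) :
    Lab (fam 12 p12.gens) B x :=
  ok12.strong c12 c12_ok (by decide) (by decide +kernel) hα hB x hx fun e _ => steiner_tr e hB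

theorem oval_even (hα : Fintype.card α = 21) (hB : IsSteinerSystem 2 5 B) {H : Finset α} (hH : #H = 6)
    (h : ∀ l ∈ B, #(l ∩ H) ≤ 2) {l : Finset α} (hl : l ∈ B) : #(l ∩ H) = 0 ∨ #(l ∩ H) = 2 := by
  have h0 := fun i hi => moment hB (by omega) H (m := 6) (by omega) (i := i) hi
  have h1 := h0 1 (by omega)
  have h2 := h0 2 (by omega)
  have h3 : ∀ j, 2 < j → nb B H j = 0 := fun j hj => nb_eq_zero fun c hc => by have := h c hc; omega
  norm_num [hα, hH, sum_range_succ, lv, Nat.choose, h3] at h1 h2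
  have h4 : nb B H 1 = 0 := by omega
  have h5 : #(l ∩ H) ≠ 1 := fun e =>
    Set.ncard_ne_zero_of_mem (s := {c | c ∈ B ∧ #(c ∩ H) = 1}) ⟨hl, e⟩ (Set.toFinite _) h4
  have := h l hl
  omega

theorem lab21 (hα : Fintype.card α = 21) (hB : IsSteinerSystem 2 5 B) {x : Fin 6 → α} (hx : x.Injective)
    (h : ∀ l ∈ B, #(l ∩ univ.image x) ≤ 2) : Lab (fam 21 p21.gens) B x :=
  ok21.strong c21 c21_ok (by decide) (by decide +kernel) hα hB x hx fun (e : Fin 21 ≃ α) he =>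
    ⟨steiner_tr e hB, fun (l : Finset (Fin 21)) hl => by
    have h6 : #(univ.image x) = 6 := by simp [card_image_of_injective _ hx]
    have : (fs 21 63).map e.toEmbedding = univ.image x := eq_of_subset_of_card_le (fun i hi => by
      obtain ⟨j, hj, rfl⟩ := mem_map.1 hi
      exact (he j (lt_of_testBit (n := 6) (by decide) (mem_fs.1 hj))).symm ▸ mem_image_of_mem _ (mem_univ _))
      (by rw [card_map, h6]; decide)
    rw [← map_inter_card e, inter_comm]
    exact this ▸ oval_even hα hB h6 h hl⟩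

omit [DecidableEq α] in
theorem exists_inj {q : ℕ} (h : q ≤ Fintype.card α) : ∃ x : Fin q → α, x.Injective :=
  let ⟨f⟩ := Function.Embedding.nonempty_of_card_le (α := Fin q) (β := α) (by simpa)
  ⟨f, f.injective⟩

theorem mt_of_lab {n q : ℕ} (hq : q ≤ n) {F : Set (Finset (Fin n))}
    (h : ∀ x : Fin q → α, x.Injective → Lab F B x) : IsMultiplyPretransitive (setSystemAut B) α q :=
  (Pm.mt_subgroup_iff _).2 fun x y hx hy =>
    let ⟨f, h1, h2⟩ := (h x hx).iso hq (h y hy)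
    ⟨f, mem_aut.2 h2, h1⟩

theorem smul_block (hB : IsSteinerSystem t k B) {g : Equiv.Perm α} (hg : g ∈ setSystemAut B) {b s : Finset α}
    (hb : b ∈ B) (hs : s ⊆ b) (h : t ≤ #s) (h' : ∀ x ∈ s, g x ∈ b) : g • b = b :=
  steiner_eq_of_inter hB (smul_mem_of_aut hg hb) hb (by
    rw [← card_smul_finset g s] at h
    refine h.trans (card_le_card (subset_inter (smul_finset_subset_smul_finset hs) fun y hy => ?_))
    obtain ⟨x, hx, rfl⟩ := mem_smul_finset.1 hy
    exact h' x hx)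

theorem not_alt_le (hB : IsSteinerSystem t k B) (h1 : t < k) (h2 : k + 2 ≤ Fintype.card α) :
    ¬ alternatingGroup α ≤ setSystemAut B := fun h => by
  obtain ⟨s, -, hs⟩ := exists_subset_card_eq (s := (univ : Finset α)) (n := t) (by rw [card_univ]; omega)
  obtain ⟨b, hb, h3, h4⟩ := cov_of hB s hs
  obtain ⟨x, hx, hx'⟩ := exists_mem_notMem_of_card_lt_card (s := s) (t := b) (by omega)
  obtain ⟨y, -, hy⟩ := exists_mem_notMem_of_card_lt_card (s := b) (t := univ) (by rw [card_univ]; omega)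
  obtain ⟨z, -, hz⟩ := exists_mem_notMem_of_card_lt_card (s := insert y b) (t := univ)
    (by rw [card_univ, card_insert_of_notMem hy]; omega)
  rw [mem_insert, not_or] at hz
  have h5 := smul_block hB (h (show Equiv.swap x z * Equiv.swap x y ∈ _ by
    simp [Equiv.Perm.mem_alternatingGroup, Equiv.Perm.sign_swap, ne_of_mem_of_not_mem hx, hy, hz.2])) hb h3 hs.ge
    fun w hw => by
      have := h3 hw
      simp only [Equiv.Perm.mul_apply, Equiv.swap_apply_def]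
      grind
  refine hy (h5 ▸ mem_smul_finset.2 ⟨x, hx, ?_⟩)
  simp only [Equiv.Perm.smul_def, Equiv.Perm.mul_apply, Equiv.swap_apply_def]
  grind

theorem sharp12 (hα : Fintype.card α = 12) (hB : IsSteinerSystem 5 6 B) : Pm.Sharp (setSystemAut B) α 5 := by
  have h5 := mt_of_lab (by omega) fun x hx => lab12 hα hB hx
  refine fun g s hs hg => by_contra fun h1 => not_alt_le hB (by omega) (by omega) ?_
  obtain ⟨b, hb, h3, h4⟩ := cov_of hB s hs
  have h6 := smul_block hB g.2 hb h3 hs.ge fun x hx => by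
    rw [show g.1 x = x from hg x hx]; exact h3 hx
  obtain ⟨h, a1, a2, a3⟩ := Pm.exists_small_support _ (by omega) (by omega) h5 g.1 g.2 (by simpa using h1) (by
    refine (card_le_card (t := bᶜ) fun x hx => mem_compl.2 fun hx' => Equiv.Perm.mem_support.1 hx ?_).trans_lt
      (by rw [card_compl]; omega)
    by_cases e : x ∈ s
    · exact hg x e
    refine card_le_one.1 (show #(b \ s) ≤ 1 by rw [card_sdiff_of_subset h3]; omega) _
      (mem_sdiff.2 ⟨h6 ▸ smul_mem_smul_finset hx', fun h => e ?_⟩) _ (mem_sdiff.2 ⟨hx', e⟩)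
    exact g.1.injective (hg _ h) ▸ h)
  exact Pm.alt_le_of_card_support_le_three _ (by
    have := Pm.mt_le h5 (show 2 ≤ 5 by omega) (by rw [Nat.card_eq_fintype_card]; omega)
    exact isPreprimitive_of_is_two_pretransitive this) a1 a2 a3

theorem sharp11 (hα : Fintype.card α = 11) (hB : IsSteinerSystem 4 5 B) : Pm.Sharp (setSystemAut B) α 4 := by
  have h4 := mt_of_lab (by omega) fun x hx => lab11 hα hB hx
  have hX : Nat.card α = 11 := by rw [Nat.card_eq_fintype_card, hα]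
  have := is_one_pretransitive_iff.1 (Pm.mt_le h4 (show 1 ≤ 4 by omega) (by omega))
  have hG : ¬ Group.IsSolvable (setSystemAut B) := fun ⟨⟨n, hn⟩⟩ => by
    obtain ⟨x, hx⟩ := exists_inj (α := α) (q := 3) (by omega)
    have key : ∀ N : Subgroup (setSystemAut B), IsMultiplyPretransitive N α 3 → ⁅N, N⁆ ≠ ⊥ := fun N hN e => by
      obtain ⟨g, g1, g2⟩ := (Pm.mt_subgroup_iff _).1 hN x (x ∘ Equiv.swap 1 2) hx (hx.comp (Equiv.injective _))
      obtain ⟨h, h1, h2⟩ := (Pm.mt_subgroup_iff _).1 hN x (x ∘ Equiv.swap 0 1) hx (hx.comp (Equiv.injective _))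
      have := congrArg (· • x 0) ((Subgroup.commutator_eq_bot_iff_le_centralizer.1 e g1) h h1)
      simp only [mul_smul, g2, h2] at this
      exact absurd (hx ((h2 0).symm.trans (this.trans (g2 1)))) (by decide)
    induction n with
    | zero =>
      exact key ⊤ ((Pm.mt_subgroup_iff _).2 fun x y hx hy =>
        (Pm.mt_iff.1 (Pm.mt_le h4 (by omega) (by omega)) x y hx hy).imp fun _ h => ⟨trivial, h⟩)
        (le_bot_iff.1 (le_top.trans hn.le))
    | succ n ih =>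
      have := derivedSeries_normal (setSystemAut B) n
      exact key _ ((Pm.normal_mt_pred (by omega) (by omega) h4 _ ih).resolve_right (by omega)) hn
  intro g s hs hg
  have h1 := Pm.card_eq_of_mt h4 s hs
  have h2 := Pm.deg_eleven (G := setSystemAut B) hα hG fun h => not_alt_le hB (by omega) (by omega) fun g hg => by
    obtain ⟨g, rfl⟩ := h (by convert hg); exact g.2
  simp only [hα, Nat.descFactorial] at h1
  have h3 : Nat.card (fixingSubgroup (setSystemAut B) (s : Set α)) = 1 := by omega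
  exact Subgroup.mem_bot.1 (Subgroup.card_eq_one.1 h3 ▸ (mem_fixingSubgroup_iff _).2 hg)

theorem stab_of_sharp {G : Type*} [Group G] [MulAction G α] {k : ℕ} (h : Pm.Sharp G α k) (x : Fin k ↪ α) :
    stabilizer G x = ⊥ := eq_bot_iff.2 fun g hg => h g (univ.map x) (by simp) fun z hz => by
  obtain ⟨i, -, rfl⟩ := mem_map.1 hz
  exact DFunLike.congr_fun hg i

end Cfsg.Agent.H2.St
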