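import Mathlib
import Cfsg.Agent.H2.Perm5

/-! Primitive groups with a regular abelian subgroup having a cyclic Sylow subgroup (Schur, Wielandt). -/

namespace Cfsg.Agent.H2.Pm
open MulAction Finset
open scoped Classical Pointwise

section
variable {G H : Type*} [Group G] [Group H] [MulAction G H] (hl : ∀ h : H, ∃ g : G, ∀ x : H, g • x = h * x)
include hl

theorem sr_key (g : G) (x : H) : ∃ k : G, k • (1 : H) = 1 ∧ ∀ y : H, g • (x * y) = g • x * k • y := by
  obtain ⟨a, ha⟩ := hl (g • x)⁻¹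
  obtain ⟨b, hb⟩ := hl x
  exact ⟨a * g * b, by simp [mul_smul, ha, hb], fun y => by simp [mul_smul, ha, hb]⟩

theorem sr_sub [IsPreprimitive G H] (L : Subgroup H) (h : ∀ g : G, g • (1 : H) = 1 → ∀ x ∈ L, g • x ∈ L) :
    L = ⊥ ∨ L = ⊤ := by
  refine (prim_block (G := G) (B := (L : Set H)) fun g x hx hg y hy => ?_).imp
    (fun e => L.eq_bot_iff_forall.2 fun x hx => e hx L.one_mem) Subgroup.coe_eq_univ.1
  obtain ⟨k, h1, h2⟩ := sr_key hl g x
  simpa [← h2] using L.mul_mem hg (h k h1 _ (L.mul_mem (L.inv_mem hx) hy))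

theorem sr_closure [IsPreprimitive G H] {U : Set H} (h : ∀ g : G, g • (1 : H) = 1 → ∀ x ∈ U, g • x ∈ U)
    {L : Subgroup H} (hU : U ⊆ L) (hL : L ≠ ⊤) : ∀ x ∈ U, x = 1 := by
  have : ∀ x ∈ Subgroup.closure U, ∀ g : G, g • (1 : H) = 1 → g • x ∈ Subgroup.closure U := fun x hx => by
    induction hx using Subgroup.closure_induction with
    | mem x hx => exact fun g hg => Subgroup.subset_closure (h g hg x hx)
    | one => exact fun g hg => hg.symm ▸ one_mem _
    | mul x y _ _ h1 h2 => exact fun g hg => let ⟨k, h3, h4⟩ := sr_key hl g x; h4 y ▸ mul_mem (h1 g hg) (h2 k h3)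
    | inv x _ h1 =>
      intro g hg
      obtain ⟨k, h3, h4⟩ := sr_key hl g x⁻¹
      have := h4 x
      rw [inv_mul_cancel, hg, eq_comm, mul_eq_one_iff_eq_inv] at this
      exact this ▸ inv_mem (h1 k h3)
  rcases sr_sub hl _ fun g hg x hx => this x hx g hg with e | e
  · exact fun x hx => Subgroup.mem_bot.1 (e ▸ Subgroup.subset_closure hx)
  · exact absurd (top_le_iff.1 (e ▸ (Subgroup.closure_le L).2 hU)) hL

theorem sr_mul [Fintype H] {R : Type*} [Semiring R] {f f' : MonoidAlgebra R H}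
    (h : ∀ g : G, g • (1 : H) = 1 → ∀ x, f.coeff (g • x) = f.coeff x)
    (h' : ∀ g : G, g • (1 : H) = 1 → ∀ x, f'.coeff (g • x) = f'.coeff x) (g : G) (hg : g • (1 : H) = 1) (y : H) :
    (f * f').coeff (g • y) = (f * f').coeff y := by
  simp only [MonoidAlgebra.coeff_mul_apply_left, Finsupp.sum_fintype, zero_mul, implies_true]
  refine (Fintype.sum_equiv (toPerm g) _ _ fun x => ?_).symm
  obtain ⟨k, h1, h2⟩ := sr_key hl g x
  have := h2 (x⁻¹ * y)
  rw [mul_inv_cancel_left] at this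
  rw [toPerm_apply, h g hg, this, inv_mul_cancel_left, h' k h1]

theorem sr_cnt {T : Finset H} (h : ∀ g : G, g • (1 : H) = 1 → ∀ x, g • x ∈ T ↔ x ∈ T) (g : G) (hg : g • (1 : H) = 1)
    (x : H) : #{t ∈ T | x * t ∈ T} = #{t ∈ T | g • x * t ∈ T} := by
  obtain ⟨k, h1, h2⟩ := sr_key hl g x
  exact card_equiv (toPerm k) fun t => by simp [← h2, h _ h1, h _ hg]
end

theorem sr_two {G H : Type*} [Group G] [CommGroup H] [Fintype H] [MulAction G H] [IsPreprimitive G H]
    (hl : ∀ h : H, ∃ g : G, ∀ x : H, g • x = h * x) {p : ℕ} [hp : Fact p.Prime]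
    (hE : Nat.card (powMonoidHom p : H →* H).ker = p) (hH : Nat.card H ≠ p) {x y : H} (hx : x ≠ 1) (hy : y ≠ 1) :
    ∃ g : G, g • (1 : H) = 1 ∧ g • x = y := by
  set E := (powMonoidHom p : H →* H).ker
  have h2 := hp.1.two_le
  have hE' : #{x | x ∈ E} = p := (Fintype.card_subtype _).symm.trans (Nat.card_eq_fintype_card.symm.trans hE)
  have h1 : ∀ t : H, #{x | t⁻¹ * x ∈ E} = p := fun t =>
    (card_equiv (Equiv.mulLeft t⁻¹) (by simp)).trans hE'
  let O (x : H) : Finset H := {y | ∃ g : G, g • (1 : H) = 1 ∧ g • x = y}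
  have hO : ∀ x (g : G), g • (1 : H) = 1 → ∀ y, g • y ∈ O x ↔ y ∈ O x := fun x g hg y => by
    simp only [O, mem_filter_univ]
    exact ⟨fun ⟨k, a, b⟩ => ⟨g⁻¹ * k, by rw [mul_smul, a, inv_smul_eq_iff, hg], by rw [mul_smul, b, inv_smul_smul]⟩,
      fun ⟨k, a, b⟩ => ⟨g * k, by rw [mul_smul, a, hg], by rw [mul_smul, b]⟩⟩
  have hO1 : ∀ x ≠ 1, 1 ∉ O x := fun x hx h => by
    obtain ⟨g, a, b⟩ := mem_filter_univ _ |>.1 h
    exact hx (smul_left_cancel g (b.trans a.symm))
  have hO2 : ∀ x, x ∈ O x := fun x => (mem_filter_univ _).2 ⟨1, by simp⟩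
  have hW : ∀ x, ∀ t ∈ O x, t ∉ E → ∀ e ∈ E, t * e ∈ O x := fun x t ht h e he => by
    have := charP_of_injective_algebraMap (R := ZMod p) (A := MonoidAlgebra (ZMod p) H) (algebraMap (ZMod p) _).injective p
    let f : MonoidAlgebra (ZMod p) H := ∑ t ∈ O x, .single t 1
    have a : ∀ n (g : G), g • (1 : H) = 1 → ∀ y, (f ^ n).coeff (g • y) = (f ^ n).coeff y := fun n => by
      induction n with
      | zero =>
        intro g hg y
        have : 1 = g • y ↔ 1 = y := by conv_lhs => rw [← hg, smul_left_cancel_iff]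
        simp [MonoidAlgebra.one_def, Finsupp.single_apply, this]
      | succ n ih =>
        rw [pow_succ]
        exact sr_mul hl ih fun g hg y => by simp [f, Finsupp.single_apply, hO x g hg]
    have b : ∀ y, (f ^ p).coeff y = #{s ∈ O x | s ^ p = y} := fun y => by
      simp [f, sum_pow_char, Finsupp.single_apply]
    have c := sr_closure hl (U := {y | (f ^ p).coeff y ≠ 0}) (L := (powMonoidHom p).range)
      (fun g hg y hy => by simpa [a p g hg] using hy) (fun y hy => by_contra fun n => hy (by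
        rw [b, filter_eq_empty_iff.2 fun s _ (e : s ^ p = y) => n ⟨s, e⟩]; simp)) (fun e => by
        rw [MonoidHom.range_eq_top, ← Finite.injective_iff_surjective, ← MonoidHom.ker_eq_bot_iff] at e
        simp only [E, e, Subgroup.card_bot] at hE; omega) (t ^ p)
    have d : p ∣ #{s ∈ O x | s ^ p = t ^ p} := by
      rw [← ZMod.natCast_eq_zero_iff, ← b]; exact by_contra fun n => h (c n)
    have := eq_of_subset_of_card_le (s := {s ∈ O x | s ^ p = t ^ p}) (t := {x | t⁻¹ * x ∈ E})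
      (fun s hs => by simp [E, mul_pow, (mem_filter.1 hs).2])
      ((h1 t).trans_le (Nat.le_of_dvd (card_pos.2 ⟨t, by simpa⟩) d))
    exact (mem_filter.1 (this.ge (show t * e ∈ _ by simpa))).1
  have hB : ∀ x ≠ 1, ∃ e ∈ O x, e ∈ E := fun x hx => by_contra fun n => by
    push Not at n
    refine (sr_sub hl (stabilizer H (O x)) fun g hg h hh => ?_).elim (fun e => ?_) fun e => ?_
    swap
    · have : E ≤ ⊥ := e ▸ fun e he => (mem_stabilizer_finset' ..).2 fun t ht => by
        simpa [mul_comm] using hW x t ht (n t ht) e he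
      simp only [le_bot_iff.1 this, Subgroup.card_bot] at hE; omega
    swap
    · exact hO1 x hx (by simpa using (mem_stabilizer_finset' ..).1 (e.ge (Subgroup.mem_top x⁻¹)) (hO2 x))
    · obtain ⟨k, a, b⟩ := sr_key hl g h
      refine (mem_stabilizer_finset' ..).2 fun t ht => ?_
      rw [← smul_inv_smul k t, smul_eq_mul, ← b, hO x g hg]
      exact (mem_stabilizer_finset' ..).1 hh ((hO x k a _).1 (by simpa))
  have hb : ∀ x ≠ 1, p ≤ 2 * #{e ∈ O x | e ∈ E} := fun x hx => by
    obtain ⟨t, ht, h⟩ : ∃ t ∈ O x, t ∉ E := by_contra fun n => by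
      push Not at n
      exact hx (sr_closure hl (U := O x) (fun g hg y hy => (hO x g hg y).2 hy) n
        (fun e => hH (by rw [← hE, e, Subgroup.card_top])) x (hO2 x))
    obtain ⟨e, h3, h4⟩ := hB t⁻¹ fun e => h (inv_eq_one.1 e ▸ one_mem _)
    obtain ⟨g, a, rfl⟩ := (mem_filter_univ _).1 h3
    have c := sr_cnt hl (hO x) g a t⁻¹
    have c1 := card_le_card (s := {s ∈ O x | s ∉ E}) (t := {s ∈ O x | g • t⁻¹ * s ∈ O x}) fun s hs => by
      rw [mem_filter] at hs ⊢
      exact ⟨hs.1, mul_comm s _ ▸ hW x s hs.1 hs.2 _ h4⟩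
    have c2 := card_filter_add_card_filter_not (s := O x) (· ∈ E)
    have c3 := card_filter_add_card_filter_not (s := O x) (t⁻¹ * · ∈ E)
    have c7 : (O x).filter (t⁻¹ * · ∈ E) = univ.filter (t⁻¹ * · ∈ E) := by
      ext s; simpa using fun hs => by simpa using hW x t ht h _ hs
    rw [c7, h1] at c3
    have c4 := card_filter_add_card_filter_not (s := {s ∈ O x | t⁻¹ * s ∈ O x}) (t⁻¹ * · ∈ E)
    have c5 := card_le_card_of_injOn (s := {s ∈ {s ∈ O x | t⁻¹ * s ∈ O x} | t⁻¹ * s ∈ E}) (t := {e ∈ O x | e ∈ E})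
      (t⁻¹ * ·) (fun s hs => by simp at hs ⊢; tauto) (mul_right_injective _).injOn
    have c6 := card_le_card (filter_subset_filter (fun s => ¬ t⁻¹ * s ∈ E) (filter_subset (t⁻¹ * · ∈ O x) (O x)))
    omega
  by_contra n
  have d : Disjoint {e ∈ O x | e ∈ E} {e ∈ O y | e ∈ E} := disjoint_left.2 fun e a b => by
    obtain ⟨g, c, rfl⟩ := (mem_filter_univ _).1 (mem_filter.1 b).1
    exact n (mem_filter.1 ((hO x g c y).1 (mem_filter.1 a).1)).2
  have := card_le_card (s := {e ∈ O x | e ∈ E} ∪ {e ∈ O y | e ∈ E}) (t := ({x | x ∈ E} : Finset H).erase 1)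
    fun e he => by have := hO1 x hx; have := hO1 y hy; simp at he ⊢; grind
  rw [card_union_of_disjoint d, card_erase_of_mem (by simp), hE'] at this
  have := hb x hx
  have := hb y hy
  omega

theorem two_trans_of_cyclic {G Ω : Type*} [Group G] [MulAction G Ω] [Finite Ω] [IsPreprimitive G Ω]
    (C : Subgroup G) [IsCyclic C] [IsPretransitive C Ω] (hC : ∀ a : Ω, stabilizer C a = ⊥) {p : ℕ}
    (hp : p.Prime) (h1 : p ∣ Nat.card Ω) (h2 : Nat.card Ω ≠ p) : IsMultiplyPretransitive G Ω 2 := by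
  refine is_two_pretransitive_iff.2 fun {a b c d} hab hcd => ?_
  let e : C ≃ Ω := .ofBijective (· • a) ⟨fun x y h => inv_mul_eq_one.1 ((hC a).le (by
    simpa [mul_smul, inv_smul_eq_iff] using h.symm)), exists_smul_eq C a⟩
  have e1 : e 1 = a := one_smul C a
  have := Finite.of_equiv _ e.symm
  have := Fintype.ofFinite C
  letI := e.mulAction G
  letI : CommGroup C := IsCyclic.commGroup
  have he : ∀ (g : G) x, e (g • x) = g • e x := fun g x => e.apply_symm_apply _
  have : IsPreprimitive G C := .of_surjective (φ := id)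
    (f := ⟨e.symm, fun g x => e.injective (by simp [he])⟩) e.symm.surjective
  have := Fact.mk hp
  obtain ⟨k, rfl⟩ := exists_smul_eq G a c
  obtain ⟨g, h3, h4⟩ := sr_two (G := G) (H := C) (fun h => ⟨h, fun x => e.injective ((he _ _).trans (mul_smul h x a).symm)⟩)
    (p := p) (by rw [IsCyclic.card_powMonoidHom_ker, Nat.card_congr e, Nat.gcd_eq_right h1]) (Nat.card_congr e ▸ h2)
    (x := e.symm b) (y := e.symm (k⁻¹ • d)) (fun h => hab (by simpa [e1] using (e.symm_apply_eq.1 h).symm))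
    fun h => hcd (by simpa [e1, eq_inv_smul_iff] using (e.symm_apply_eq.1 h).symm)
  exact ⟨k * g, by simpa [he, e1, mul_smul] using congrArg e h3, by
    simpa [he, mul_smul, eq_inv_smul_iff] using congrArg e h4⟩

end Cfsg.Agent.H2.Pm
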