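import Mathlib
import Cfsg.Agent.H2.Perm5
import Cfsg.Agent.H10.Basic

/-! Abelian subgroups of symmetric and alternating groups. -/

namespace Cfsg.Agent.H2.Ab
open Equiv Equiv.Perm Subgroup MonoidHom
universe u

variable {α β : Type*} {Ω Ω' : Type u}

/-- Permutations of two parts. -/
def φ {Ω : Type*} (f : α ⊕ β ≃ Ω) : Perm α × Perm β →* Perm Ω := f.permCongrHom.toMonoidHom.comp (sumCongrHom α β)

theorem φ_inj {Ω : Type*} (f : α ⊕ β ≃ Ω) : Function.Injective (φ f) := f.permCongrHom.injective.comp sumCongrHom_injective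

theorem sign_φ {Ω : Type*} [Fintype α] [Fintype β] [Fintype Ω] [DecidableEq α] [DecidableEq β] [DecidableEq Ω]
    (f : α ⊕ β ≃ Ω) (q) : sign (φ f q) = sign q.1 * sign q.2 := (sign_permCongr ..).trans (sign_sumCongr ..)

theorem card_ker {G H : Type*} [Group G] [Group H] (A : Subgroup (G × H)) :
    Nat.card A = Nat.card (A.map (fst G H)) * Nat.card (A.comap (inr G H)) := by
  rw [← H10.card_map_mul_card_inf_ker (fst G H), ← card_map_of_injective (f := inr G H) (Prod.mk_right_injective 1),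
    map_comap_eq, inf_comm]
  congr 4; ext ⟨a, b⟩; simp [eq_comm, mem_prod]

theorem dec [Fintype Ω] (A : Subgroup (Perm Ω)) [IsMulCommutative A] (x : Ω) :
    ∃ (m : ℕ) (β : Type u) (_ : Fintype β) (_ : DecidableEq β) (f : Fin m ⊕ β ≃ Ω) (A0 : Subgroup _) (i : Fin m),
      f (.inl i) = x ∧ A0.map (φ f) = A ∧ IsMulCommutative A0 ∧ Nat.card (A0.map (fst _ _)) = m ∧
      Nat.card A0 = Nat.card A ∧ m + Fintype.card β = Fintype.card Ω := by
  classical
  let O := MulAction.orbit A x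
  let e := (Fintype.equivFin O).symm
  let f := (e.sumCongr (.refl _)).trans (Equiv.Set.sumCompl O)
  have h1 : (A.comap (φ f)).map (φ f) = A := map_comap_eq_self fun g hg => by
    obtain ⟨q, hq⟩ := mem_sumCongrHom_range_of_perm_mapsTo_inl (σ := f.symm.permCongr g) (by
      rintro _ ⟨i, rfl⟩
      refine ⟨e.symm ⟨g (e i), MulAction.mapsTo_smul_orbit (⟨g, hg⟩ : A) x (e i).2⟩, f.injective ?_⟩
      simp [f])
    exact ⟨q, by ext; simp [φ, hq]⟩
  have h2 := comap_injective_isMulCommutative A (φ_inj f)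
  have h3 : ∀ q i, φ f q (e i) = e (q.1 i) := fun q i => by simp [φ, f]
  have h4 : ∀ i j, ∃ n ∈ (A.comap (φ f)).map (fst _ _), n • i = j := fun i j => by
    obtain ⟨g, hg⟩ := (MulAction.exists_smul_eq A (e i) (e j) :)
    obtain ⟨q, hq, e'⟩ := h1.ge g.2
    exact ⟨_, mem_map_of_mem _ hq, e.injective (Subtype.ext ((h3 q i).symm.trans (e' ▸ congrArg Subtype.val hg)))⟩
  refine ⟨_, (Oᶜ :), inferInstance, inferInstance, f, _, e.symm ⟨x, MulAction.mem_orbit_self x⟩, by simp [f], h1, h2,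
    (Pm.card_eq_of_regular h4 (fun n hn a ha => Equiv.ext fun b => ?_) (e.symm ⟨x, MulAction.mem_orbit_self x⟩)).trans
      (by simp), by rw [← card_map_of_injective (φ_inj f), h1], by simpa using Fintype.card_congr f⟩
  obtain ⟨k, hk, rfl⟩ := h4 a b
  exact (congrArg (· • a) (setLike_mul_comm hn hk)).trans (by simp only [mul_smul, ha]; rfl)

/-- Largest order in the symmetric group. -/
def g : ℕ → ℕ | 0 => 1 | 1 => 1 | 2 => 2 | 3 => 3 | 4 => 4 | n + 5 => 3 * g (n + 2)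

/-- Largest order in the alternating group. -/
def h : ℕ → ℕ | 0 => 1 | 1 => 1 | 2 => 1 | 3 => 3 | 4 => 4 | 5 => 5 | 6 => 9 | 7 => 12 | 8 => 16 | n + 9 => 3 * h (n + 6)

theorem g_add {n : ℕ} (hn : 2 ≤ n) : g (n + 3) = 3 * g n := by obtain ⟨n, rfl⟩ := Nat.exists_eq_add_of_le' hn; rfl
theorem h_add {n : ℕ} (hn : 6 ≤ n) : h (n + 3) = 3 * h n := by obtain ⟨n, rfl⟩ := Nat.exists_eq_add_of_le' hn; rfl

theorem h_pos (n : ℕ) : 0 < h n := by fun_induction h n <;> omega

theorem g_mul (m n : ℕ) : m * g n ≤ g (m + n) := by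
  induction' e : m + n using Nat.strong_induction_on with s ih generalizing m n
  subst e
  by_cases h1 : 5 ≤ n
  · obtain ⟨n, rfl⟩ := Nat.exists_eq_add_of_le' (by omega : 3 ≤ n)
    have := ih _ (by omega) m n rfl
    rw [← add_assoc, g_add (by omega), g_add (by omega)]; linarith
  by_cases h2 : 5 ≤ m
  · obtain ⟨m, rfl⟩ := Nat.exists_eq_add_of_le' (by omega : 3 ≤ m)
    have := ih _ (by omega) m n rfl
    rw [add_right_comm, g_add (by omega)]; nlinarith [mul_le_mul_left (by omega : 2 ≤ m) (g n)]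
  exact (by decide : ∀ m < 5, ∀ n < 5, m * g n ≤ g (m + n)) m (by omega) n (by omega)

theorem h_mul (m n : ℕ) (h0 : m ≠ 2) : m * h n ≤ h (m + n) ∧ (m * h n = h (m + n) → m = 3 ∨ m = 4 ∨ m + n ≤ 2 ∨ m + n = 5) := by
  induction' e : m + n using Nat.strong_induction_on with s ih generalizing m n
  subst e
  by_cases h1 : 9 ≤ n
  · obtain ⟨n, rfl⟩ := Nat.exists_eq_add_of_le' (by omega : 3 ≤ n)
    have := ih _ (by omega) m n h0 rfl
    rw [← add_assoc, h_add (by omega), h_add (by omega), mul_left_comm]; omega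
  by_cases h2 : 9 ≤ m
  · obtain ⟨m, rfl⟩ := Nat.exists_eq_add_of_le' (by omega : 3 ≤ m)
    have := (ih _ (by omega) m n (by omega) rfl).1
    have := h_pos n
    have := mul_le_mul_left (by omega : 2 ≤ m) (h n)
    rw [add_right_comm, h_add (by omega), add_mul]; omega
  push Not at h1 h2
  interval_cases m <;> interval_cases n <;> simp [h] at h0 ⊢

theorem g_le (n : ℕ) : g n ≤ h (2 + n) := by
  induction' n using Nat.strong_induction_on with n ih
  by_cases h1 : 7 ≤ n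
  · obtain ⟨n, rfl⟩ := Nat.exists_eq_add_of_le' (by omega : 3 ≤ n)
    have := ih n (by omega)
    rw [← add_assoc, g_add (by omega), h_add (by omega)]; omega
  exact (by decide : ∀ n < 7, g n ≤ h (2 + n)) n (by omega)

theorem card_one [Fintype Ω] (h : Fintype.card Ω = 0) (A : Subgroup (Perm Ω)) : Nat.card A = 1 := by
  have := Fintype.card_eq_zero_iff.1 h
  exact Nat.card_unique

theorem le_g [Fintype Ω] (A : Subgroup (Perm Ω)) [IsMulCommutative A] : Nat.card A ≤ g (Fintype.card Ω) := by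
  induction' e : Fintype.card Ω using Nat.strong_induction_on with n ih generalizing Ω
  subst e
  rcases isEmpty_or_nonempty Ω with _ | ⟨⟨x⟩⟩
  · simp [g]
  obtain ⟨m, β, _, _, f, A0, i, -, -, _, h1, h2, h3⟩ := dec A x
  have := comap_injective_isMulCommutative A0 (f := inr _ _) (Prod.mk_right_injective 1)
  rw [← h2, card_ker, h1, ← h3]
  exact (Nat.mul_le_mul_left _ (ih _ (by have := i.pos; omega) _ rfl)).trans (g_mul ..)

theorem le_two [Fintype Ω] [DecidableEq Ω] (A : Subgroup (Perm (Fin 2) × Perm Ω)) [IsMulCommutative A]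
    (h : ∀ q ∈ A, sign q.1 * sign q.2 = 1) : Nat.card A ≤ g (Fintype.card Ω) := by
  rw [← H10.card_map_mul_card_inf_ker (snd _ _), show A ⊓ (snd _ _).ker = ⊥ from eq_bot_iff.2 fun q hq =>
    Prod.ext ((by decide : ∀ a : Perm (Fin 2), sign a = 1 → a = 1) _ (by simpa [show q.2 = 1 from hq.2] using h q hq.1))
      hq.2, card_bot, mul_one]
  exact le_g _

theorem le_h [Fintype Ω] [DecidableEq Ω] (A : Subgroup (Perm Ω)) [IsMulCommutative A] (hA : A ≤ alternatingGroup Ω) :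
    Nat.card A ≤ h (Fintype.card Ω) := by
  induction' e : Fintype.card Ω using Nat.strong_induction_on with n ih generalizing Ω
  subst e
  rcases isEmpty_or_nonempty Ω with _ | ⟨⟨x⟩⟩
  · simp [h]
  obtain ⟨m, β, _, _, f, A0, i, -, rfl, _, h1, h2, h3⟩ := dec A x
  have := comap_injective_isMulCommutative A0 (f := inr _ _) (Prod.mk_right_injective 1)
  have h4 : ∀ q ∈ A0, sign q.1 * sign q.2 = 1 := fun q hq => (sign_φ f q).symm.trans (hA (mem_map_of_mem _ hq))
  rw [← h2, ← h3]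
  rcases eq_or_ne m 2 with rfl | h0
  · exact (le_two A0 h4).trans (g_le _)
  rw [card_ker, h1]
  exact (Nat.mul_le_mul_left _ (ih _ (by have := i.pos; omega) _ (fun b hb => by simpa using h4 _ hb) rfl)).trans
    (h_mul _ _ h0).1

/-- Existence of abelian subgroups. -/
def Ex (P : Prop) (n c : ℕ) : Prop :=
  ∃ A : Subgroup (Perm (Fin n)), IsMulCommutative A ∧ (P → A ≤ alternatingGroup _) ∧ Nat.card A = c

theorem Ex.add {P : Prop} {m n c d : ℕ} (h1 : Ex P m c) (h2 : Ex P n d) : Ex P (m + n) (c * d) := by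
  obtain ⟨A, _, a, rfl⟩ := h1
  obtain ⟨B, _, b, rfl⟩ := h2
  have : IsMulCommutative (A.prod B) := ⟨⟨fun x y => Subtype.ext (Prod.ext (setLike_mul_comm x.2.1 y.2.1)
    (setLike_mul_comm x.2.2 y.2.2))⟩⟩
  refine ⟨(A.prod B).map (φ finSumFinEquiv), inferInstance, ?_, by
    rw [card_map_of_injective (φ_inj _), Nat.card_congr (A.prodEquiv B).toEquiv, Nat.card_prod]⟩
  rintro p _ ⟨q, hq, rfl⟩
  rw [mem_alternatingGroup, sign_φ, a p hq.1, b p hq.2, one_mul]

theorem ex_bot (P : Prop) (n : ℕ) : Ex P n 1 := ⟨⊥, inferInstance, fun _ => bot_le, card_bot⟩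

theorem ex_rot {P : Prop} (n : ℕ) (h : P → Odd n) : Ex P (n + 2) (n + 2) :=
  ⟨zpowers (finRotate _), inferInstance, fun p => zpowers_le.2 (by simp [sign_finRotate, (h p).add_one.neg_one_pow]), by
    simp [Nat.card_zpowers, isCycle_finRotate.orderOf, -Nat.card_eq_fintype_card]⟩

theorem card_Q {m : ℕ} (h : m = 3 ∨ m = 4) : Nat.card {g : Perm (Fin m) | g ^ m = 1 ∧ sign g = 1} = m := by
  rcases h with rfl | rfl <;> exact Nat.card_eq_fintype_card.trans (by decide +kernel)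

theorem ex_four : Ex True 4 4 :=
  ⟨{ carrier := {g | g ^ 4 = 1 ∧ sign g = 1}, mul_mem' := by decide +kernel, one_mem' := by decide, inv_mem' := by decide +kernel },
    ⟨⟨fun x y => Subtype.ext ((by decide +kernel : ∀ a b : Perm (Fin 4), a ^ 4 = 1 ∧ sign a = 1 →
      b ^ 4 = 1 ∧ sign b = 1 → a * b = b * a) _ _ x.2 y.2)⟩⟩, fun _ _ h => h.2, card_Q (.inr rfl)⟩

theorem ex_g (n : ℕ) : Ex False n (g n) := by
  fun_induction g n
  exacts [ex_bot .., ex_bot .., ex_rot 0 nofun, ex_rot 1 nofun, ex_rot 2 nofun,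
    by rename_i n ih; convert (ex_rot 1 nofun).add ih using 1; omega]

theorem ex_h (n : ℕ) : Ex True n (h n) := by
  have := ex_rot (P := True) 1 (by decide)
  fun_induction h n
  exacts [ex_bot .., ex_bot .., ex_bot .., this, ex_four, ex_rot 3 (by decide), this.add this, this.add ex_four,
    ex_four.add ex_four, by rename_i n ih; convert this.add ih using 1; omega]

theorem greatest_g (n : ℕ) : IsGreatest {c | ∃ A : Subgroup (Perm (Fin n)), IsMulCommutative A ∧ Nat.card A = c} (g n) :=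
  ⟨let ⟨A, a, _, b⟩ := ex_g n; ⟨A, a, b⟩, by rintro _ ⟨A, _, rfl⟩; simpa using le_g A⟩

theorem greatest_h (n : ℕ) :
    IsGreatest {c | ∃ A : Subgroup (alternatingGroup (Fin n)), IsMulCommutative A ∧ Nat.card A = c} (h n) :=
  ⟨let ⟨A, _, a, b⟩ := ex_h n; ⟨A.subgroupOf _, inferInstance, (Nat.card_congr (subgroupOfEquivOfLe (a trivial)).toEquiv).trans b⟩,
    by rintro _ ⟨A, _, rfl⟩; simpa only [card_subtype, Fintype.card_fin] using le_h _ (map_subtype_le A)⟩

theorem spl [Fintype Ω] [DecidableEq Ω] (A : Subgroup (Perm Ω)) [IsMulCommutative A] (hA : A ≤ alternatingGroup Ω)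
    {n : ℕ} (hn : Fintype.card Ω = n) (hc : Nat.card A = h n) (h3 : 3 ≤ n) (h5 : n ≠ 5) {m : ℕ}
    (hm : m = if n = 4 ∨ n = 8 then 4 else 3) :
    ∃ (β : Type u) (_ : Fintype β) (_ : DecidableEq β) (f : Fin m ⊕ β ≃ Ω) (B : Subgroup (Perm β)),
      IsMulCommutative B ∧ B ≤ alternatingGroup β ∧ Nat.card B = h (n - m) ∧ Fintype.card β = n - m ∧
      ∀ g, g ∈ A ↔ ∃ a b, (a ^ m = 1 ∧ sign a = 1) ∧ b ∈ B ∧ φ f (a, b) = g := by
  have := Fact.mk (show (if n = 4 ∨ n = 8 then 2 else 3).Prime by split_ifs <;> decide)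
  obtain ⟨⟨s, hs⟩, hp⟩ := exists_prime_orderOf_dvd_card' (G := A) (if n = 4 ∨ n = 8 then 2 else 3) (by
    rw [hc]
    by_cases h9 : 9 ≤ n
    · obtain ⟨n, rfl⟩ := Nat.exists_eq_add_of_le' (by omega : 3 ≤ n)
      rw [h_add (by omega), if_neg (by omega)]; exact dvd_mul_right ..
    push Not at h9
    interval_cases n <;> simp [h] at h5 ⊢)
  obtain ⟨x, hx⟩ : ∃ x, s x ≠ x := by_contra fun e => this.1.ne_one (by
    rw [← hp, orderOf_eq_one_iff]; exact Subtype.ext (Equiv.ext (by simpa using e)))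
  obtain ⟨m, β, _, _, f, A0, i, rfl, rfl, _, h1, h2, h6⟩ := dec A x
  have := comap_injective_isMulCommutative A0 (f := inr _ _) (Prod.mk_right_injective 1)
  have h4 : ∀ q ∈ A0, sign q.1 * sign q.2 = 1 := fun q hq => (sign_φ f q).symm.trans (hA (mem_map_of_mem _ hq))
  have h7 : A0.comap (inr _ _) ≤ alternatingGroup β := fun b hb => by simpa using h4 _ hb
  have h8 := le_h _ h7
  have h9 := card_ker A0
  rw [h2, hc, h1, ← hn, ← h6] at h9
  have h10 : ∀ q ∈ A0, q.1 ^ m = 1 := fun q hq => by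
    have := congrArg Subtype.val (pow_card_eq_one' (x := (⟨_, mem_map_of_mem (fst _ _) hq⟩ : A0.map _)))
    rwa [h1] at this
  have h11 : (if n = 4 ∨ n = 8 then 2 else 3) ∣ m := by
    obtain ⟨q, hq, rfl⟩ := hs
    rw [← orderOf_coe, orderOf_injective _ (φ_inj f)] at hp
    exact (dvd_of_eq (orderOf_eq_prime (x := q.1) (congrArg Prod.fst (hp ▸ pow_orderOf_eq_one q))
      fun e => hx (by simp [φ, e])).symm).trans (orderOf_dvd_of_pow_eq_one (h10 q hq))
  have h12 : m ≠ 2 := by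
    rintro rfl
    have := le_two A0 h4
    rw [h2, hc] at this
    split_ifs at h11 with e
    · rcases e with rfl | rfl
      · rw [show Fintype.card β = 2 by omega] at this; exact absurd this (by decide)
      · rw [show Fintype.card β = 6 by omega] at this; exact absurd this (by decide)
    · omega
  have h13 := h_mul m (Fintype.card β) h12
  have h14 : Nat.card (A0.comap (inr _ _)) = h (Fintype.card β) :=
    h8.antisymm (Nat.le_of_mul_le_mul_left (h9 ▸ h13.1) i.pos)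
  obtain rfl : m = _ := (hm.trans (by have := h13.2 (h14 ▸ h9.symm); split_ifs at * <;> omega)).symm
  have h15 : A0.comap (inr _ _) = A0.map (snd _ _) := eq_of_le_of_card_ge (fun b hb => ⟨_, hb, rfl⟩) (by
    rw [h14]
    split_ifs at hm with e
    · refine (le_g _).trans (le_of_eq ?_)
      rcases (by omega : Fintype.card β = 0 ∨ Fintype.card β = 4) with e | e <;> rw [e] <;> rfl
    · refine le_h _ ?_
      rintro _ ⟨q, hq, rfl⟩
      have := congrArg sign (h10 q hq)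
      subst hm
      rw [map_pow, pow_succ, Int.units_sq, one_mul] at this
      simpa [this] using h4 q hq)
  have h16 : ∀ q ∈ A0, (1, q.2) ∈ A0 := fun q hq => h15.ge ⟨q, hq, rfl⟩
  have h17 : SetLike.coe (A0.map (fst _ _)) = {g | g ^ m = 1 ∧ sign g = 1} := Set.eq_of_subset_of_ncard_le (by
    rintro _ ⟨q, hq, rfl⟩
    exact ⟨h10 q hq, by simpa [show sign q.2 = 1 from h7 (h16 q hq)] using h4 q hq⟩)
    ((card_Q (by split_ifs at hm <;> omega)).trans h1.symm).le
  refine ⟨β, _, _, f, _, this, h7, by rw [h14]; congr 1; omega, by omega, fun g => ⟨?_, ?_⟩⟩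
  · rintro ⟨q, hq, rfl⟩
    exact ⟨q.1, q.2, h17.le ⟨q, hq, rfl⟩, h16 q hq, rfl⟩
  · rintro ⟨a, b, ha, hb, rfl⟩
    obtain ⟨q, hq, rfl⟩ := h17.ge ha
    exact ⟨_, by simpa [Prod.mul_def] using mul_mem (mul_mem hq (inv_mem (h16 q hq))) hb, rfl⟩

theorem iso [Fintype Ω] [DecidableEq Ω] [Fintype Ω'] [DecidableEq Ω'] (A : Subgroup (Perm Ω)) (B : Subgroup (Perm Ω'))
    [IsMulCommutative A] [IsMulCommutative B] (hA : A ≤ alternatingGroup Ω) (hB : B ≤ alternatingGroup Ω') {n : ℕ}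
    (h1 : Fintype.card Ω = n) (h2 : Fintype.card Ω' = n) (h3 : Nat.card A = h n) (h4 : Nat.card B = h n) (h5 : n ≠ 5) :
    ∃ e : Ω ≃ Ω', ∀ g ∈ A, e.permCongr g ∈ B := by
  induction' n using Nat.strong_induction_on with n ih generalizing Ω Ω'
  by_cases h6 : n < 3
  · obtain rfl : A = ⊥ := card_eq_one.1 (h3.trans (by interval_cases n <;> rfl))
    exact ⟨Fintype.equivOfCardEq (h1.trans h2.symm), fun g hg => by
      rw [mem_bot.1 hg, show Equiv.permCongr _ 1 = 1 from permCongr_refl _]; exact B.one_mem⟩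
  obtain ⟨β, _, _, f, A1, _, a1, a2, a3, a4⟩ := spl A hA h1 h3 (by omega) h5 rfl
  obtain ⟨β', _, _, f', B1, _, b1, b2, b3, b4⟩ := spl B hB h2 h4 (by omega) h5 rfl
  obtain ⟨e, he⟩ := ih _ (by split_ifs <;> omega) A1 B1 a1 b1 a3 b3 a2 b2 (by split_ifs <;> omega)
  refine ⟨(f.symm.trans ((Equiv.refl _).sumCongr e)).trans f', fun g hg => ?_⟩
  obtain ⟨a, b, ha, hb, rfl⟩ := (a4 g).1 hg
  refine (b4 _).2 ⟨a, _, ha, he b hb, Equiv.ext fun x => ?_⟩
  obtain ⟨x | x, rfl⟩ := f'.surjective x <;> simp [φ]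

theorem odd_norm [Fintype Ω] [DecidableEq Ω] (A : Subgroup (Perm Ω)) [IsMulCommutative A] (hA : A ≤ alternatingGroup Ω)
    {n : ℕ} (hn : Fintype.card Ω = n) (hc : Nat.card A = h n) (h3 : 3 ≤ n) (h5 : n ≠ 5) :
    ∃ s : Perm Ω, sign s = -1 ∧ ∀ g ∈ A, s * g * s⁻¹ ∈ A := by
  obtain ⟨β, _, _, f, A1, -, -, -, -, a4⟩ := spl A hA hn hc h3 h5 rfl
  obtain ⟨x, y, e⟩ := Fin.nontrivial_iff_two_le.2 (show 2 ≤ if n = 4 ∨ n = 8 then 4 else 3 by split_ifs <;> omega)
  refine ⟨φ f (swap x y, 1), by simp [sign_φ, e], fun g hg => ?_⟩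
  obtain ⟨a, b, ha, hb, rfl⟩ := (a4 g).1 hg
  exact (a4 _).2 ⟨swap x y * a * (swap x y)⁻¹, b, ⟨by rw [conj_pow, ha.1]; simp, by simp [ha.2, e]⟩, hb, by
    simp [← map_inv, ← map_mul]⟩

end Cfsg.Agent.H2.Ab
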