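import Mathlib
import Cfsg.Agent.H2.Lin1
import Cfsg.Agent.H1.Cores
import Cfsg.Agent.H9.HH4
import Cfsg.Agent.H26.ES2

/-! Solvable linear groups transitive on non-zero vectors: basic lemmas. -/

namespace Cfsg.Agent.H2.Pm
open MulAction Subgroup Module
open scoped Pointwise commutatorElement

/-- Transitive on non-zero vectors. -/
def VTrans (G V : Type*) [Group G] [AddCommGroup V] [DistribMulAction G V] : Prop :=
  ∀ v w : V, v ≠ 0 → w ≠ 0 → ∃ h : G, h • v = w

/-- Semiregular on non-zero vectors. -/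
def VSemi {G : Type*} [Group G] (A : Subgroup G) (V : Type*) [AddCommGroup V]
    [DistribMulAction G V] : Prop := ∀ a ∈ A, ∀ v : V, v ≠ 0 → a • v = v → a = 1

/-- Irreducible subgroup. -/
def VIrr (p : ℕ) [Fact p.Prime] {G : Type*} [Group G] (A : Subgroup G) (V : Type*) [AddCommGroup V]
    [Module (ZMod p) V] [DistribMulAction G V] : Prop :=
  ∀ W : Submodule (ZMod p) V, Inv A W → W = ⊥ ∨ W = ⊤

/-- The conclusion: one-dimensional semilinear. -/
def Gam1 (G V : Type*) [Group G] [AddCommGroup V] [DistribMulAction G V] : Prop :=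
  ∃ (F : Type) (_ : Field F) (_ : Fintype F) (e : V ≃+ F),
    ∀ g : G, ∃ (a : F) (σ : F ≃+* F), ∀ v : V, e (g • v) = a * σ (e v)

variable {p : ℕ} [Fact p.Prime] {G V : Type*} [Group G] [AddCommGroup V] [Module (ZMod p) V]
  [DistribMulAction G V] [SMulCommClass G (ZMod p) V]

theorem VTrans.semi [Finite G] [FaithfulSMul G V] (h : VTrans G V) {A : Subgroup G} [hn : A.Normal]
    (hA : IsMulCommutative A) : VSemi A V := by
  have k1 : ∀ v w : V, v ≠ 0 → w ≠ 0 → A ⊓ stabilizer G v ≤ A ⊓ stabilizer G w →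
      A ⊓ stabilizer G w ≤ A ⊓ stabilizer G v := fun v w hv hw hle => by
    obtain ⟨g, rfl⟩ := h v w hv hw
    refine (eq_of_le_of_card_ge hle (Nat.card_le_card_of_injective
      (fun c => ⟨g⁻¹ * c * g, by simpa using hn.conj_mem _ c.2.1 g⁻¹, ?_⟩) fun c d e => ?_)).ge
    · have : (c : G) • g • v = g • v := c.2.2
      change _ • v = v
      rw [mul_smul, mul_smul, this, inv_smul_smul]
    · simpa using congrArg Subtype.val e
  have k2 : ∀ v w : V, v ≠ 0 → w ≠ 0 → ∀ b ∈ A, b • v = v → b • w = w := by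
    intro v w hv hw b hb e
    by_contra hne
    have hu : v + w ≠ 0 := fun e' => hne (by rw [eq_neg_of_add_eq_zero_right e', smul_neg, e])
    have hd : b • w - w ≠ 0 := sub_ne_zero.2 hne
    have k3 : ∀ u : V, b • u - u = b • w - w → A ⊓ stabilizer G u ≤ A ⊓ stabilizer G (b • w - w) :=
      fun u hu c hc => ⟨hc.1, by
        have : c • u = u := hc.2
        change c • _ = _
        rw [← hu, smul_sub, ← mul_smul, mul_comm_of_mem hc.1 hb, mul_smul, this]⟩
    have k4 := (k3 w rfl).trans (k1 _ _ hu hd (k3 (v + w) (by rw [smul_add, e]; abel)))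
    refine hne (k1 w v hw hv (fun c hc => ⟨hc.1, ?_⟩) ⟨hb, e⟩).2
    have e1 : c • w = w := hc.2
    have e2 : c • (v + w) = v + w := (k4 hc).2
    rw [smul_add, e1] at e2
    exact add_right_cancel e2
  intro a ha v hv e
  refine eq_of_smul_eq_smul fun w : V => ?_
  by_cases hw : w = 0
  · simp [hw]
  · rw [k2 v w hv hw a ha e, one_smul]

omit [SMulCommClass G (ZMod p) V] in
theorem VSemi.card_dvd [Finite V] {A : Subgroup G} (h : VSemi A V) {W : Submodule (ZMod p) V}
    (hW : Inv A W) : Nat.card A ∣ Nat.card W - 1 := by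
  have := card_dvd_ncard_of_free A ((W : Set V) \ {0}) (fun g hg x hx =>
    ⟨hW g hg x hx.1, fun e => hx.2 ((smul_eq_zero_iff_eq g).1 e)⟩) fun g hg x hx e => h g hg x hx.2 e
  rwa [Set.ncard_diff_singleton_of_mem W.zero_mem] at this

theorem VTrans.card_dvd [Finite V] [Nontrivial V] (h : VTrans G V) :
    Nat.card V - 1 ∣ Nat.card G := by
  obtain ⟨v, hv⟩ := exists_ne (0 : V)
  have : orbit G v = Set.univ \ {0} := Set.ext fun w => ⟨by
    rintro ⟨g, rfl⟩
    exact ⟨trivial, fun e => hv ((smul_eq_zero_iff_eq g).1 e)⟩, fun hw => h v w hv hw.2⟩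
  have h2 := index_stabilizer G v
  rw [this, Set.ncard_diff_singleton_of_mem (Set.mem_univ _), Set.ncard_univ] at h2
  exact h2 ▸ index_dvd_card _

variable (p V) in
/-- The representation. -/
abbrev vrep : G →* End (ZMod p) V := DistribMulAction.toModuleEnd (ZMod p) V

theorem vrep_inj [FaithfulSMul G V] : Function.Injective (vrep p V : G →* _) :=
  fun _ _ e => eq_of_smul_eq_smul fun v : V => LinearMap.congr_fun e v

variable (p V) in
/-- The commuting ring. -/
def vcen (A : Subgroup G) : Subring (End (ZMod p) V) := Subring.centralizer (vrep p V '' (A : Set G))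

theorem mem_vcen {A : Subgroup G} {e : End (ZMod p) V} :
    e ∈ vcen p V A ↔ ∀ a ∈ A, ∀ v, a • e v = e (a • v) :=
  ⟨fun h a ha v => LinearMap.congr_fun (h _ ⟨a, ha, rfl⟩) v, by
    rintro h _ ⟨a, ha, rfl⟩
    exact LinearMap.ext (h a ha)⟩

theorem vrep_mem_vcen {A : Subgroup G} {c : G} (h : c ∈ centralizer (A : Set G)) :
    vrep p V c ∈ vcen p V A := mem_vcen.2 fun a ha v => by
  change a • c • v = c • a • v
  rw [← mul_smul, h a ha, mul_smul]

theorem VIrr.inj {A : Subgroup G} (h : VIrr p A V) {e : End (ZMod p) V} (he : e ∈ vcen p V A)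
    (h0 : e ≠ 0) : Function.Injective e := by
  rw [← LinearMap.ker_eq_bot]
  refine (h _ fun a ha v hv => ?_).resolve_right fun e' => h0 (LinearMap.ker_eq_top.1 e')
  rw [LinearMap.mem_ker] at hv ⊢
  rw [← mem_vcen.1 he a ha, hv, smul_zero]

theorem VIrr.isField [Finite V] [Nontrivial V] {A : Subgroup G} (h : VIrr p A V) :
    IsField (vcen p V A) := by
  haveI : Finite (End (ZMod p) V) := Finite.of_injective _ DFunLike.coe_injective
  haveI : NoZeroDivisors (vcen p V A) := ⟨fun {a b} e => by
    by_cases ha : a = 0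
    · exact Or.inl ha
    refine Or.inr (Subtype.ext (LinearMap.ext fun v => h.inj a.2 (fun e => ha (Subtype.ext e)) ?_))
    have := LinearMap.congr_fun (congrArg Subtype.val e) v
    simpa using this⟩
  haveI := NoZeroDivisors.to_isDomain (vcen p V A)
  exact Finite.isDomain_to_isField _

theorem VIrr.semi [FaithfulSMul G V] {A : Subgroup G} (h : VIrr p A V) :
    VSemi (centralizer (A : Set G)) V := fun c hc v hv e => by
  by_contra hn
  refine hv (h.inj (sub_mem (vrep_mem_vcen hc) (one_mem _)) (sub_ne_zero.2 fun e' =>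
    hn (vrep_inj (e'.trans (map_one _).symm))) ?_)
  change c • v - v = _
  rw [e, sub_self, map_zero]

theorem VIrr.isCyclic [Finite G] [Finite V] [Nontrivial V] [FaithfulSMul G V] {A : Subgroup G}
    (h : VIrr p A V) : IsCyclic (centralizer (A : Set G)) := by
  letI := h.isField.toField
  exact isCyclic_of_injective_ringHom (R := vcen p V A)
    { toFun := fun c => ⟨vrep p V c, vrep_mem_vcen c.2⟩
      map_one' := Subtype.ext (map_one _)
      map_mul' := fun a b => Subtype.ext (map_mul _ _ _) }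
    fun a b e => Subtype.ext (vrep_inj (congrArg Subtype.val e))

theorem VIrr.gam1 [Finite V] [Nontrivial V] {A : Subgroup G} [hn : A.Normal]
    (hA : IsMulCommutative A) (h : VIrr p A V) : Gam1 G V := by
  haveI : Finite (End (ZMod p) V) := Finite.of_injective _ DFunLike.coe_injective
  letI := h.isField.toField
  obtain ⟨v, hv⟩ := exists_ne (0 : V)
  let f : vcen p V A →+ V :=
    { toFun := fun e => (e : End (ZMod p) V) v
      map_zero' := rfl
      map_add' := fun _ _ => rfl }
  have hf : Function.Bijective f := by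
    refine ⟨(injective_iff_map_eq_zero f).2 fun e he => by_contra fun h0 =>
      hv (h.inj e.2 (fun e' => h0 (Subtype.ext e')) (he.trans (map_zero _).symm)), fun w => ?_⟩
    let W : Submodule (ZMod p) V :=
      { carrier := Set.range f
        zero_mem' := ⟨0, rfl⟩
        add_mem' := by rintro _ _ ⟨a, rfl⟩ ⟨b, rfl⟩; exact ⟨a + b, rfl⟩
        smul_mem' := by
          rintro c _ ⟨a, rfl⟩
          exact ⟨⟨c • a, mem_vcen.2 fun b hb u => by
            rw [LinearMap.smul_apply, LinearMap.smul_apply, smul_comm, mem_vcen.1 a.2 b hb]⟩, rfl⟩ }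
    have := (h W (by
      rintro a ha _ ⟨e, rfl⟩
      exact ⟨⟨_, vrep_mem_vcen (A.le_centralizer ha)⟩ * e, rfl⟩)).resolve_left fun e => hv (by
        have : v ∈ W := ⟨1, rfl⟩
        rwa [e] at this)
    exact (this.ge trivial : w ∈ W)
  have hc : ∀ (g : G) (e : vcen p V A), vrep p V g * e * vrep p V g⁻¹ ∈ vcen p V A :=
    fun g e => mem_vcen.2 fun a ha u => by
      change a • g • (e : End (ZMod p) V) (g⁻¹ • u) = g • (e : End (ZMod p) V) (g⁻¹ • a • u)
      have := mem_vcen.1 e.2 _ (hn.conj_mem a ha g⁻¹) (g⁻¹ • u)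
      simp only [inv_inv, mul_smul, smul_inv_smul] at this
      rw [← this, smul_inv_smul]
  let σ : G → vcen p V A ≃+* vcen p V A := fun g =>
    { toFun := fun e => ⟨_, hc g e⟩
      invFun := fun e => ⟨_, hc g⁻¹ e⟩
      left_inv := fun e => Subtype.ext (LinearMap.ext fun u => by simp)
      right_inv := fun e => Subtype.ext (LinearMap.ext fun u => by simp)
      map_mul' := fun a b => Subtype.ext (LinearMap.ext fun u => by simp)
      map_add' := fun a b => Subtype.ext (LinearMap.ext fun u => by simp) }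
  let r := Shrink.ringEquiv.{0} (vcen p V A)
  let e := AddEquiv.ofBijective f hf
  refine ⟨Shrink.{0} (vcen p V A), inferInstance, Fintype.ofFinite _,
    e.symm.trans r.symm.toAddEquiv, fun g => ⟨r.symm (e.symm (g • v)),
      r.trans ((σ g).trans r.symm), fun u => ?_⟩⟩
  obtain ⟨c, rfl⟩ := e.surjective u
  obtain ⟨a, ha⟩ := e.surjective (g • v)
  simp only [AddEquiv.trans_apply, RingEquiv.trans_apply, RingEquiv.toAddEquiv_eq_coe,
    RingEquiv.coe_toAddEquiv, RingEquiv.apply_symm_apply, AddEquiv.symm_apply_apply, ← ha,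
    ← map_mul]
  rw [mul_comm]
  refine congrArg _ (e.symm_apply_eq.2 ?_)
  change _ = g • (c : End (ZMod p) V) (g⁻¹ • e a)
  rw [ha, inv_smul_smul]
  rfl

end Cfsg.Agent.H2.Pm
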