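import Cfsg.Agent.H2.Hup1

/-! Solvable linear groups transitive on non-zero vectors: primitive prime divisors. -/

namespace Cfsg.Agent.H2.Pm
open MulAction Subgroup Module
open scoped Pointwise commutatorElement

theorem linInd_aux {A Q : Type*} [Ring A] [Group Q] (K : Subring A)
    (hK : ∀ a ∈ K, ∀ b ∈ K, a * b = 0 → a = 0 ∨ b = 0) (ρ : Q →* A) (hρ : Function.Injective ρ)
    (hc : ∀ c ∈ K, ∀ u, ρ u * c = c * ρ u) (hz : ∀ u t : Q, ρ ⁅u, t⁆ ∈ K) (S : Finset Q) :
    (∀ a ∈ S, ∀ b ∈ S, a ≠ b → ∃ u : Q, ⁅u, a⁆ ≠ ⁅u, b⁆) → ∀ c : Q → A, (∀ a, c a ∈ K) →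
      ∑ a ∈ S, c a * ρ a = 0 → ∀ a ∈ S, c a = 0 := by
  classical
  induction S using Finset.strongInduction with
  | H S ih =>
  intro hS c hcK h b hb
  by_cases h1 : ∃ a ∈ S, a ≠ b
  · obtain ⟨a, ha, hab⟩ := h1
    obtain ⟨u, hu⟩ := hS a ha b hb hab
    have := ih (S.erase a) (Finset.erase_ssubset ha) (fun x hx y hy => hS x (Finset.mem_of_mem_erase hx)
      y (Finset.mem_of_mem_erase hy)) (fun t => c t * (ρ ⁅u, t⁆ - ρ ⁅u, a⁆))
      (fun t => mul_mem (hcK t) (sub_mem (hz _ _) (hz _ _))) (by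
        rw [Finset.sum_erase _ (by simp)]
        have e1 : ∀ t, c t * (ρ ⁅u, t⁆ - ρ ⁅u, a⁆) * ρ t =
            ρ u * (c t * ρ t) * ρ u⁻¹ - ρ ⁅u, a⁆ * (c t * ρ t) := fun t => by
          rw [← mul_assoc (ρ u), hc _ (hcK t), ← mul_assoc (ρ ⁅u, a⁆), hc _ (hcK t), mul_sub, sub_mul]
          simp only [mul_assoc, ← map_mul, commutatorElement_def, inv_mul_cancel, mul_one]
        simp only [e1, Finset.sum_sub_distrib, ← Finset.sum_mul, ← Finset.mul_sum, h]
        simp) b (Finset.mem_erase.2 ⟨hab.symm, hb⟩)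
    exact (hK _ (hcK b) _ (sub_mem (hz _ _) (hz _ _)) this).resolve_right fun e =>
      hu (hρ (sub_eq_zero.1 e)).symm
  · push_neg at h1
    rw [Finset.sum_eq_single_of_mem b hb fun a ha hab => absurd (h1 a ha) hab] at h
    have := congrArg (· * ρ b⁻¹) h
    simpa [mul_assoc, ← map_mul] using this

theorem index_center_le {F A Q : Type*} [Field F] [Ring A] [Algebra F A] [Module.Finite F A]
    [Group Q] [Finite Q] (K : Subring A)
    (hK : ∀ a ∈ K, ∀ b ∈ K, a * b = 0 → a = 0 ∨ b = 0) (ρ : Q →* A) (hρ : Function.Injective ρ)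
    (hc : ∀ c ∈ K, ∀ u, ρ u * c = c * ρ u) (hz : ∀ u t : Q, ρ ⁅u, t⁆ ∈ K)
    (hs : ∀ c : F, algebraMap F A c ∈ K) [Nontrivial A] : (center Q).index ≤ finrank F A := by
  classical
  letI := Fintype.ofFinite (Q ⧸ center Q)
  have hinj : Function.Injective (Quotient.out : Q ⧸ center Q → Q) := Quotient.out_injective
  have : LinearIndependent F fun i : Q ⧸ center Q => ρ i.out := by
    refine Fintype.linearIndependent_iff.2 fun g hg i => ?_
    have := linInd_aux K hK ρ hρ hc hz (Finset.univ.image Quotient.out) (by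
      simp only [Finset.mem_image, Finset.mem_univ, true_and]
      rintro _ ⟨a, rfl⟩ _ ⟨b, rfl⟩ hab
      by_contra hn
      push_neg at hn
      refine hab (congrArg _ ?_)
      rw [← a.out_eq, ← b.out_eq]
      refine QuotientGroup.eq.2 (mem_center_iff.2 fun u => ?_)
      have := hn u⁻¹
      simp only [commutatorElement_def, mul_assoc, mul_right_inj, inv_inv] at this
      calc _ = a.out⁻¹ * (a.out * (u * a.out⁻¹)) * b.out := by group
        _ = _ := by rw [this]; group) (fun a => algebraMap F A (g (a : Q ⧸ center Q)))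
      (fun _ => hs _) (by
        rw [Finset.sum_image fun a _ b _ e => hinj e, ← hg]
        exact Finset.sum_congr (by convert rfl) fun x _ => by
          rw [Algebra.smul_def, QuotientGroup.out_eq']) i.out (by simp)
    simpa using this
  exact (Nat.card_eq_fintype_card (α := Q ⧸ center Q)).le.trans this.fintype_card_le_finrank

/-- Primitive prime divisor. -/
def Ppd (p n s : ℕ) : Prop := s.Prime ∧ s ∣ p ^ n - 1 ∧ ∀ i, 1 ≤ i → i < n → ¬ s ∣ p ^ i - 1

theorem Ppd.not_dvd {p n s : ℕ} (h : Ppd p n s) (hn : n ≠ 0) (hp : p ≠ 0) : ¬ s ∣ p := fun e =>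
  h.1.one_lt.ne' (Nat.dvd_one.1 (by
    have := Nat.dvd_sub (dvd_pow e hn) h.2.1
    rwa [Nat.sub_sub_self (Nat.one_le_pow _ _ (by omega))] at this))

theorem Ppd.cases {p n s a b : ℕ} (h : Ppd p n s) (hp : p ≠ 0) (hb : b ≤ a) (ha : a ≤ n)
    (hd : s ∣ p ^ a - p ^ b) : a = b ∨ (a = n ∧ b = 0) := by
  obtain ⟨c, rfl⟩ := Nat.exists_eq_add_of_le hb
  by_contra hn
  rw [pow_add, ← Nat.mul_sub_one] at hd
  rcases (Nat.Prime.dvd_mul h.1).1 hd with h1 | h1
  · exact h.not_dvd (by omega) hp (h.1.dvd_of_dvd_pow h1)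
  · exact h.2.2 c (by omega) (by omega) h1

theorem Ppd.lt {p n s : ℕ} (h : Ppd p n s) (hp : p ≠ 0) : n < s := by
  by_contra hn
  have := h.1.two_le
  refine h.2.2 (s - 1) (by omega) (by omega) ((Nat.modEq_iff_dvd' (Nat.one_le_pow _ _ (by omega))).1 ?_)
  have := Nat.ModEq.pow_totient ((Nat.Prime.coprime_iff_not_dvd h.1).2 (h.not_dvd (by omega) hp)).symm
  rw [Nat.totient_prime h.1] at this
  exact this.symm

theorem zpowers_eq_of_prime {G : Type*} [Group G] {x g : G} (hx : (orderOf x).Prime)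
    (hg : g ∈ zpowers x) (h1 : g ≠ 1) : x ∈ zpowers g := by
  haveI := Fact.mk (Nat.card_zpowers x ▸ hx)
  have := (eq_bot_or_eq_top_of_prime_card ((zpowers g).subgroupOf (zpowers x))).resolve_left fun e =>
    h1 (congrArg Subtype.val (mem_bot.1 (e.le (show (⟨g, hg⟩ : zpowers x) ∈ _ from mem_zpowers g))))
  exact subgroupOf_eq_top.1 this (mem_zpowers x)

theorem mem_cent_zpowers {G : Type*} [Group G] {x g : G} :
    g ∈ centralizer (zpowers x : Set G) ↔ x * g = g * x :=
  ⟨fun h => h x (mem_zpowers x), fun h => by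
    rintro _ ⟨k, rfl⟩
    exact Commute.zpow_left h k⟩

theorem mem_zpowers_of_prime_pow {G : Type*} [Group G] [Finite G] {y g : G} {s k : ℕ} (hs : s.Prime)
    (hy : orderOf y = s ^ (k + 1)) (hg : g ∈ zpowers y) (h1 : g ≠ 1) : y ^ s ^ k ∈ zpowers g := by
  obtain ⟨n, rfl⟩ := (mem_powers_iff_mem_zpowers.2 hg : ∃ n : ℕ, y ^ n = g)
  obtain ⟨a, ha, e⟩ := (Nat.dvd_prime_pow hs).1 (Nat.gcd_dvd_right n (s ^ (k + 1)))
  have : a ≠ k + 1 := by
    rintro rfl
    exact h1 (orderOf_dvd_iff_pow_eq_one.1 (hy ▸ e ▸ Nat.gcd_dvd_left _ _))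
  obtain ⟨b, rfl⟩ : ∃ b, k = a + b := ⟨k - a, by omega⟩
  rw [pow_add, pow_mul, ← e]
  refine pow_mem ?_ _
  rw [← zpow_natCast, Nat.gcd_eq_gcd_ab, zpow_add, zpow_mul, zpow_mul, ← hy, zpow_natCast,
    zpow_natCast, pow_orderOf_eq_one, one_zpow, mul_one]
  exact zpow_mem_zpowers _ _

variable {p : ℕ} [hp : Fact p.Prime] {G V : Type*} [Group G] [AddCommGroup V] [Module (ZMod p) V]
  [DistribMulAction G V] [SMulCommClass G (ZMod p) V] [FaithfulSMul G V] [Finite V]

theorem Ppd.irr {s : ℕ} (h : Ppd p (finrank (ZMod p) V) s) {x : G} (hx : orderOf x = s) :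
    (∀ v : V, x • v = v → v = 0) ∧ VIrr p (zpowers x) V := by
  let U := LinearMap.ker (vrep p V x - 1)
  have hU : ∀ v, v ∈ U ↔ x • v = v := fun v => LinearMap.mem_ker.trans sub_eq_zero
  have key : ∀ W : Submodule (ZMod p) V, Inv (zpowers x) W → W ≤ U ∨ (W = ⊤ ∧ U = ⊥) := fun W hW => by
    have := card_dvd_ncard_of_free (zpowers x) ((W : Set V) \ (W ⊓ U : Submodule (ZMod p) V))
      (fun g hg v hv => ⟨hW g hg v hv.1, fun e => hv.2 ⟨hv.1, (hU v).2 (by
        have := (hU _).1 e.2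
        rw [← mul_smul, mul_comm_of_mem (A := zpowers x) (mem_zpowers x) hg, mul_smul] at this
        exact MulAction.injective g this)⟩⟩) fun g hg v hv e => by_contra fun h1 => hv.2 ⟨hv.1,
      (hU v).2 ((zpowers_le.2 (show g ∈ stabilizer G v from e))
        (zpowers_eq_of_prime (hx ▸ h.1) hg h1))⟩
    rw [Set.ncard_diff (s := ((W ⊓ U : Submodule (ZMod p) V) : Set V)) (fun _ h => h.1),
      Nat.card_zpowers, hx] at this
    change s ∣ Nat.card W - Nat.card (W ⊓ U : Submodule (ZMod p) V) at this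
    rw [card_sub_pow, card_sub_pow] at this
    rcases h.cases hp.out.ne_zero (Submodule.finrank_mono inf_le_left) W.finrank_le this with h1 | h1
    · exact Or.inl (inf_eq_left.1 (Submodule.eq_of_le_of_finrank_eq inf_le_left h1.symm))
    · obtain rfl := Submodule.eq_top_of_finrank_eq h1.1
      exact Or.inr ⟨rfl, by simpa using h1.2⟩
  have hb : U = ⊥ := ((key ⊤ fun _ _ _ _ => trivial).resolve_left fun e => h.1.one_lt.ne' (by
    rw [← hx, orderOf_eq_one_iff]
    exact eq_of_smul_eq_smul fun v : V => ((hU v).1 (e trivial)).trans (one_smul _ _).symm)).2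
  exact ⟨fun v hv => (Submodule.mem_bot _).1 (hb ▸ (hU v).2 hv),
    fun W hW => (key W hW).imp (fun e => eq_bot_iff.2 (hb ▸ e)) fun e => e.1⟩

omit [Finite V] in
theorem eq_bot_of_fpf [Finite G] {x : G} (hx : (orderOf x).Prime) (hf : ∀ v : V, x • v = v → v = 0)
    {B : Subgroup G} (hn : zpowers x ≤ normalizer (B : Set G))
    (hc : B ⊓ centralizer (zpowers x : Set G) = ⊥) (hB : ¬ p ∣ Nat.card B) : B = ⊥ := by
  classical
  letI := Fintype.ofFinite B
  set ρ : G →* End (ZMod p) V := vrep p V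
  have hN : ∑ i ∈ Finset.range (orderOf x), ρ x ^ i = 0 := LinearMap.ext fun v => hf _ (by
    have := LinearMap.congr_fun (mul_geom_sum (ρ x) (orderOf x)) v
    rw [← map_pow, pow_orderOf_eq_one, map_one, sub_self] at this
    exact sub_eq_zero.1 this)
  have h1 : ∀ i ∈ (Finset.range (orderOf x)).erase 0,
      ∑ b : B, ρ b * ρ x ^ i * ρ b⁻¹ = (∑ b : B, ρ b) * ρ x ^ i := fun i hi => by
    obtain ⟨h0, hi⟩ := Finset.mem_erase.1 hi
    have hm : x ^ i ∈ zpowers x := npow_mem_zpowers x i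
    rw [Finset.sum_mul]
    let φ : B → B := fun b => ⟨b * (x ^ i * b⁻¹ * (x ^ i)⁻¹),
      mul_mem b.2 (H1.conj_mem_of_le_normalizer hn hm (inv_mem b.2))⟩
    refine Fintype.sum_bijective φ (Finite.injective_iff_bijective.1 fun b c e => ?_) _ _ fun b => ?_
    · have e : (b : G) * (x ^ i * b⁻¹ * (x ^ i)⁻¹) = c * (x ^ i * c⁻¹ * (x ^ i)⁻¹) :=
        congrArg Subtype.val e
      have : ((c⁻¹ * b : B) : G) ∈ B ⊓ centralizer (zpowers x : Set G) := ⟨(c⁻¹ * b).2, by
        refine centralizer_le (show (zpowers x : Set G) ⊆ zpowers (x ^ i) from zpowers_le.2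
          (zpowers_eq_of_prime hx hm (pow_ne_one_of_lt_orderOf h0 (Finset.mem_range.1 hi)))) ?_
        refine mem_cent_zpowers.2 ?_
        generalize x ^ i = w at e
        simp only [coe_mul, coe_inv] at e ⊢
        calc _ = (c : G)⁻¹ * (c * (w * (c : G)⁻¹ * w⁻¹)) * w * b := by group
          _ = _ := by rw [← e]; group⟩
      rw [hc, mem_bot] at this
      exact (inv_mul_eq_one.1 (Subtype.ext this)).symm
    · simp only [← map_pow, ← map_mul]
      congr 1
      simp [φ, mul_assoc]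
  have h2 : ∑ b : B, ρ b * (∑ i ∈ Finset.range (orderOf x), ρ x ^ i) * ρ b⁻¹ = 0 := by simp [hN]
  simp only [Finset.mul_sum, Finset.sum_mul] at h2
  have h0 : 0 ∈ Finset.range (orderOf x) := Finset.mem_range.2 hx.pos
  rw [Finset.sum_comm, ← Finset.add_sum_erase _ _ h0, Finset.sum_congr rfl h1, ← Finset.mul_sum,
    Finset.sum_erase_eq_sub h0, hN] at h2
  simp only [pow_zero, mul_one, ← map_mul, coe_inv, mul_inv_cancel, map_one, Finset.sum_const,
    zero_sub, mul_neg, Finset.card_univ, add_neg_eq_zero] at h2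
  refine eq_bot_iff.2 fun b hb => mem_bot.2 (eq_of_smul_eq_smul fun v : V => ?_)
  have h3 : ρ b * ∑ c : B, ρ c = ∑ c : B, ρ c := by
    rw [Finset.mul_sum]
    exact Fintype.sum_equiv (Equiv.mulLeft ⟨b, hb⟩) _ _ fun c => by simp
  have h4 : (Fintype.card B : ZMod p) ≠ 0 := by
    rwa [Ne, ZMod.natCast_eq_zero_iff, ← Nat.card_eq_fintype_card]
  rw [← h2, ← Nat.cast_smul_eq_nsmul (ZMod p), mul_smul_comm, mul_one] at h3
  rw [one_smul]
  exact LinearMap.congr_fun (smul_right_injective _ h4 h3) v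

theorem Ppd.local [Finite G] {s k : ℕ} (h : Ppd p (finrank (ZMod p) V) s) {y : G}
    (hy : orderOf y = s ^ (k + 1)) {L : Subgroup G} (hn : zpowers y ≤ normalizer (L : Set G))
    (hs : (Nat.card L).Coprime s) (hLp : ¬ p ∣ Nat.card L)
    (hc : ¬ L ≤ centralizer (zpowers (y ^ s ^ k) : Set G)) :
    k = 0 ∧ p ≠ 2 ∧ s = finrank (ZMod p) V + 1 ∧ ∃ m, finrank (ZMod p) V = 2 ^ m := by
  haveI := Fact.mk h.1
  have hx : orderOf (y ^ s ^ k) = s := by
    rw [orderOf_pow_of_dvd (pow_ne_zero _ h.1.ne_zero) (hy ▸ pow_dvd_pow _ (by omega)), hy, pow_succ,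
      Nat.mul_div_cancel_left _ (pow_pos h.1.pos _)]
  set x := y ^ s ^ k with hxy
  obtain ⟨hf, hI⟩ := h.irr hx
  have hxm : zpowers x ≤ zpowers y := zpowers_le.2 (npow_mem_zpowers _ _)
  obtain ⟨q, Q, hq, hsq, hQ, hQL, hQ0, hXQ, h1, h2, h3, h4⟩ := H9.exists_special'
    (IsPGroup.of_card ((Nat.card_zpowers y).trans hy)) hxm
    (le_normalizer_of_le_of_isMulCommutative hxm) hn hs hc
  haveI := Fact.mk hq
  haveI : Nontrivial V := by
    by_contra hV
    rw [not_nontrivial_iff_subsingleton] at hV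
    exact hQ0 (eq_bot_iff.2 fun g _ => eq_of_smul_eq_smul fun v : V => Subsingleton.elim _ _)
  have hQQ : ⁅Q, Q⁆ ≤ Q := h2 ▸ inf_le_left
  have hZ : Q ⊓ centralizer (Q : Set G) = ⁅Q, Q⁆ := by
    refine le_antisymm ?_ (le_inf hQQ h3)
    haveI : IsMulCommutative (Q ⊓ centralizer (Q : Set G) : Subgroup G) :=
      isMulCommutative_of_forall fun a ha b hb => hb.2 a ha.1
    have hnZ := H1.le_normalizer_inf (hxm.trans hXQ) (H1.le_normalizer_centralizer (hxm.trans hXQ))
    have hle := H1.commutator_le_left_of_le_normalizer hnZ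
    have := eq_bot_of_fpf (p := p) (hx ▸ h.1) hf (H1.le_normalizer_commutator hnZ le_normalizer)
      (eq_bot_iff.2 ((le_inf (inf_le_inf_right _ hle) inf_le_left).trans
        (H1.inf_centralizer_inf_commutator_eq_bot hnZ (by
          rw [Nat.card_zpowers, hx]
          exact (hs.coprime_dvd_left (card_dvd_of_le (inf_le_left.trans hQL))).symm)).le))
      fun e => hLp (e.trans (card_dvd_of_le (hle.trans (inf_le_left.trans hQL))))
    exact h2 ▸ le_inf inf_le_left (commutator_eq_bot_iff_le_centralizer.1 this)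
  have hD0 : ⁅Q, Q⁆ ≠ ⊥ := fun e => hQ0 (by
    rw [← e, ← hZ, left_eq_inf]
    exact commutator_eq_bot_iff_le_centralizer.1 e)
  have hDc : ⁅Q, Q⁆ ≤ centralizer (zpowers x : Set G) := h2 ▸ inf_le_right
  have hD : Nat.card (⁅Q, Q⁆ : Subgroup G) = q := by
    haveI := hI.isCyclic
    haveI := isCyclic_of_injective _ (inclusion_injective hDc)
    have hexp : ∀ z ∈ (⁅Q, Q⁆ : Subgroup G), z ^ q = 1 := by
      intro z hz
      refine closure_induction (p := fun z _ => z ^ q = 1) ?_ (one_pow _) (fun a b ha hb ea eb => ?_)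
        (fun a _ ea => by rw [inv_pow, ea, inv_one]) hz
      · rintro _ ⟨a, ha, b, hb, rfl⟩
        have hm := h3 (commutator_mem_commutator ha hb)
        have e : ∀ n : ℕ, a ^ n * b = ⁅a, b⁆ ^ n * b * a ^ n := fun n => by
          induction n with
          | zero => simp
          | succ n ih =>
            rw [pow_succ' a, mul_assoc, ih, ← mul_assoc, ← mul_assoc,
              (Commute.pow_right (hm a ha) n).eq, pow_succ]
            simp [commutatorElement_def, mul_assoc]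
        have := e q
        rw [← h3 (h4 a ha) b hb, mul_assoc] at this
        simpa using this
      · rw [Commute.mul_pow (h3 hb a (hQQ ha)), ea, eb, mul_one]
    haveI := (nontrivial_iff_ne_bot _).2 hD0
    rw [← IsCyclic.exponent_eq_card]
    exact (Monoid.exponent_eq_prime_iff hq).2 fun z hz =>
      orderOf_eq_prime (Subtype.ext (hexp z z.2)) hz
  have hcen : center Q = (⁅Q, Q⁆ : Subgroup G).subgroupOf Q := by
    ext z
    rw [mem_subgroupOf, ← hZ, mem_center_iff]
    exact ⟨fun e => ⟨z.2, fun a ha => congrArg Subtype.val (e ⟨a, ha⟩)⟩,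
      fun e a => Subtype.ext (e.2 a a.2)⟩
  have hcc : Nat.card (center Q) = q := by
    rw [hcen, Nat.card_congr (subgroupOfEquivOfLe hQQ).toEquiv, hD]
  obtain ⟨e, c, hce⟩ := H26.exists_ES_of_card hcc le_rfl (by
    rw [hcen, _root_.commutator_def, commutator_le]
    exact fun a _ b _ => commutator_mem_commutator a.2 b.2) fun a => hcen ▸ h4 a a.2
  obtain ⟨m, hm⟩ := (c.nd_iff.2 hce.symm).exists_finrank
  have h5 := c.card_eq_pow
  have h6 := index_center_le (F := ZMod p) (vcen p V (zpowers x) ⊓ vcen p V Q) (fun a ha b _ e => by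
    by_cases h0 : a = 0
    · exact Or.inl h0
    · exact Or.inr (LinearMap.ext fun v => hI.inj ha.1 h0 ((LinearMap.congr_fun e v).trans
        (map_zero _).symm))) ((vrep p V).comp Q.subtype) (fun _ _ e => Subtype.ext (vrep_inj e))
    (fun c hc u => LinearMap.ext (mem_vcen.1 hc.2 u u.2)) (fun u t =>
      ⟨vrep_mem_vcen (hDc (commutator_mem_commutator u.2 t.2)),
        vrep_mem_vcen (h3 (commutator_mem_commutator u.2 t.2))⟩) fun c =>
      ⟨mem_vcen.2 fun a _ v => smul_comm a c v, mem_vcen.2 fun a _ v => smul_comm a c v⟩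
  have h7 := (center Q).card_mul_index
  rw [hcc, h5, hm, pow_succ'] at h7
  rw [Nat.eq_of_mul_eq_mul_left hq.pos h7, finrank_linearMap, mul_comm 2, pow_mul, ← sq,
    Nat.pow_le_pow_iff_left two_ne_zero] at h6
  letI : MulAction G G := MulAction.compHom G (MulAut.conj : G →* MulAut G)
  have h8 := card_dvd_ncard_of_free (X := G) (zpowers y) ((Q : Set G) \ (⁅Q, Q⁆ : Subgroup G))
    (fun g hg u hu => ⟨H1.conj_mem_of_le_normalizer hXQ hg hu.1, fun e => hu.2 (by
      have := H1.conj_mem_of_le_normalizer' (H1.le_normalizer_commutator hXQ hXQ) hg e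
      change g⁻¹ * (g * u * g⁻¹) * g ∈ _ at this
      simpa [mul_assoc] using this)⟩) fun g hg u hu e => by
      by_contra h0
      refine hu.2 (h2 ▸ ⟨hu.1, mem_cent_zpowers.2 ?_⟩)
      exact ((zpowers_le.2 (mem_centralizer_singleton_iff.2 (mul_inv_eq_iff_eq_mul.1 e)) :
        zpowers g ≤ centralizer {u}) (mem_zpowers_of_prime_pow h.1 hy hg h0) u rfl).symm
  rw [Set.ncard_diff (s := ((⁅Q, Q⁆ : Subgroup G) : Set G)) hQQ,
    Nat.card_zpowers, hy] at h8
  change _ ∣ Nat.card Q - Nat.card (⁅Q, Q⁆ : Subgroup G) at h8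
  rw [h5, hD, hm, pow_succ q, ← Nat.sub_one_mul] at h8
  have h9 := ((Nat.coprime_primes h.1 hq).2 hsq).pow_left (k + 1) |>.dvd_of_dvd_mul_right h8
  have h10 := h.lt hp.out.ne_zero
  have hm0 : m ≠ 0 := by
    rintro rfl
    have := index_eq_one.1 (Nat.eq_of_mul_eq_mul_left hq.pos h7)
    rw [hcen, subgroupOf_eq_top] at this
    exact hD0 (commutator_eq_bot_iff_le_centralizer.2 (this.trans h3))
  have h11 : 1 < q ^ m := Nat.one_lt_pow hm0 hq.one_lt
  rw [mul_comm, pow_mul, ← one_pow 2, Nat.sq_sub_sq] at h9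
  have h12 : ¬ s ∣ q ^ m - 1 := fun e => by have := Nat.le_of_dvd (by omega) e; omega
  have h13 := ((Nat.Prime.coprime_iff_not_dvd h.1).2 h12).pow_left (k + 1) |>.dvd_of_dvd_mul_right h9
  have h14 := Nat.le_of_dvd (by omega) h13
  have h15 : k = 0 := by
    by_contra hk
    have := Nat.pow_lt_pow_right h.1.one_lt (show 1 < k + 1 by omega)
    rw [pow_one] at this
    omega
  rw [h15, zero_add, pow_one] at h14
  obtain rfl : q = 2 := by
    have := h.1.eq_two_or_odd
    exact ((Nat.prime_dvd_prime_iff_eq Nat.prime_two hq).1 (Nat.prime_two.dvd_of_dvd_pow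
      (n := m) (by omega))).symm
  refine ⟨h15, ?_, by omega, m, by omega⟩
  rintro rfl
  exact hLp (hD ▸ card_dvd_of_le (hQQ.trans hQL))

end Cfsg.Agent.H2.Pm
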