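import Cfsg.Agent.H2.Hup2
import Cfsg.Agent.S3430
import Cfsg.Agent.S2904
import Cfsg.Agent.BG.S02

/-! Huppert's theorem on solvable linear groups transitive on non-zero vectors. -/

namespace Cfsg.Agent.H2.Pm
open MulAction Subgroup Module
open scoped Pointwise commutatorElement

theorem ab_of_dvd_fit {G : Type*} [Group G] [Finite G] {r : ℕ} (hr : r.Prime)
    (h : r ∣ Nat.card (fittingSubgroup G)) :
    ∃ A : Subgroup G, A.Normal ∧ IsMulCommutative A ∧ IsPGroup r A ∧ r ∣ Nat.card A := by
  haveI := Fact.mk hr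
  have h0 : pCore r G ≠ ⊥ := fun e => H1.not_dvd_relIndex_pCore_fittingSubgroup (G := G) r (by
    rwa [e, relIndex_bot_left])
  obtain ⟨M, hM, hle⟩ := exists_isMinNormal_le inferInstance h0
  have hp := (H1.isPGroup_pCore r G).to_le hle
  exact ⟨M, hM.1, hM.isMulCommutative_of_isSolvable (H1.isSolvable_of_isPGroup hp), hp,
    hp.card_eq_or_dvd.resolve_left fun e => hM.2 (card_eq_one.1 e)⟩

theorem card_le_mul_cent {G : Type*} [Group G] [Finite G] (H : Subgroup G) (x : G) (S : Set G)
    (hS : ∀ h ∈ H, h * x * h⁻¹ ∈ S) :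
    Nat.card H ≤ S.ncard * Nat.card (H ⊓ centralizer {x} : Subgroup G) := by
  letI : MulAction H G := MulAction.compHom G ((MulAut.conj : G →* MulAut G).comp H.subtype)
  have h1 := (stabilizer H x).index_mul_card
  rw [index_stabilizer] at h1
  rw [← h1]
  refine Nat.mul_le_mul (Set.ncard_le_ncard (by rintro _ ⟨h, rfl⟩; exact hS h h.2))
    (Nat.card_le_card_of_injective (fun c => ⟨c.1, c.1.2, mem_centralizer_singleton_iff.2
      (mul_inv_eq_iff_eq_mul.1 c.2)⟩) fun a b e => Subtype.ext (Subtype.ext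
        (congrArg (Subtype.val : (H ⊓ centralizer {x} : Subgroup G) → G) e)))

theorem not_dvd_pow_sub_one {p n : ℕ} (hp : 1 < p) (hn : n ≠ 0) : ¬ p ∣ p ^ n - 1 := fun e =>
  hp.ne' (Nat.dvd_one.1 (by
    have := Nat.dvd_sub (dvd_pow_self p hn) e
    rwa [Nat.sub_sub_self (Nat.one_le_pow _ _ (by omega))] at this))

variable {p : ℕ} [hp : Fact p.Prime] {G V : Type*} [Group G] [AddCommGroup V] [Module (ZMod p) V]
  [DistribMulAction G V] [SMulCommClass G (ZMod p) V] [FaithfulSMul G V] [Finite V] [Finite G]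

/-- No irreducible abelian normal subgroup. -/
def NoAb (p : ℕ) [Fact p.Prime] (G V : Type*) [Group G] [AddCommGroup V] [Module (ZMod p) V]
    [DistribMulAction G V] : Prop :=
  ∀ A : Subgroup G, A.Normal → IsMulCommutative A → ¬ VIrr p A V

omit [Finite G] in
theorem card_dvd_GL : Nat.card G ∣ ∏ i : Fin (finrank (ZMod p) V),
    (p ^ finrank (ZMod p) V - p ^ (i : ℕ)) := by
  have := Matrix.card_GL_field (𝔽 := ZMod p) (finrank (ZMod p) V)
  rw [ZMod.card] at this
  rw [← this]
  exact card_dvd_of_injective ((Matrix.GeneralLinearGroup.toLin' (finBasis (ZMod p) V)).symm.toMonoidHom.comp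
    (vrep p V : G →* _).toHomUnits) fun a b e =>
      vrep_inj (p := p) (V := V) (congrArg Units.val
        ((Matrix.GeneralLinearGroup.toLin' (finBasis (ZMod p) V)).symm.injective e))

omit hp [Module (ZMod p) V] [SMulCommClass G (ZMod p) V] in
theorem VTrans.dvd_of_dvd_fit (h : VTrans G V) {r : ℕ} (hr : r.Prime)
    (hd : r ∣ Nat.card (fittingSubgroup G)) : r ∣ Nat.card V - 1 := by
  obtain ⟨A, h1, h2, -, h4⟩ := ab_of_dvd_fit hr hd
  have := card_dvd_ncard_of_free A ((Set.univ : Set V) \ {0}) (fun g _ x hx =>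
    ⟨trivial, fun e => hx.2 ((smul_eq_zero_iff_eq g).1 e)⟩) fun g hg x hx e => h.semi h2 g hg x hx.2 e
  rw [Set.ncard_diff_singleton_of_mem (Set.mem_univ _), Set.ncard_univ] at this
  exact h4.trans this

omit [DistribMulAction G V] [SMulCommClass G (ZMod p) V] [FaithfulSMul G V] in
theorem card_V : Nat.card V = p ^ finrank (ZMod p) V := by
  rw [Module.natCard_eq_pow_finrank (K := ZMod p), Nat.card_zmod]

variable [Nontrivial V] (hs : Group.IsSolvable G) (h : VTrans G V) (hA : NoAb p G V)
include hs h hA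

theorem Ppd.global {s k : ℕ} (hP : Ppd p (finrank (ZMod p) V) s)
    (hk : s ^ (k + 1) ∣ p ^ finrank (ZMod p) V - 1) :
    k = 0 ∧ p ≠ 2 ∧ s = finrank (ZMod p) V + 1 ∧ ∃ m, finrank (ZMod p) V = 2 ^ m := by
  haveI := Fact.mk hP.1
  have h1 : ¬ s ∣ Nat.card (fittingSubgroup G) := fun hd => by
    obtain ⟨A, h1, h2, -, h4⟩ := ab_of_dvd_fit hP.1 hd
    obtain ⟨x, hx⟩ := exists_prime_orderOf_dvd_card' s h4
    exact hA A h1 h2 fun W hW => (hP.irr ((orderOf_coe x).trans hx)).2 W fun a ha =>
      hW a (zpowers_le.2 x.2 ha)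
  obtain ⟨P, hPc⟩ := Sylow.exists_subgroup_card_pow_prime (G := G) s
    (hk.trans (card_V (p := p) (V := V) ▸ h.card_dvd))
  have hPp := IsPGroup.of_card hPc
  haveI : Nontrivial P := Finite.one_lt_card_iff_nontrivial.1 (hPc ▸ Nat.one_lt_pow (by omega) hP.1.one_lt)
  haveI := hPp.center_nontrivial
  obtain ⟨x, hx⟩ := exists_prime_orderOf_dvd_card' s ((hPp.to_subgroup (center P)).card_eq_or_dvd.resolve_left
    Finite.one_lt_card.ne')
  haveI := (hP.irr ((orderOf_coe x.1).trans ((orderOf_coe x).trans hx))).2.isCyclic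
  haveI : IsCyclic P := isCyclic_of_injective _ (inclusion_injective
    (show P ≤ centralizer (zpowers (x.1 : G) : Set G) from fun g hg => mem_cent_zpowers.2
      (congrArg Subtype.val (mem_center_iff.1 x.2 ⟨g, hg⟩)).symm))
  obtain ⟨y, hy⟩ := IsCyclic.exists_ofOrder_eq_natCard (α := P)
  have hy' := (orderOf_coe y).trans (hy.trans hPc)
  refine hP.local hy' (le_normalizer_of_normal' (fittingSubgroup G) _)
    ((Nat.Prime.coprime_iff_not_dvd hP.1).2 h1).symm (fun hd => ?_) fun hc => h1 ?_
  · have := h.dvd_of_dvd_fit hp.out hd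
    rw [card_V (p := p)] at this
    exact not_dvd_pow_sub_one hp.out.one_lt finrank_pos.ne' this
  · have := orderOf_dvd_natCard _ (H1.centralizer_fittingSubgroup_le hs (le_centralizer_iff.1 hc
      (mem_zpowers _)))
    rwa [orderOf_pow_of_dvd (pow_ne_zero _ hP.1.ne_zero) (hy' ▸ pow_dvd_pow _ (by omega)), hy',
      pow_succ, Nat.mul_div_cancel_left _ (pow_pos hP.1.pos _)] at this

theorem not_two_six (h2 : p = 2) : finrank (ZMod p) V ≠ 6 := by
  intro h6
  subst h2
  have hV : Nat.card V = 64 := by rw [card_V (p := 2), h6]; rfl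
  have hG := card_dvd_GL (p := 2) (G := G) (V := V)
  have h63 := h.card_dvd
  rw [hV] at h63
  rw [h6, show ∏ i : Fin 6, (2 ^ 6 - 2 ^ (i : ℕ)) = 2 ^ 15 * 3 ^ 4 * 5 * 7 ^ 2 * 31 by decide] at hG
  have hF := (card_subgroup_dvd_card (fittingSubgroup G)).trans hG
  have h37 : ∀ r : ℕ, r.Prime → r ∣ Nat.card (fittingSubgroup G) → r = 3 ∨ r = 7 := fun r hr hd => by
    have := h.dvd_of_dvd_fit hr hd
    rw [hV, show 64 - 1 = 3 ^ 2 * 7 from rfl] at this
    exact ((Nat.Prime.dvd_mul hr).1 this).imp (fun e => (Nat.prime_dvd_prime_iff_eq hr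
      Nat.prime_three).1 (hr.dvd_of_dvd_pow e)) (Nat.prime_dvd_prime_iff_eq hr (by norm_num)).1
  have hC := H1.centralizer_fittingSubgroup_le hs
  by_cases h7 : 7 ∣ Nat.card (fittingSubgroup G)
  · by_cases h3 : 3 ∣ Nat.card (fittingSubgroup G)
    · obtain ⟨A, a1, a2, a3, a4⟩ := ab_of_dvd_fit Nat.prime_three h3
      obtain ⟨B, b1, b2, b3, b4⟩ := ab_of_dvd_fit (by norm_num) h7
      haveI : Fact (Nat.Prime 7) := ⟨by norm_num⟩
      have hAB : A ≤ centralizer (B : Set G) := fun a ha b hb =>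
        (commute_of_normal_of_disjoint A B a1 b1 (IsPGroup.disjoint_of_ne 3 7 (by norm_num) A B a3 b3)
          a b ha hb).symm
      have hc : IsMulCommutative (A ⊔ B : Subgroup G) := isMulCommutative_of_forall fun x hx y hy =>
        (sup_le (le_centralizer_iff.1 (sup_le A.le_centralizer (le_centralizer_iff.1 hAB)))
          (le_centralizer_iff.1 (sup_le hAB B.le_centralizer)) :
          A ⊔ B ≤ centralizer ((A ⊔ B : Subgroup G) : Set G)) hy x hx
      refine hA _ inferInstance hc fun W hW => ?_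
      have := (h.semi hc).card_dvd hW
      have e3 := (a4.trans (card_dvd_of_le le_sup_left)).trans this
      have e7 := (b4.trans (card_dvd_of_le le_sup_right)).trans this
      rw [card_sub_pow] at e3 e7
      have := W.finrank_le
      by_cases h0 : finrank (ZMod 2) W = 0
      · exact Or.inl (Submodule.finrank_eq_zero.1 h0)
      refine Or.inr (Submodule.eq_top_of_finrank_eq ?_)
      generalize finrank (ZMod 2) W = n at *
      rw [h6] at this ⊢
      interval_cases n <;> omega
    · haveI : Fact (Nat.Prime 7) := ⟨by norm_num⟩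
      obtain ⟨j, hj⟩ : ∃ j, Nat.card (fittingSubgroup G) = 7 ^ j :=
        ⟨_, Nat.eq_prime_pow_of_unique_prime_dvd Nat.card_pos.ne' fun hr hd =>
          (h37 _ hr hd).resolve_left (by rintro rfl; exact h3 hd)⟩
      have hj2 : j ≤ 2 := by
        by_contra hn
        exact absurd (((pow_dvd_pow 7 (show 3 ≤ j by omega)).trans hj.symm.dvd).trans hF) (by norm_num)
      have hc : IsMulCommutative (fittingSubgroup G) := by
        interval_cases j
        · haveI := (Nat.card_eq_one_iff_unique.1 hj).1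
          exact ⟨⟨fun _ _ => Subsingleton.elim _ _⟩⟩
        · exact (isCyclic_of_prime_card (hj.trans (pow_one 7))).isMulCommutative
        · exact IsPGroup.isMulCommutative_of_card_eq_prime_sq hj
      have h8 := (h.semi hc).card_dvd (p := 2) (W := ⊤) fun _ _ _ _ => trivial
      rw [Nat.card_congr Submodule.topEquiv.toEquiv, hV, hj] at h8
      obtain rfl : j = 1 := by
        rw [hj] at h7
        interval_cases j <;> simp_all
      haveI := isCyclic_of_prime_card (hj.trans (pow_one 7))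
      have h9 : (centralizer (fittingSubgroup G : Set G)).index ≤ 6 := by
        rw [← H1.ker_conjNormal, index_ker]
        refine (Nat.card_le_card_of_injective _ Subtype.val_injective).trans ?_
        rw [IsCyclic.card_mulAut, hj]; decide
      have := Nat.mul_le_mul (card_le_of_le hC) h9
      have := Nat.le_of_dvd Nat.card_pos h63
      have := (centralizer (fittingSubgroup G : Set G)).card_mul_index
      omega
  · haveI : Fact (Nat.Prime 7) := ⟨by norm_num⟩
    obtain ⟨j, hj⟩ : ∃ j, Nat.card (fittingSubgroup G) = 3 ^ j :=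
      ⟨_, Nat.eq_prime_pow_of_unique_prime_dvd Nat.card_pos.ne' fun hr hd =>
        (h37 _ hr hd).resolve_right (by rintro rfl; exact h7 hd)⟩
    have hj2 : j ≤ 4 := by
      by_contra hn
      exact absurd (((pow_dvd_pow 3 (show 5 ≤ j by omega)).trans hj.symm.dvd).trans hF) (by norm_num)
    obtain ⟨x, hx⟩ := exists_prime_orderOf_dvd_card' (G := G) 7 (Dvd.dvd.trans (by norm_num) h63)
    letI : MulAction G G := MulAction.compHom G (MulAut.conj : G →* MulAut G)
    have h8 := ncard_modEq_fixed (X := G) (IsPGroup.of_card (p := 7) (n := 1)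
      ((Nat.card_zpowers x).trans hx)) (fittingSubgroup G) fun g _ u hu =>
      (H1.fittingSubgroup_normal).conj_mem u hu g
    have h9 : {u ∈ (fittingSubgroup G : Set G) | ∀ g ∈ zpowers x, g * u * g⁻¹ = u} =
        (fittingSubgroup G ⊓ centralizer (zpowers x : Set G) : Subgroup G) :=
      Set.ext fun u => and_congr_right fun _ => forall₂_congr fun g _ => mul_inv_eq_iff_eq_mul
    replace h8 := h8.trans (congrArg (fun s : Set G => s.ncard % 7) h9)
    change Nat.card (fittingSubgroup G) ≡ Nat.card (_ ⊓ _ : Subgroup G) [MOD 7] at h8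
    obtain ⟨i, hi, e⟩ := (Nat.dvd_prime_pow Nat.prime_three).1 (hj ▸ card_dvd_of_le
      (inf_le_left : fittingSubgroup G ⊓ centralizer (zpowers x : Set G) ≤ _))
    have h10 : i = j := by
      rw [hj, e] at h8
      interval_cases j <;> interval_cases i <;> first | rfl | exact absurd h8 (by decide)
    have := inf_eq_left.1 (eq_of_le_of_card_ge inf_le_left (by rw [hj, e, h10]))
    exact h7 (hx ▸ orderOf_dvd_natCard _ (hC (le_centralizer_iff.1 this (mem_zpowers x))))

omit hs [Finite G] [FaithfulSMul G V] in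
theorem scalar_of_two (h2 : finrank (ZMod p) V = 2) {A : Subgroup G} [hn : A.Normal]
    (hc : IsMulCommutative A) {a : G} (ha : a ∈ A) : ∃ c : ZMod p, ∀ v : V, a • v = c • v := by
  have := hA A hn hc
  unfold VIrr at this
  push_neg at this
  obtain ⟨W, hW, h0, h1⟩ := this
  have h3 : finrank (ZMod p) W = 1 := by
    have := Submodule.finrank_lt h1
    have := mt Submodule.finrank_eq_zero.1 h0
    omega
  haveI := Submodule.nontrivial_iff_ne_bot.2 h0
  obtain ⟨w, hw⟩ := exists_ne (0 : W)
  obtain ⟨c, hc⟩ := LinearMap.exists_eq_smul_id_of_forall_notLinearIndependent (f := vrep p V a)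
    fun v hv => by
      obtain ⟨g, rfl⟩ := h w v (fun e => hw (Subtype.ext e)) (hv.ne_zero 0)
      obtain ⟨c, hc⟩ := (finrank_eq_one_iff_of_nonzero' w hw).1 h3
        ⟨_, hW _ (hn.conj_mem a ha g⁻¹) w w.2⟩
      replace hc : c • (w : V) = (g⁻¹ * a * g⁻¹⁻¹) • (w : V) := congrArg Subtype.val hc
      refine (LinearIndependent.pair_iff' (hv.ne_zero 0)).1 hv c ?_
      change c • g • (w : V) = a • g • (w : V)
      rw [← smul_comm g c, hc, inv_inv, mul_smul, mul_smul, smul_inv_smul]
  exact ⟨c, fun v => LinearMap.congr_fun hc v⟩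

theorem le_of_two (h2 : finrank (ZMod p) V = 2) : p + 1 ≤ 24 := by
  classical
  have hirr : VIrr p (⊤ : Subgroup G) V := fun W hW => or_iff_not_imp_left.2 fun h0 => by
    obtain ⟨w, hw, hw0⟩ := W.ne_bot_iff.1 h0
    refine eq_top_iff.2 fun v _ => ?_
    by_cases hv : v = 0
    · exact hv ▸ W.zero_mem
    obtain ⟨g, rfl⟩ := h w v hw0 hv
    exact hW g trivial w hw
  obtain ⟨M, hM, -, m1, m2⟩ := exists_min_nonab (C := (⊤ : Subgroup G)) inferInstance
    fun e => hA _ inferInstance e hirr
  have m3 : IsMulCommutative (⁅M, M⁆ : Subgroup G) := by_contra fun hn =>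
    (Group.IsSolvable.commutator_lt_of_ne_bot (by rintro rfl; exact m1 inferInstance)).ne
      (m2 _ inferInstance (commutator_le_left M M) hn)
  let ρ : G →* End (ZMod p) V := vrep p V
  have sc : ∀ {g : G} {c : ZMod p}, (∀ v : V, g • v = c • v) → ∀ u, u * g = g * u := fun hg u =>
    eq_of_smul_eq_smul fun v : V => by rw [mul_smul, mul_smul, hg, hg, smul_comm]
  let S : Set G := {z | (∀ v : V, z • v = v) ∨ ∀ v : V, z • v = -v}
  have hS : ∀ {g : G} {c : ZMod p}, (∀ v : V, g • v = c • v) → c ^ 2 = 1 → g ∈ S := fun hg hc => by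
    rcases sq_eq_one_iff.1 hc with rfl | rfl
    · exact Or.inl (by simpa using hg)
    · exact Or.inr (by simpa using hg)
  have m4 : ∀ u ∈ M, ∀ t ∈ M, ⁅u, t⁆ ∈ S := fun u hu t ht => by
    obtain ⟨c, hc⟩ := scalar_of_two h hA h2 m3 (commutator_mem_commutator hu ht)
    refine hS hc ?_
    have e : ρ ⁅u, t⁆ = c • LinearMap.id := LinearMap.ext hc
    have := congrArg LinearMap.det e
    rw [LinearMap.det_smul, h2, LinearMap.det_id, mul_one] at this
    rw [← this]
    exact congrArg Units.val (map_commutatorElement (LinearMap.det.comp ρ).toHomUnits u t ▸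
      commutatorElement_eq_one_iff_mul_comm.2 (mul_comm _ _))
  obtain ⟨a, ha, b, hb, hab⟩ : ∃ a ∈ M, ∃ b ∈ M, ⁅a, b⁆ ≠ 1 := by
    by_contra hn
    push_neg at hn
    exact m1 (isMulCommutative_of_forall fun a ha b hb =>
      commutatorElement_eq_one_iff_mul_comm.1 (hn a ha b hb))
  have one : ∀ {z : G}, (∀ v : V, z • v = v) → z = 1 := fun hz =>
    eq_of_smul_eq_smul fun v : V => (hz v).trans (one_smul _ _).symm
  set z := ⁅a, b⁆ with hz
  have z1 : ∀ v : V, z • v = -v := (m4 a ha b hb).resolve_left fun e => hab (one e)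
  have hS2 : ∀ u ∈ S, u = 1 ∨ u = z := fun u hu =>
    hu.imp one fun e => eq_of_smul_eq_smul fun v : V => (e v).trans (z1 v).symm
  have zc : ∀ u, u * z = z * u := sc (c := -1) (by simpa using z1)
  have D : ∀ d : G, a * d = d * a → b * d = d * b → ∃ c : ZMod p, ∀ v : V, d • v = c • v := by
    intro d h3 h4
    let B := finBasisOfFinrankEq (ZMod p) V h2
    let f := (LinearMap.toMatrixAlgEquiv B).toMonoidHom.comp ρ
    have hf : Function.Injective f := fun _ _ e => vrep_inj ((LinearMap.toMatrixAlgEquiv B).injective e)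
    have := mt (fun hn => BG.mat2_commute_of_commute (z := f d) (a := f a) (b := f b) hn
      (by rw [← map_mul, h3, map_mul]) (by rw [← map_mul, h4, map_mul])) fun e =>
        hab (commutatorElement_eq_one_iff_mul_comm.2 (hf (by rwa [map_mul, map_mul])))
    push_neg at this
    refine ⟨f d 0 0, fun v => LinearMap.congr_fun (show ρ d = f d 0 0 • 1 from
      (LinearMap.toMatrixAlgEquiv B).injective ?_) v⟩
    rw [map_smul, map_one]
    change f d = _
    ext i j
    fin_cases i <;> fin_cases j <;> simp [this]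
  have key : ∀ (x : G) (T : Set G) (E : Finset (G × G)), (∀ u ∈ T, u ∈ M ∧ u * u = x ∧
      (⁅a, u⁆, ⁅b, u⁆) ∈ E) → T.ncard ≤ 2 * E.card := fun x T E hT => by
    rw [Set.ncard_eq_toFinset_card T]
    refine Finset.card_le_mul_card_image_of_maps_to (f := fun u => (⁅a, u⁆, ⁅b, u⁆))
      (fun u hu => (hT u (by simpa using hu)).2.2) 2 fun e _ => ?_
    by_contra hn
    obtain ⟨u, hu⟩ := Finset.card_pos.1 ((Nat.zero_le _).trans_lt (not_le.1 hn))
    refine hn ?_
    refine (Finset.card_le_card (t := {u, u * z}) fun w hw => ?_).trans Finset.card_le_two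
    simp only [Finset.mem_filter, Set.Finite.mem_toFinset] at hu hw
    have e := hu.2.trans hw.2.symm
    simp only [Prod.mk.injEq, commutatorElement_def, mul_assoc, mul_right_inj] at e
    have e1 : ∀ t : G, u * (t⁻¹ * u⁻¹) = w * (t⁻¹ * w⁻¹) → t * (u⁻¹ * w) = u⁻¹ * w * t := fun t e => by
      calc _ = t * u⁻¹ * (w * (t⁻¹ * w⁻¹)) * w * t := by group
        _ = _ := by rw [← e]; group
    obtain ⟨c, hc⟩ := D _ (e1 _ e.1) (e1 _ e.2)
    have e2 : u⁻¹ * w * (u⁻¹ * w) = 1 := by
      have := (hT u hu.1).2.1.trans (hT w hw.1).2.1.symm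
      calc _ = u⁻¹ * (w * (u⁻¹ * w)) := by group
        _ = _ := by rw [sc hc w, mul_assoc, ← this]; group
    obtain ⟨v, hv⟩ := exists_ne (0 : V)
    have := hS2 _ (hS hc (smul_left_injective _ hv (by
      change _ • v = _ • v
      rw [sq, mul_smul, ← hc, ← hc, ← mul_smul, e2, one_smul, one_smul])))
    simp only [Finset.mem_insert, Finset.mem_singleton]
    exact this.imp (fun e => (inv_mul_eq_one.1 e).symm) fun e => by rw [← e]; group
  have k1 := card_le_mul_cent ⊤ a {u | ∃ g, g * a * g⁻¹ = u} fun g _ => ⟨g, rfl⟩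
  have k2 := card_le_mul_cent (⊤ ⊓ centralizer {a}) b
    {u | ∃ g ∈ ⊤ ⊓ centralizer {a}, g * b * g⁻¹ = u} fun g hg => ⟨g, hg, rfl⟩
  have k3 := key (a * a) {u | ∃ g, g * a * g⁻¹ = u} {(1, z), (z, 1), (z, z)} (by
    rintro _ ⟨g, rfl⟩
    have hm := hM.conj_mem a ha g
    refine ⟨hm, ?_, ?_⟩
    · obtain ⟨c, hc⟩ := D (a * a) (mul_assoc _ _ _).symm (by
        have e : z * z = 1 := one fun v => by rw [mul_smul, z1, z1, neg_neg]
        have e' : a * b = z * b * a := by simp [hz, commutatorElement_def]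
        calc _ = z * (z * b * a) * a := by rw [← mul_assoc, ← mul_assoc, ← mul_assoc, e, one_mul]
          _ = a * (z * b * a) := by rw [← e', ← mul_assoc z a, ← zc a, e']; simp [mul_assoc]
          _ = _ := by rw [← e', mul_assoc])
      calc _ = g * (a * a) * g⁻¹ := by group
        _ = _ := by rw [sc hc g]; group
    · rcases hS2 _ (m4 a ha _ hm) with e1 | e1 <;> rcases hS2 _ (m4 b hb _ hm) with e2 | e2
      · obtain ⟨c, hc⟩ := D _ (commutatorElement_eq_one_iff_mul_comm.1 e1)
          (commutatorElement_eq_one_iff_mul_comm.1 e2)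
        refine absurd (commutatorElement_eq_one_iff_mul_comm.2 ?_) hab
        have := sc hc (g * b * g⁻¹)
        simp only [mul_assoc, inv_mul_cancel_left, mul_right_inj] at this
        simpa [← mul_assoc] using this.symm
      all_goals simp [e1, e2])
  have k4 := key (b * b) {u | ∃ g ∈ ⊤ ⊓ centralizer {a}, g * b * g⁻¹ = u} {(z, 1), (z, z)} (by
    rintro _ ⟨g, hg, rfl⟩
    have hm := hM.conj_mem b hb g
    refine ⟨hm, ?_, ?_⟩
    · obtain ⟨c, hc⟩ := D (b * b) (by
        have := zc b
        have e : z * z = 1 := one fun v => by rw [mul_smul, z1, z1, neg_neg]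
        have e' : a * b = z * b * a := by simp [hz, commutatorElement_def]
        rw [← mul_assoc, e', mul_assoc, e', ← mul_assoc, ← mul_assoc, mul_assoc z, this,
          ← mul_assoc, e]
        simp) (mul_assoc _ _ _).symm
      calc _ = g * (b * b) * g⁻¹ := by group
        _ = _ := by rw [sc hc g]; group
    · have e1 : ⁅a, g * b * g⁻¹⁆ = z := by
        have := mem_centralizer_singleton_iff.1 hg.2
        calc _ = ⁅g * a * g⁻¹, g * b * g⁻¹⁆ := by rw [this]; simp
          _ = g * z * g⁻¹ := (conjugate_commutatorElement a b g).symm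
          _ = _ := by rw [zc]; simp
      rcases hS2 _ (m4 b hb _ hm) with e2 | e2 <;> simp [e1, e2])
  have k5 : Nat.card (⊤ ⊓ centralizer {a} ⊓ centralizer {b} : Subgroup G) ≤ p - 1 := by
    choose c hc using fun d : (⊤ ⊓ centralizer {a} ⊓ centralizer {b} : Subgroup G) =>
      D d (d.2.1.2 a rfl) (d.2.2 b rfl)
    obtain ⟨v, hv⟩ := exists_ne (0 : V)
    rw [← Nat.totient_prime hp.out, ← ZMod.card_units_eq_totient, ← Nat.card_eq_fintype_card]
    exact Nat.card_le_card_of_injective (fun d => Units.mk0 (c d) fun e => hv (by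
      have := hc d v
      rwa [e, zero_smul, smul_eq_zero_iff_eq] at this)) fun d d' e =>
      Subtype.ext (eq_of_smul_eq_smul fun v : V => by
        rw [hc, hc, show c d = c d' from congrArg Units.val e])
  have k6 := Nat.le_of_dvd Nat.card_pos h.card_dvd
  have k7 : ({(1, z), (z, 1), (z, z)} : Finset (G × G)).card ≤ 3 := Finset.card_le_three
  have k8 : ({(z, 1), (z, z)} : Finset (G × G)).card ≤ 2 := Finset.card_le_two
  rw [card_V (p := p), h2, ← card_top] at k6
  have k9 := k6.trans (k1.trans (Nat.mul_le_mul (k3.trans (Nat.mul_le_mul_left 2 k7))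
    (k2.trans (Nat.mul_le_mul (k4.trans (Nat.mul_le_mul_left 2 k8)) k5))))
  obtain ⟨t, rfl⟩ : ∃ t, p = t + 2 := ⟨p - 2, by have := hp.out.two_le; omega⟩
  rw [show (t + 2) ^ 2 - 1 = (t + 1) * (t + 3) from Nat.sub_eq_of_eq_add (by ring)] at k9
  change _ ≤ 6 * (4 * (t + 1)) at k9
  nlinarith

theorem huppert : Nat.card V ∈ ({9, 25, 49, 121, 529, 81} : Set ℕ) := by
  have h1 : 2 ≤ finrank (ZMod p) V := by
    have := hA ⊥ inferInstance inferInstance
    unfold VIrr at this
    push_neg at this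
    obtain ⟨W, -, h0, h1⟩ := this
    have := Submodule.finrank_lt h1
    have := mt Submodule.finrank_eq_zero.1 h0
    omega
  have key := fun s (h2 : Ppd p (finrank (ZMod p) V) s) =>
    h2.global (k := 0) hs h hA (by simpa using h2.2.1)
  have hp2 : p ≠ 2 := fun e => by
    obtain ⟨s, h2⟩ := S2904.result p _ hp.out.one_lt h1 (fun e' => not_two_six hs h hA e e'.2) (by
      rintro ⟨-, m, hm⟩
      subst e
      rcases m with _ | _ | m <;> simp [pow_succ] at hm
      omega)
    exact (key s h2).2.1 e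
  rw [card_V (p := p)]
  by_cases h2 : finrank (ZMod p) V = 2 ∧ ∃ s t : ℕ, t ≤ 1 ∧ p + 1 = 2 ^ s * 3 ^ t
  · obtain ⟨h2, s, t, ht, e⟩ := h2
    have h3 := le_of_two hs h hA h2
    have h4 : p + 1 ∣ 48 := by
      have : s ≤ 4 := by
        by_contra hn
        have := Nat.mul_le_mul (Nat.pow_le_pow_right two_pos (show 5 ≤ s by omega))
          (Nat.one_le_pow t 3 (by norm_num))
        omega
      rw [e]
      exact Nat.mul_dvd_mul (pow_dvd_pow 2 this) (pow_dvd_pow 3 ht)
    have := hp.out
    have h5 : p ≤ 23 := by omega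
    rw [h2]
    clear e h2 key h1 hA
    revert h4 this hp2
    generalize p = p at h5
    interval_cases p <;> decide
  have h6 : finrank (ZMod p) V ≠ 6 := fun e => by
    obtain ⟨s, h2⟩ := S2904.result p _ hp.out.one_lt h1 (fun e' => hp2 e'.1) (by omega)
    obtain ⟨m, hm⟩ := (key s h2).2.2.2
    rw [e] at hm
    rcases m with _ | _ | _ | m <;> simp [pow_succ] at hm
    omega
  by_cases h3 : p = 3 ∧ finrank (ZMod p) V = 4
  · rw [h3.2, h3.1]; simp
  obtain ⟨s, s1, s2, s3, s4⟩ := S3430.result p _ hp.out.two_le h1 h2 (by omega) (by omega) (by omega)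
  rcases s4 with s4 | s4
  · have := (key s ⟨s1, s2, s3⟩).2.2.1
    omega
  · exact absurd (Ppd.global (k := 1) hs h hA ⟨s1, s2, s3⟩ s4).1 one_ne_zero

end Cfsg.Agent.H2.Pm
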