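import Cfsg.Agent.H2.Hup3
import Cfsg.Agent.H2.SS3
import Cfsg.Agent.S0106

/-! Solvable linear groups regular on non-zero vectors. -/

namespace Cfsg.Agent.H2.Pm
open MulAction Subgroup Module
open scoped Pointwise commutatorElement MatrixGroups

/-- No subgroup of index two. -/
def No2 (G : Type*) [Group G] : Prop := ∀ N : Subgroup G, N.index ≠ 2

theorem No2.surj {G K : Type*} [Group G] [Group K] (h : No2 G) (f : G →* K)
    (hf : Function.Surjective f) : No2 K := fun N e => h (N.comap f) (by
  rwa [index_comap_of_surjective _ hf])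

theorem No2.eq_zero {G : Type*} [Group G] [Finite G] (h : No2 G) {n : ℕ} (hn : Nat.card G = 2 ^ n) :
    n = 0 := by
  rcases n with _ | n
  · rfl
  obtain ⟨K, hK⟩ := Sylow.exists_subgroup_card_pow_prime (G := G) 2 (n := n)
    (hn ▸ pow_dvd_pow 2 n.le_succ)
  have := K.card_mul_index
  rw [hK, hn, pow_succ] at this
  exact absurd (Nat.eq_of_mul_eq_mul_left (by positivity) this) (h K)

theorem No2.odd_of_npc {G : Type*} [Group G] [Finite G] (h : No2 G)
    (hc : HasNormalPComplement 2 G) : ¬ 2 ∣ Nat.card G := by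
  obtain ⟨P, N, hN, hc⟩ := hc
  obtain ⟨n, hn⟩ := P.2.exists_card_eq
  obtain rfl := (h.surj (QuotientGroup.mk' N) (QuotientGroup.mk'_surjective N)).eq_zero
    (n := n) (hc.symm.index_eq_card.trans hn)
  have := P.1.card_mul_index
  rw [hn, pow_zero, one_mul] at this
  exact this ▸ P.not_dvd_index

theorem No2.odd_comm {G : Type*} [Group G] [Finite G] (h : No2 G) :
    ¬ 2 ∣ (commutator G).index := by
  obtain ⟨P⟩ : Nonempty (Sylow 2 (Abelianization G)) := inferInstance
  exact (h.surj Abelianization.of (QuotientGroup.mk'_surjective _)).odd_of_npc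
    ⟨P, _, inferInstance, MonoidHom.ker_transferSylow_isComplement' P fun x _ y _ => mul_comm _ _⟩

theorem No2.sl23 {G : Type*} [Group G] [Finite G] (h : No2 G) (hG : Nat.card G = 24)
    (f : QuaternionGroup 2 →* G) (hf : Function.Injective f) : Nonempty (G ≃* SL(2, ZMod 3)) := by
  have e := MonoidHom.ofInjective hf
  have hc : Nat.card f.range = 2 ^ (Nat.card G).factorization 2 := by
    rw [← Nat.card_congr e.toEquiv, Nat.card_eq_fintype_card, QuaternionGroup.card, hG]
    decide +kernel
  obtain ⟨H, K, hK, ⟨e'⟩⟩ := (S0106.result (Sylow.ofCard _ hc) 1 le_rfl ⟨e.symm⟩).resolve_left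
    fun hn => h.odd_of_npc hn (by rw [hG]; norm_num)
  have h1 : (K.subgroupOf H).index = 24 := (Nat.card_congr e'.toEquiv).trans (by
    rw [Nat.card_eq_fintype_card]; decide +kernel)
  have h2 := (K.subgroupOf H).card_mul_index
  have h3 := H.card_mul_index
  have h4 : 0 < Nat.card (K.subgroupOf H) := Nat.card_pos
  have h5 := Nat.pos_of_ne_zero H.index_ne_zero_of_finite
  rw [← h2, h1, hG] at h3
  have h6 : Nat.card (K.subgroupOf H) = 1 ∧ H.index = 1 := by constructor <;> nlinarith
  obtain rfl := index_eq_one.1 h6.2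
  exact ⟨(topEquiv.symm.trans (QuotientGroup.quotientBot.symm.trans
    (QuotientGroup.quotientMulEquivOfEq (card_eq_one.1 h6.1).symm))).trans e'⟩

variable {p : ℕ} [hp : Fact p.Prime] {G V : Type*} [Group G] [AddCommGroup V] [Module (ZMod p) V]
  [DistribMulAction G V] [SMulCommClass G (ZMod p) V] [FaithfulSMul G V] [Finite V] [Finite G]
  [Nontrivial V]

theorem VIrr.odd {A : Subgroup G} [A.Normal] (hA : IsMulCommutative A) (h : VIrr p A V)
    (h2 : No2 G) : ¬ 2 ∣ Nat.card G := fun hd => by
  haveI := h.isCyclic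
  haveI : IsCyclic A := isCyclic_of_injective _ (inclusion_injective A.le_centralizer)
  obtain ⟨P⟩ : Nonempty (Sylow 2 G) := inferInstance
  have h1 : (P : Subgroup G) ≤ commutator G := by
    obtain ⟨k, hk⟩ := P.2.index ((commutator G).subgroupOf P)
    rcases k with _ | k
    · exact subgroupOf_eq_top.1 (index_eq_one.1 hk)
    · exact absurd ((hk ▸ dvd_pow_self 2 k.succ_ne_zero).trans
        (relIndex_dvd_index_of_normal (commutator G) P)) h2.odd_comm
  haveI : IsCyclic P := isCyclic_of_injective _ (inclusion_injective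
    (h1.trans (commutator_le_centralizer_of_isCyclic A)))
  exact h2.odd_of_npc ⟨P, _, inferInstance, IsCyclic.isComplement'
    ((Nat.minFac_eq_two_iff _).2 hd) inferInstance⟩ hd

omit [FaithfulSMul G V] in
theorem RegLin.q8 (h : RegLin G V) (hs : Group.IsSolvable G) (hI : NoIrr p G V) :
    ∃ (N : Subgroup G) (_ : N.Normal) (_ : N ≃* QuaternionGroup 2) (W : Submodule (ZMod p) V),
      Nat.card V = Nat.card W ^ 2 ∧ 1 < Nat.card W ∧ Inv (centralizer (N : Set G)) W := by
  obtain ⟨A, h1, h2, h3⟩ := H1.exists_maximal_abelian_normal (G := G)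
  obtain ⟨N, h4, h5, h6, h7⟩ := exists_min_nonab inferInstance
    (h.cent_not_comm (p := p) hI ⟨h1, h2, h3⟩)
  have h8 := quat_or_sl25 h.freeRep ⟨h1, h2, h3⟩ h5 h6 h7
  obtain ⟨-, W, h9, h10, h11⟩ := h.exists_W (p := p) (exists_quat h8)
  obtain ⟨e⟩ := h8.resolve_right fun ⟨e⟩ => not_sol_sl25
    (solvable_of_surjective (f := e.toMonoidHom) e.surjective)
  exact ⟨N, h4, e, W, h9, h10, h11⟩

omit [FaithfulSMul G V] in
theorem RegLin.no2 (h : RegLin G V) (hs : Group.IsSolvable G) (hI : NoIrr p G V) (h2 : No2 G) :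
    (Nat.card V = 25 ∧ Nonempty (G ≃* SL(2, ZMod 3))) ∨
      (Nat.card V = 121 ∧ Nonempty (G ≃* SL(2, ZMod 3) × Multiplicative (ZMod 5))) := by
  obtain ⟨N, hN, e, W, h3, h4, h5⟩ := h.q8 hs hI
  have h6 := h.card_of_q8 hI e h3 h4 h5
  have h7 := h.add_one_dvd h3 h4 (h.card_dvd h5) (card_mul_index _).symm
  have h8 : (centralizer (N : Set G)).index ∣ 12 := by
    obtain ⟨f⟩ := S3742.result
    let φ := ((MulAut.congr e).trans f).toMonoidHom.comp (MulAut.conjNormal : G →* MulAut N)
    have k1 : φ.ker = centralizer (N : Set G) := by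
      rw [← H1.ker_conjNormal, ← MonoidHom.comap_ker, (MonoidHom.ker_eq_bot_iff _).2
        (MulEquiv.injective _), MonoidHom.comap_bot]
    have k2 : φ.range ≤ alternatingGroup (Fin 4) := by
      have := relIndex_dvd_index_of_normal (alternatingGroup (Fin 4)) φ.range
      rw [alternatingGroup.index_eq_two, ← index_comap] at this
      have := index_eq_one.1 (((Nat.dvd_prime Nat.prime_two).1 this).resolve_right (h2 _))
      rintro _ ⟨g, rfl⟩
      exact this.ge trivial
    rw [← k1, index_ker]
    refine (card_dvd_of_le k2).trans (dvd_of_eq ?_)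
    rw [nat_card_alternatingGroup, Nat.card_fin]; rfl
  have h9 := h7.trans h8
  have h10 := h.card_eq
  rcases (show Nat.card W = 5 ∨ Nat.card W = 11 by
    rcases h6 with h6 | h6 | h6 | h6 <;> rw [h6] at h9 <;> omega) with hW | hW <;> rw [hW] at h3 h7 <;>
    rw [h3] at h10
  · exact Or.inl ⟨h3, h2.sl23 (Nat.add_right_cancel (m := 1) h10) (N.subtype.comp e.symm.toMonoidHom)
      fun _ _ e' => e.symm.injective (Subtype.ext e')⟩
  refine Or.inr ⟨h3, ?_⟩
  have hC : Nat.card (centralizer (N : Set G)) = 10 := by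
    have := (centralizer (N : Set G)).card_mul_index
    rw [Nat.dvd_antisymm h8 h7] at this
    omega
  haveI : Fact (Nat.Prime 5) := ⟨by norm_num⟩
  obtain ⟨P⟩ : Nonempty (Sylow 5 (centralizer (N : Set G))) := inferInstance
  have hP : Nat.card P = 5 := by rw [P.card_eq_multiplicity, hC]; decide +kernel
  haveI := Sylow.characteristic_of_normal P (normal_of_index_eq_two (by
    have := P.1.card_mul_index
    rw [hP, hC] at this
    omega))
  set Z := P.1.map (centralizer (N : Set G)).subtype
  have hZ : Nat.card Z = 5 := (card_map_of_injective (subtype_injective _)).trans hP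
  have hi : Z.index = 24 := by have := Z.card_mul_index; rw [hZ] at this; omega
  obtain ⟨K, hK⟩ := exists_right_complement'_of_coprime (N := Z) (by rw [hZ, hi]; norm_num)
  haveI := isCyclic_of_prime_card hZ
  have hc : centralizer (Z : Set G) = ⊤ := by
    have k1 : (centralizer (Z : Set G)).index ∣ 2 ^ 2 := by
      rw [← H1.ker_conjNormal, index_ker]
      refine (card_subgroup_dvd_card _).trans (dvd_of_eq ?_)
      rw [IsCyclic.card_mulAut, hZ]; decide
    obtain ⟨k, -, k2⟩ := (Nat.dvd_prime_pow Nat.prime_two).1 k1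
    obtain rfl := (h2.surj (QuotientGroup.mk' _) (QuotientGroup.mk'_surjective _)).eq_zero k2
    exact index_eq_one.1 k2
  have hK' : Nat.card K = 24 := hK.symm.index_eq_card.symm.trans hi
  have hcm : ∀ (s : K) (m : Z), Commute (K.subtype s) (Z.subtype m) := fun s m =>
    (hc.ge trivial m m.2).symm
  let e' := (MulEquiv.ofBijective (K.subtype.noncommCoprod Z.subtype hcm) (by
    rw [Nat.bijective_iff_surjective_and_card, ← MonoidHom.range_eq_top,
      MonoidHom.noncommCoprod_range, range_subtype, range_subtype, Nat.card_prod, hK', hZ]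
    exact ⟨hK.symm.sup_eq_top, by omega⟩)).symm
  let π : G →* K := (MonoidHom.fst _ _).comp e'.toMonoidHom
  obtain ⟨e2⟩ := (h2.surj π (Prod.fst_surjective.comp e'.surjective)).sl23 hK'
    (π.comp (N.subtype.comp e.symm.toMonoidHom)) ((injective_iff_map_eq_one _).2 fun a ha => by
      have k1 : e' (e.symm a) ^ 5 = 1 := Prod.ext (by
        rw [Prod.pow_fst, show (e' (e.symm a)).1 = 1 from ha, one_pow]; rfl) (by
        rw [Prod.pow_snd, ← hZ, pow_card_eq_one']; rfl)
      rw [← map_pow, map_eq_one_iff _ e'.injective, ← coe_pow, OneMemClass.coe_eq_one, ← map_pow,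
        map_eq_one_iff _ e.symm.injective] at k1
      clear ha
      revert a
      decide)
  exact ⟨e'.trans (e2.prodCongr (mulEquivOfPrimeCardEq hZ (by simp)))⟩

end Cfsg.Agent.H2.Pm
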