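import Mathlib
import Cfsg.Agent.H3.Misc1
import Cfsg.Agent.H3.Frobenius
import Cfsg.Agent.H1.Coprime
import Cfsg.Agent.H2.Basic

/-! Groups in which `p` divides the order of every subgroup that is neither a `q`-group nor a
`q'`-group. -/

namespace Cfsg.Agent.H2.Mix
open Subgroup
open scoped Pointwise

variable {G : Type*} [Group G] {p q : ℕ}

/-- `p`-elements -/
def PE (p : ℕ) (y : G) : Prop := ∃ k : ℕ, y ^ p ^ k = 1

theorem PE.zpowers {y : G} (h : PE p y) : IsPGroup p (zpowers y) := by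
  obtain ⟨k, hk⟩ := h
  rintro ⟨_, n, rfl⟩
  refine ⟨k, Subtype.ext ?_⟩
  simp only [SubgroupClass.coe_pow, OneMemClass.coe_one]
  rw [← zpow_natCast, ← zpow_mul, mul_comm, zpow_mul, zpow_natCast, hk, one_zpow]

theorem pe_of_mem {Y : Subgroup G} (h : IsPGroup p Y) {y : G} (hy : y ∈ Y) : PE p y := by
  obtain ⟨k, hk⟩ := h ⟨y, hy⟩
  exact ⟨k, by simpa using congrArg Subtype.val hk⟩

theorem PE.conj {y : G} (h : PE p y) (g : G) : PE p (g * y * g⁻¹) := by
  obtain ⟨k, hk⟩ := h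
  exact ⟨k, by rw [conj_pow, hk]; simp⟩

theorem PE.pow {y : G} (h : PE p y) (n : ℕ) : PE p (y ^ n) := pe_of_mem h.zpowers (npow_mem_zpowers y n)

theorem PE.coprime {y : G} (h : PE p y) (hc : p.Coprime q) : (orderOf y).Coprime q := by
  obtain ⟨k, hk⟩ := h
  exact (hc.pow_left k).coprime_dvd_left (orderOf_dvd_of_pow_eq_one hk)

theorem PE.eq_one {y : G} (h : PE p y) (h' : PE q y) (hc : p.Coprime q) : y = 1 := by
  obtain ⟨k, hk⟩ := h'
  exact orderOf_eq_one_iff.1 (((h.coprime hc).pow_right k).eq_one_of_dvd (orderOf_dvd_of_pow_eq_one hk))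

theorem pe_two {t : G} (h : t ^ 2 = 1) : PE 2 t := ⟨1, by simpa using h⟩

/-- the hypothesis on mixed subgroups -/
def Mx (p q : ℕ) (G : Type*) [Group G] : Prop :=
  ∀ H : Subgroup G, ¬ IsPGroup q H → q ∣ Nat.card H → p ∣ Nat.card H

variable [Finite G]

theorem dvd_card_of_ne_bot {r : ℕ} [Fact r.Prime] {R : Subgroup G} (h : IsPGroup r R) (h1 : R ≠ ⊥) :
    r ∣ Nat.card R := by
  obtain ⟨k, hk⟩ := IsPGroup.iff_card.1 h
  rcases k with _ | k
  · exact absurd (card_eq_one.1 (by simpa using hk)) h1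
  · exact hk ▸ dvd_pow_self r k.succ_ne_zero

theorem Mx.two [hp : Fact p.Prime] [hq : Fact q.Prime] (hm : Mx p q G) (hpq : p ≠ q) {r : ℕ}
    [hr : Fact r.Prime] {B R : Subgroup G} (hB : IsPGroup q B) (hB1 : B ≠ ⊥) (hR : IsPGroup r R)
    (hR1 : R ≠ ⊥) (hrq : r ≠ q) (hn : B ≤ normalizer (R : Set G) ∨ R ≤ normalizer (B : Set G)) :
    r = p := by
  have h1 : Nat.card (B ⊔ R : Subgroup G) ∣ Nat.card B * Nat.card R := by
    rcases hn with hn | hn
    · exact Dvd.intro _ (H3.card_sup_mul_card_inf hn)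
    · rw [sup_comm, mul_comm]; exact Dvd.intro _ (H3.card_sup_mul_card_inf hn)
  have h2 := hm (B ⊔ R) (fun h => hR1 (disjoint_self.1
    (IsPGroup.disjoint_of_ne r q hrq R R hR (h.to_le le_sup_right))))
    ((dvd_card_of_ne_bot hB hB1).trans (card_dvd_of_le le_sup_left))
  obtain ⟨a, ha⟩ := IsPGroup.iff_card.1 hB
  obtain ⟨b, hb⟩ := IsPGroup.iff_card.1 hR
  rw [ha, hb] at h1
  rcases hp.out.dvd_mul.1 (h2.trans h1) with h | h
  · exact absurd ((Nat.prime_dvd_prime_iff_eq hp.out hq.out).1 (hp.out.dvd_of_dvd_pow h)) hpq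
  · exact ((Nat.prime_dvd_prime_iff_eq hp.out hr.out).1 (hp.out.dvd_of_dvd_pow h)).symm

theorem Mx.pgroup [hp : Fact p.Prime] [hq : Fact q.Prime] (hm : Mx p q G) (hpq : p ≠ q)
    {B K : Subgroup G} (hB : IsPGroup q B) (hB1 : B ≠ ⊥) (hK : (Nat.card K).Coprime q)
    (hn : B ≤ normalizer (K : Set G)) : IsPGroup p K := by
  refine IsPGroup.iff_card.2 ⟨_, Nat.eq_prime_pow_of_unique_prime_dvd Nat.card_pos.ne' fun {d} hd hdd => ?_⟩
  haveI := Fact.mk hd
  obtain ⟨a, ha⟩ := IsPGroup.iff_card.1 hB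
  haveI := hB.isNilpotent
  obtain ⟨R, hR, hBR⟩ := H1.exists_invariant_isSylowIn d hn (ha ▸ (hK.pow_right a).symm)
    (Or.inl inferInstance)
  refine hm.two hpq hB hB1 hR.isPGroup ?_ ?_ (Or.inl hBR)
  · rintro rfl
    exact hR.not_dvd (by rwa [relIndex_bot_left])
  · rintro rfl
    exact hd.one_lt.ne' (hK.symm.eq_one_of_dvd hdd)

theorem Mx.pe [hp : Fact p.Prime] [hq : Fact q.Prime] (hm : Mx p q G) (hpq : p ≠ q)
    {B : Subgroup G} (hB : IsPGroup q B) (hB1 : B ≠ ⊥) {g : G} (hg : (orderOf g).Coprime q)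
    (hn : g ∈ normalizer (B : Set G)) : PE p g := by
  have h1 := Nat.eq_prime_pow_of_unique_prime_dvd (p := p) (orderOf_pos g).ne' fun {d} hd hdd => by
    haveI := Fact.mk hd
    have h2 : orderOf (g ^ (orderOf g / d)) = d := orderOf_pow_orderOf_div (orderOf_pos g).ne' hdd
    refine hm.two hpq hB hB1 (R := zpowers (g ^ (orderOf g / d)))
      (IsPGroup.of_card (n := 1) (by rw [Nat.card_zpowers, h2, pow_one])) ?_ ?_
      (Or.inr (zpowers_le.2 (pow_mem hn _)))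
    · rw [Ne, zpowers_eq_bot]
      intro h
      rw [h, orderOf_one] at h2
      exact hd.one_lt.ne h2
    · rintro rfl
      exact hd.one_lt.ne' (hg.symm.eq_one_of_dvd hdd)
  exact ⟨_, by rw [← h1, pow_orderOf_eq_one]⟩

theorem gp [hp : Fact p.Prime] {Q : Subgroup G} {y u : G} (hy : PE p y) (hn : y ∈ normalizer (Q : Set G))
    (hu : u ∈ Q) (hc : ¬ Commute y u) : p + 1 ≤ Nat.card Q ∧
      (Nat.card Q ≤ p + 1 → ∀ t ∈ Q, t ≠ 1 → ∃ i : ℕ, t = y ^ i * u * (y ^ i)⁻¹) := by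
  have hu1 : u ≠ 1 := by
    rintro rfl
    exact hc (Commute.one_right y)
  have key : ∀ i j : ℕ, i < j → j < p → y ^ i * u * (y ^ i)⁻¹ ≠ y ^ j * u * (y ^ j)⁻¹ := by
    intro i j hij hj h
    have h1 : y ^ (j - i) ∈ centralizer ({u} : Set G) := by
      rw [mem_centralizer_singleton_iff]
      have h2 : y ^ j = y ^ i * y ^ (j - i) := by rw [← pow_add]; congr 1; omega
      rw [h2] at h
      have h3 : y ^ (j - i) * u = (y ^ i)⁻¹ * (y ^ i * y ^ (j - i) * u * (y ^ i * y ^ (j - i))⁻¹) *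
        y ^ i * y ^ (j - i) := by group
      rw [h3, ← h]; group
    have h2 : y ∈ Subgroup.zpowers (y ^ (j - i)) := mem_zpowers_pow_iff.2
      ((hy.coprime ((Nat.coprime_of_lt_prime (by omega) (by omega) hp.out))).symm)
    exact hc (mem_centralizer_singleton_iff.1 (zpowers_le.2 h1 h2))
  have hinj : Function.Injective fun i : Fin p => y ^ i.1 * u * (y ^ i.1)⁻¹ := by
    intro i j h
    rcases lt_trichotomy i.1 j.1 with h1 | h1 | h1
    · exact absurd h (key _ _ h1 j.2)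
    · exact Fin.ext h1
    · exact absurd h.symm (key _ _ h1 i.2)
  have hsub : Set.range (fun i : Fin p => y ^ i.1 * u * (y ^ i.1)⁻¹) ⊆ (Q : Set G) \ {1} := by
    rintro _ ⟨i, rfl⟩
    exact ⟨(mem_normalizer_iff.1 (pow_mem hn i.1) u).1 hu, by simpa using hu1⟩
  have h1 : (Set.range (fun i : Fin p => y ^ i.1 * u * (y ^ i.1)⁻¹)).ncard = p := by
    rw [Set.ncard_range_of_injective hinj]; simp
  have h2 : ((Q : Set G) \ {1}).ncard = Nat.card Q - 1 := by
    rw [Set.ncard_diff_singleton_of_mem Q.one_mem]; rfl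
  have h3 := Set.ncard_le_ncard hsub
  have h4 : 0 < Nat.card Q := Nat.card_pos
  refine ⟨by omega, fun h t ht ht1 => ?_⟩
  have h5 := Set.eq_of_subset_of_ncard_le hsub (by omega)
  obtain ⟨i, hi⟩ : t ∈ Set.range (fun i : Fin p => y ^ i.1 * u * (y ^ i.1)⁻¹) := h5 ▸ ⟨ht, ht1⟩
  exact ⟨i, hi.symm⟩

/-- a `q`-subgroup with a `p`-element acting nontrivially -/
structure Good (p q : ℕ) (Q : Subgroup G) (x : G) : Prop where
  two : IsPGroup q Q
  pe : PE p x
  norm : x ∈ normalizer (Q : Set G)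
  nc : x ∉ centralizer (Q : Set G)

theorem Mx.dich [hp : Fact p.Prime] [hq : Fact q.Prime] (hm : Mx p q G) (hpq : p ≠ q) (H : Subgroup G) :
    HasNormalPComplement q H ∨ ∃ Q x, Good p q Q x ∧ Q ≤ H ∧ x ∈ H := by
  by_contra hc
  push Not at hc
  refine hc.1 (H3.hasNormalPComplement_of_forall_isPGroup fun X hX g hg hcop => ?_)
  by_contra hn
  have h1 : (g : G) ∈ normalizer ((X.map H.subtype : Subgroup G) : Set G) :=
    le_normalizer_map _ ⟨g, hg, rfl⟩
  have h2 : (g : G) ∉ centralizer ((X.map H.subtype : Subgroup G) : Set G) := fun h =>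
    hn fun a ha => Subtype.ext (h a ⟨a, ha, rfl⟩)
  refine hc.2 _ _ ⟨hX.map _, hm.pe hpq (hX.map _) ?_ (by simpa using hcop) h1, h1, h2⟩
    (map_subtype_le X) g.2
  intro h
  rw [h] at h2
  exact h2 fun a ha => by rw [mem_bot.1 ha]; simp

omit [Finite G] in
theorem Good.exists_nc {Q : Subgroup G} {x : G} (g : Good p q Q x) : ∃ u ∈ Q, ¬ Commute x u := by
  by_contra h
  push Not at h
  exact g.nc fun u hu => (h u hu).symm

theorem Good.card_ge [Fact p.Prime] {Q : Subgroup G} {x : G} (g : Good p q Q x) : p + 1 ≤ Nat.card Q := by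
  obtain ⟨u, hu, h⟩ := g.exists_nc
  exact (gp g.pe g.norm hu h).1

omit [Finite G] in
theorem Good.conj {Q : Subgroup G} {x : G} (g : Good p q Q x) (a : G) :
    Good p q (MulAut.conj a • Q) (a * x * a⁻¹) :=
  ⟨H3.isPGroup_conj_smul g.two a, g.pe.conj a, by
    rw [H3.normalizer_conj_smul, H3.conj_mem_conj_smul]; exact g.norm, by
    rw [H3.centralizer_conj_smul, H3.conj_mem_conj_smul]; exact g.nc⟩

theorem Mx.nc [hp : Fact p.Prime] [hq : Fact q.Prime] (hm : Mx p q G) (hpq : p ≠ q) {H : Subgroup G}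
    (h : HasNormalPComplement q H) (hd : q ∣ Nat.card H) :
    ∃ K : Subgroup G, IsPGroup p K ∧ K ≤ H ∧ normalizer (H : Set G) ≤ normalizer (K : Set G) ∧
      (∀ y ∈ H, (orderOf y).Coprime q → y ∈ K) ∧ ∀ S, H3.SylowIn q S H → K ⊔ S = H := by
  obtain ⟨S, hS⟩ := H3.exists_sylowIn q H
  obtain ⟨K, h1, h2, h3, -, -, h4⟩ := hS.exists_complement h
  refine ⟨K, hm.pgroup hpq hS.isPGroup (fun h5 => hS.eq_bot_iff.1 h5 hd) h2
    (hS.le.trans (le_normalizer.trans h3)), h1, h3, fun y hy h5 => (h4 y hy).2 h5, fun S' hS' => ?_⟩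
  obtain ⟨K', h1', -, -, -, h5, h4'⟩ := hS'.exists_complement h
  have : K = K' := by
    ext y
    exact ⟨fun hy => (h4' y (h1 hy)).2 ((h4 y (h1 hy)).1 hy), fun hy => (h4 y (h1' hy)).2 ((h4' y (h1' hy)).1 hy)⟩
  rw [this, h5]

end Cfsg.Agent.H2.Mix
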