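import Cfsg.Agent.H2.Mix1
import Cfsg.Agent.BG.Rank

/-! The case `q = 2`, `p = |G|₂ - 1`, abelian Sylow `p`-subgroups: local facts. -/

namespace Cfsg.Agent.H2.Mix
open Subgroup
open scoped Pointwise

variable {G : Type*} [Group G] {p : ℕ}

/-- the hypotheses -/
structure Hyp (p : ℕ) (G : Type*) [Group G] : Prop where
  ne : p ≠ 2
  mix : Mx p 2 G
  ab : ∀ Y : Subgroup G, IsPGroup p Y → ∀ a ∈ Y, ∀ b ∈ Y, a * b = b * a
  bd : ∀ B : Subgroup G, IsPGroup 2 B → Nat.card B ≤ p + 1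

theorem Hyp.subgroup (h : Hyp p G) (H : Subgroup G) : Hyp p H where
  ne := h.ne
  mix := fun K h1 h2 => by
    rw [← card_map_of_injective (K := K) H.subtype_injective] at h2 ⊢
    exact h.mix _ (fun h3 => h1 (h3.of_equiv (K.equivMapOfInjective _ H.subtype_injective).symm)) h2
  ab := fun Y hY a ha b hb => Subtype.ext (h.ab _ (hY.map H.subtype) a ⟨a, ha, rfl⟩ b ⟨b, hb, rfl⟩)
  bd := fun B hB => by
    rw [← card_map_of_injective (K := B) H.subtype_injective]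
    exact h.bd _ (hB.map _)

variable [Finite G] [hp : Fact p.Prime] {Q : Subgroup G} {x : G}

omit [Finite G] in
theorem Hyp.cop (h : Hyp p G) : p.Coprime 2 := (Nat.coprime_primes hp.out Nat.prime_two).2 h.ne

omit [Finite G] in
theorem Hyp.eq_one (h : Hyp p G) {y : G} (hy : PE p y) (h2 : y ^ 2 = 1) : y = 1 :=
  hy.eq_one (pe_two h2) h.cop

theorem Hyp.gp1 (h : Hyp p G) (hQ : IsPGroup 2 Q) {y t : G} (hy : PE p y)
    (hn : y ∈ normalizer (Q : Set G)) (ht : t ∈ Q) (h1 : t ≠ 1) (hc : Commute y t) :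
    y ∈ centralizer (Q : Set G) := by
  intro u hu
  by_contra h2
  obtain ⟨i, hi⟩ := (gp hy hn hu fun h3 => h2 h3.symm).2 (h.bd Q hQ) t ht h1
  have h3 : u = t := by
    have h4 : u = (y ^ i)⁻¹ * t * y ^ i := by rw [hi]; group
    rw [h4, mul_assoc, ← (hc.pow_left i).eq]; group
  exact h2 (h3 ▸ hc.symm)

theorem Hyp.not_commute (h : Hyp p G) (g : Good p 2 Q x) {t : G} (ht : t ∈ Q) (h1 : t ≠ 1) :
    ¬ Commute x t := fun hc => g.nc (h.gp1 g.two g.pe g.norm ht h1 hc)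

theorem Hyp.trans (h : Hyp p G) (g : Good p 2 Q x) {t u : G} (ht : t ∈ Q) (h1 : t ≠ 1) (hu : u ∈ Q)
    (h2 : u ≠ 1) : ∃ i : ℕ, u = x ^ i * t * (x ^ i)⁻¹ :=
  (gp g.pe g.norm ht (h.not_commute g ht h1)).2 (h.bd Q g.two) u hu h2

theorem Hyp.le_of_mem (h : Hyp p G) (g : Good p 2 Q x) {N : Subgroup G} {w : G} (hw : w ∈ Q)
    (hwN : w ∈ N) (h1 : w ≠ 1) (hx : x ∈ normalizer (N : Set G)) : Q ≤ N := by
  intro t ht
  by_cases h2 : t = 1
  · exact h2 ▸ N.one_mem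
  obtain ⟨i, rfl⟩ := h.trans g hw h1 ht h2
  exact (mem_normalizer_iff.1 (pow_mem hx i) w).1 hwN

omit [Finite G] hp in
theorem Good.exists_comm (g : Good p 2 Q x) : ∃ u ∈ Q, u⁻¹ * (x * u * x⁻¹) ∈ Q ∧ u⁻¹ * (x * u * x⁻¹) ≠ 1 := by
  obtain ⟨u, hu, h⟩ := g.exists_nc
  refine ⟨u, hu, Q.mul_mem (Q.inv_mem hu) ((mem_normalizer_iff.1 g.norm u).1 hu), fun h1 => h ?_⟩
  have : x * u = u * (u⁻¹ * (x * u * x⁻¹)) * x := by group
  rw [Commute, SemiconjBy, this, h1, mul_one]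

theorem Hyp.le_of_norm (h : Hyp p G) (g : Good p 2 Q x) {N : Subgroup G} (hx : x ∈ N)
    (hQ : Q ≤ normalizer (N : Set G)) : Q ≤ N := by
  obtain ⟨u, hu, h1, h2⟩ := g.exists_comm
  refine h.le_of_mem g h1 ?_ h2 (le_normalizer hx)
  have h3 : u⁻¹ * x * u⁻¹⁻¹ ∈ N := (mem_normalizer_iff.1 (hQ (Q.inv_mem hu)) x).1 hx
  have h4 := N.mul_mem h3 (N.inv_mem hx)
  convert h4 using 1; group

theorem Hyp.not_p (h : Hyp p G) (g : Good p 2 Q x) {Y : Subgroup G} (hY : IsPGroup p Y) (hx : x ∈ Y)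
    (hQ : Q ≤ normalizer (Y : Set G)) : False := by
  obtain ⟨u, hu, h1⟩ := g.exists_nc
  have h2 := (pe_of_mem hY (h.le_of_norm g hx hQ hu)).eq_one (pe_of_mem g.two hu) h.cop
  exact h1 (h2 ▸ Commute.one_right x)

omit [Finite G] hp in
theorem Good.ne_bot (g : Good p 2 Q x) : Q ≠ ⊥ := by
  obtain ⟨u, hu, h1⟩ := g.exists_nc
  rintro rfl
  exact h1 ((mem_bot.1 hu) ▸ Commute.one_right x)

theorem Hyp.elem (h : Hyp p G) (g : Good p 2 Q x) :
    (∀ t ∈ Q, t ^ 2 = 1) ∧ ∀ a ∈ Q, ∀ b ∈ Q, a * b = b * a := by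
  have h1 := H2.inf_centralizer_ne_bot g.two.isNilpotent le_rfl le_normalizer g.ne_bot
  obtain ⟨z, hz⟩ := exists_prime_orderOf_dvd_card' 2 (dvd_card_of_ne_bot (g.two.to_le inf_le_left) h1)
  have hz1 : (z : G) ≠ 1 := fun h => by
    rw [show z = 1 from Subtype.ext h] at hz; simp at hz
  have hz2 : (z : G) ^ 2 = 1 := by
    rw [← hz, ← orderOf_coe, pow_orderOf_eq_one]
  constructor
  · intro t ht
    by_cases h2 : t = 1
    · simp [h2]
    obtain ⟨i, rfl⟩ := h.trans g z.2.1 hz1 ht h2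
    rw [conj_pow, hz2]; simp
  · have h2 := h.le_of_mem g (N := centralizer (Q : Set G)) z.2.1 z.2.2 hz1
      (H21.norm_le_norm_cent Q g.norm)
    exact fun a ha b hb => h2 hb a ha

theorem Hyp.max (h : Hyp p G) (g : Good p 2 Q x) {B : Subgroup G} (hB : IsPGroup 2 B) (hle : Q ≤ B) :
    B = Q := (eq_of_le_of_card_ge hle ((h.bd B hB).trans g.card_ge)).symm

theorem Hyp.sylowIn (h : Hyp p G) (g : Good p 2 Q x) {H : Subgroup G} (hH : Q ≤ H) : H3.SylowIn 2 Q H :=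
  H3.sylowIn_of_forall_eq g.two hH fun _ hR _ h1 => h.max g hR h1

theorem Hyp.mem_of_norm (h : Hyp p G) (g : Good p 2 Q x) {s : G} (hs : PE 2 s)
    (hn : s ∈ normalizer (Q : Set G)) : s ∈ Q :=
  h.max g (hs.zpowers.to_sup_of_normal_right' g.two (zpowers_le.2 hn)) le_sup_right ▸
    mem_sup_left (mem_zpowers s)

theorem Hyp.exists_ge (h : Hyp p G) (g : Good p 2 Q x) {B : Subgroup G} (hB : IsPGroup 2 B) :
    ∃ a : G, B ≤ MulAut.conj a • Q := by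
  obtain ⟨a, -, ha⟩ := (h.sylowIn g le_top).exists_conj_le hB le_top
  refine ⟨a⁻¹, fun b hb => ?_⟩
  rw [H3.mem_conj_smul, inv_inv]
  exact H3.conj_smul_le_iff.1 ha b hb

theorem Hyp.two_elem (h : Hyp p G) (g : Good p 2 Q x) {B : Subgroup G} (hB : IsPGroup 2 B) :
    (∀ t ∈ B, t ^ 2 = 1) ∧ ∀ a ∈ B, ∀ b ∈ B, a * b = b * a := by
  obtain ⟨a, ha⟩ := h.exists_ge g hB
  have h1 := h.elem (g.conj a)
  exact ⟨fun t ht => h1.1 t (ha ht), fun a ha' b hb => h1.2 a (ha ha') b (ha hb)⟩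

omit [Finite G] hp in
theorem Hyp.commute (h : Hyp p G) {y : G} {Y : Subgroup G} (hy : PE p y) (hY : IsPGroup p Y)
    (hn : y ∈ normalizer (Y : Set G)) : y ∈ centralizer (Y : Set G) := fun a ha =>
  h.ab _ (hy.zpowers.to_sup_of_normal_right' hY (zpowers_le.2 hn)) a (mem_sup_right ha) y
    (mem_sup_left (mem_zpowers y))

omit [Finite G] hp in
theorem two_dvd_card {H : Subgroup G} {t : G} (ht : t ∈ H) (h1 : t ≠ 1) (h2 : t ^ 2 = 1) :
    2 ∣ Nat.card H := orderOf_eq_prime h2 h1 ▸ orderOf_dvd_natCard H ht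

omit [Finite G] hp in
theorem mem_norm_zpowers {t d : G} (h2 : t ^ 2 = 1) (h : t * d * t⁻¹ = d ∨ t * d * t⁻¹ = d⁻¹) :
    t ∈ normalizer (zpowers d : Set G) := by
  have key : ∀ y ∈ zpowers d, t * y * t⁻¹ ∈ zpowers d := by
    rintro _ ⟨k, rfl⟩
    simp only
    rw [← conj_zpow]
    rcases h with h | h <;> rw [h]
    · exact zpow_mem_zpowers d k
    · exact zpow_mem (inv_mem (mem_zpowers d)) k
  rw [mem_normalizer_iff]
  intro y
  refine ⟨key y, fun hy => ?_⟩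
  have h3 := key _ hy
  have h4 : t * (t * y * t⁻¹) * t⁻¹ = t ^ 2 * y * (t ^ 2)⁻¹ := by rw [pow_two]; group
  rwa [h4, h2, one_mul, inv_one, mul_one] at h3

omit [Finite G] hp in
theorem inv_mul_invol {s t : G} (hs : s ^ 2 = 1) (ht : t ^ 2 = 1) : s * (s * t) * s⁻¹ = (s * t)⁻¹ := by
  have h1 : s⁻¹ = s := inv_eq_of_mul_eq_one_right (by rw [← pow_two, hs])
  have h2 : t⁻¹ = t := inv_eq_of_mul_eq_one_right (by rw [← pow_two, ht])
  rw [mul_inv_rev, h1, h2, ← mul_assoc, ← pow_two, hs, one_mul]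

/-- an element of odd order inverted by an involution is a `p`-element -/
theorem Hyp.pe_of_inv (h : Hyp p G) {t d : G} (h1 : t ≠ 1) (h2 : t ^ 2 = 1) (hd : (orderOf d).Coprime 2)
    (hi : t * d * t⁻¹ = d⁻¹) : PE p d :=
  pe_of_mem (h.mix.pgroup h.ne (pe_two h2).zpowers (by simpa using h1) (K := zpowers d)
    (by rwa [Nat.card_zpowers]) (zpowers_le.2 (mem_norm_zpowers h2 (Or.inr hi)))) (mem_zpowers d)

/-- if no involution inverts a nontrivial `p`-element, `Q` is normal -/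
theorem Hyp.finalA (h : Hyp p G) (g : Good p 2 Q x)
    (hn : ∀ t d : G, t ≠ 1 → t ^ 2 = 1 → PE p d → t * d * t⁻¹ = d⁻¹ → d = 1) :
    normalizer (Q : Set G) = ⊤ := by
  have key : ∀ s t : G, s ≠ 1 → s ^ 2 = 1 → t ^ 2 = 1 → s * t = t * s := by
    intro s t h1 hs ht
    obtain ⟨k, hk⟩ := H3.exists_pow_coprime_orderOf 2 (s * t)
    have h2 : s * (s * t) ^ 2 ^ k * s⁻¹ = ((s * t) ^ 2 ^ k)⁻¹ := by
      rw [← conj_pow, inv_mul_invol hs ht, inv_pow]
    have h3 : PE 2 (s * t) := ⟨k, hn s _ h1 hs (h.pe_of_inv h1 hs hk h2) h2⟩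
    have h4 := (h.two_elem g h3.zpowers).1 _ (mem_zpowers _)
    have h5 : (s * t)⁻¹ = s * t := inv_eq_of_mul_eq_one_right (by rw [← pow_two, h4])
    have h6 := inv_mul_invol hs ht
    rw [h5] at h6
    have h7 : s * t = s⁻¹ * (s * (s * t) * s⁻¹) * s := by group
    rw [h7, h6]; group
  refine eq_top_iff.2 fun a _ => H3.mem_normalizer_of_conj_mem fun t ht => ?_
  have h1 : (a * t * a⁻¹) ^ 2 = 1 := by rw [conj_pow, (h.elem g).1 t ht]; simp
  refine h.mem_of_norm g (pe_two h1) (centralizer_le_normalizer _ fun u hu => ?_)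
  by_cases h2 : u = 1
  · simp [h2]
  · exact key u _ h2 ((h.elem g).1 u hu) h1

end Cfsg.Agent.H2.Mix
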