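import Cfsg.Agent.H2.Mix2

/-! The minimal counterexample. -/

namespace Cfsg.Agent.H2.Mix
open Subgroup
open scoped Pointwise

variable {G : Type*} [Group G] {p : ℕ}

/-- the minimal counterexample -/
structure Ctx (p : ℕ) (G : Type*) [Group G] : Prop extends Hyp p G where
  ih : ∀ H : Subgroup G, H ≠ ⊤ → HasNormalPComplement 2 H ∨
    ∃ S, H3.SylowIn 2 S H ∧ H ≤ normalizer (S : Set G)
  nn : ∀ (Q : Subgroup G) (x : G), Good p 2 Q x → normalizer (Q : Set G) ≠ ⊤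

variable [Finite G] [hp : Fact p.Prime] {Q : Subgroup G} {x : G}

theorem Hyp.le_norm_of (h : Hyp p G) (g : Good p 2 Q x) {H S : Subgroup G} (hQ : Q ≤ H)
    (hS : H3.SylowIn 2 S H) (hn : H ≤ normalizer (S : Set G)) : H ≤ normalizer (Q : Set G) := by
  have h2 : S ≤ Q := (h.sylowIn g hQ).le_of_le_normalizer hS.isPGroup hS.le hn
  rwa [hS.eq_of_le g.two hQ h2]

theorem Hyp.two_dvd (_h : Hyp p G) (g : Good p 2 Q x) {H : Subgroup G} (hQ : Q ≤ H) : 2 ∣ Nat.card H :=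
  (dvd_card_of_ne_bot g.two g.ne_bot).trans (card_dvd_of_le hQ)

theorem Hyp.not_nc (h : Hyp p G) (g : Good p 2 Q x) {H : Subgroup G} (hQ : Q ≤ H) (hx : x ∈ H) :
    ¬ HasNormalPComplement 2 H := fun hc => by
  obtain ⟨K, h1, -, h2, h3, -⟩ := h.mix.nc h.ne hc (h.two_dvd g hQ)
  exact h.not_p g h1 (h3 x hx (g.pe.coprime h.cop)) (hQ.trans (le_normalizer.trans h2))

theorem Ctx.factM (c : Ctx p G) (g : Good p 2 Q x) {H : Subgroup G} (hH : H ≠ ⊤) (hQ : Q ≤ H)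
    (hx : x ∈ H) : H ≤ normalizer (Q : Set G) := by
  obtain ⟨S, hS, hn⟩ := (c.ih H hH).resolve_left (c.not_nc g hQ hx)
  exact c.le_norm_of g hQ hS hn

theorem Ctx.not_normal (c : Ctx p G) (g : Good p 2 Q x) {N : Subgroup G} [N.Normal] (hQ : Q ≤ N)
    (hn : N ≤ normalizer (Q : Set G)) : False := by
  refine c.nn Q x g (eq_top_iff.2 fun a _ => ?_)
  obtain ⟨n, hn', m, hm, rfl⟩ := (c.sylowIn g hQ).frattini (g := a) (H2.le_normalizer_of_normal' N ⊤ trivial)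
  exact mul_mem (hn hn') hm

theorem Ctx.central (c : Ctx p G) (g : Good p 2 Q x) {Y : Subgroup G} [Y.Normal] (hY : IsPGroup p Y) :
    centralizer (Y : Set G) = ⊤ := by
  by_contra h1
  have h2 : x ∈ centralizer (Y : Set G) := c.commute g.pe hY (H2.le_normalizer_of_normal' Y ⊤ trivial)
  have h3 : Q ≤ centralizer (Y : Set G) := c.le_of_norm g h2 (H2.le_normalizer_of_normal' _ _)
  exact c.not_normal g h3 (c.factM g h1 h3 h2)

theorem Ctx.step1 (c : Ctx p G) (g : Good p 2 Q x) {Y : Subgroup G} (hY : IsPGroup p Y) (h1 : Y ≠ ⊥) :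
    normalizer (Y : Set G) ≠ ⊤ := by
  intro hN
  haveI := normalizer_eq_top_iff.1 hN
  have h2 := c.central g hY
  obtain ⟨P, hP⟩ := hY.exists_le_sylow
  have h3 := H3.inf_commutator_inf_center_eq_bot (P : Subgroup G)
    (H2.isMulCommutative_of_forall (c.ab _ P.isPGroup')) P.card_coprime_index
  have h4 : commutator G ≠ ⊤ := by
    intro h4
    refine h1 (eq_bot_iff.2 fun y hy => h3.le ⟨⟨hP hy, h4 ▸ mem_top y⟩, ?_⟩)
    exact mem_center_iff.2 fun a => ((h2.ge (mem_top a)) y hy).symm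
  have h5 : Q ≤ commutator G := by
    obtain ⟨u, hu, h5, h6⟩ := g.exists_comm
    exact c.le_of_mem g h5 (H3.commutator_mem_of_mem (mem_top u) (mem_top x)) h6
      (H2.le_normalizer_of_normal' _ ⊤ trivial)
  refine c.not_normal g h5 ?_
  rcases c.ih _ h4 with h6 | ⟨S, hS, hn⟩
  · obtain ⟨K, k1, -, k2, -, k3⟩ := c.mix.nc c.ne h6 (c.two_dvd g h5)
    haveI : K.Normal := H2.normal_of_top_le_normalizer ((H2.le_normalizer_of_normal' _ ⊤).trans k2)
    rw [← k3 Q (c.sylowIn g h5)]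
    refine sup_le (le_trans ?_ (centralizer_le_normalizer _)) le_normalizer
    exact le_centralizer_iff.1 ((c.central g k1).ge.trans' le_top)
  · exact c.le_norm_of g h5 hS hn

theorem Ctx.norm_ne (c : Ctx p G) (g : Good p 2 Q x) {y : G} (hy : PE p y) (h1 : y ≠ 1) :
    normalizer (zpowers y : Set G) ≠ ⊤ := c.step1 g hy.zpowers (by simpa using h1)

omit [Finite G] hp in
theorem mem_cz {y a : G} : a ∈ centralizer (zpowers y : Set G) ↔ Commute a y :=
  ⟨fun h => (h y (mem_zpowers y)).symm, fun h => by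
    rintro _ ⟨k, rfl⟩
    exact (h.zpow_right k).symm⟩

/-- a good pair in the normalizer of `⟨y⟩` centralizes `y` -/
theorem Hyp.le_cz (h : Hyp p G) (g : Good p 2 Q x) {y : G} (hy : PE p y)
    (hQ : Q ≤ normalizer (zpowers y : Set G)) (hx : x ∈ normalizer (zpowers y : Set G)) :
    Q ≤ centralizer (zpowers y : Set G) :=
  h.le_of_norm g (h.commute g.pe hy.zpowers hx) (H21.norm_cent hQ)

/-- the centralizer of an involution has a normal `2`-complement -/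
theorem Ctx.nc_cent (c : Ctx p G) (g : Good p 2 Q x) {t : G} (h1 : t ≠ 1) (h2 : t ^ 2 = 1) :
    ∃ K : Subgroup G, IsPGroup p K ∧ centralizer (zpowers t : Set G) ≤ normalizer (K : Set G) ∧
      ∀ y, Commute y t → (orderOf y).Coprime 2 → y ∈ K := by
  have hne : centralizer (zpowers t : Set G) ≠ ⊤ := by
    intro h
    have h3 : t ∈ Q := c.mem_of_norm g (pe_two h2) (centralizer_le_normalizer _ fun u _ =>
      (mem_cz.1 (h.ge (mem_top u))).eq)
    exact c.not_commute g h3 h1 (mem_cz.1 (h.ge (mem_top x)))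
  rcases c.mix.dich c.ne (centralizer (zpowers t : Set G)) with h3 | ⟨Q', x', g', h3, h4⟩
  · obtain ⟨K, k1, -, k2, k3, -⟩ := c.mix.nc c.ne h3 (two_dvd_card (mem_cz.2 (Commute.refl t)) h1 h2)
    exact ⟨K, k1, le_normalizer.trans k2, fun y hy h => k3 y (mem_cz.2 hy) h⟩
  · have h5 : t ∈ Q' := c.mem_of_norm g' (pe_two h2) (c.factM g' hne h3 h4 (mem_cz.2 (Commute.refl t)))
    exact absurd (mem_cz.1 h4) (c.not_commute g' h5 h1)

/-- `P` is the unique Sylow `p`-subgroup containing `y` -/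
def Uq (p : ℕ) (y : G) (P : Subgroup G) : Prop :=
  IsPGroup p P ∧ normalizer (zpowers y : Set G) ≤ normalizer (P : Set G) ∧
    ∀ Y : Subgroup G, IsPGroup p Y → y ∈ Y → Y ≤ P

theorem Hyp.uq_of_nc (h : Hyp p G) {y t : G} (h1 : t ≠ 1) (h2 : t ^ 2 = 1)
    (ht : t ∈ normalizer (zpowers y : Set G)) (hc : HasNormalPComplement 2 (normalizer (zpowers y : Set G))) :
    ∃ P, Uq p y P := by
  obtain ⟨K, k1, -, k2, k3, -⟩ := h.mix.nc h.ne hc (two_dvd_card ht h1 h2)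
  exact ⟨K, k1, le_normalizer.trans k2, fun Y hY hy a ha => k3 a
    (centralizer_le_normalizer _ (mem_cz.2 (h.ab Y hY a ha y hy))) ((pe_of_mem hY ha).coprime h.cop)⟩

omit [Finite G] hp in
theorem Uq.eq_sylow {y : G} {K : Subgroup G} (u : Uq p y K) (P : Sylow p G) (hy : y ∈ (P : Subgroup G)) :
    K = P := P.is_maximal' u.1 (u.2.2 _ P.isPGroup' hy)

omit [Finite G] hp in
theorem Uq.sylow_eq {y : G} {K : Subgroup G} (u : Uq p y K) {P P' : Sylow p G} (hy : y ∈ (P : Subgroup G))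
    (hy' : y ∈ (P' : Subgroup G)) : P = P' := Sylow.ext ((u.eq_sylow P hy).symm.trans (u.eq_sylow P' hy'))

/-- an element inverted by an involution lies in a unique Sylow subgroup -/
theorem Ctx.uq_of_inv (c : Ctx p G) (g : Good p 2 Q x) {d t : G} (h1 : t ≠ 1) (h2 : t ^ 2 = 1)
    (hd : PE p d) (hd1 : d ≠ 1) (hi : t * d * t⁻¹ = d⁻¹) : ∃ P, Uq p d P := by
  have ht := mem_norm_zpowers h2 (Or.inr hi)
  rcases c.mix.dich c.ne (normalizer (zpowers d : Set G)) with h3 | ⟨Q', x', g', h3, h4⟩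
  · exact c.uq_of_nc h1 h2 ht h3
  · have h5 : t ∈ Q' := c.mem_of_norm g' (pe_two h2) (c.factM g' (c.norm_ne g hd hd1) h3 h4 ht)
    have h6 := mem_cz.1 (c.le_cz g' hd h3 h4 h5)
    rw [h6.eq, mul_inv_cancel_right] at hi
    exact absurd (c.eq_one hd (by rw [pow_two]; nth_rewrite 2 [hi]; simp)) hd1

/-! ### the case where a `p`-element centralizes `Q` -/

theorem Ctx.claim1 (c : Ctx p G) (g : Good p 2 Q x) {y : G} (hy : PE p y) (h1 : y ≠ 1)
    (hc : y ∈ centralizer (Q : Set G)) : normalizer (zpowers y : Set G) ≤ normalizer (Q : Set G) := by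
  have h2 : Q ≤ centralizer (Q : Set G) := fun a ha b hb => (c.elem g).2 b hb a ha
  obtain ⟨K, k1, -, k2, k3, -⟩ := c.mix.nc c.ne
    ((c.sylowIn g h2).hasNormalPComplement_of_le_centralizer (le_centralizer_iff.1 le_rfl)) (c.two_dvd g h2)
  have h3 := c.commute g.pe k1 (k2 (H21.norm_le_norm_cent Q g.norm)) y (k3 y hc (hy.coprime c.cop))
  exact c.factM g (c.norm_ne g hy h1) (fun a ha => centralizer_le_normalizer _ (mem_cz.2 (hc a ha)))
    (centralizer_le_normalizer _ (mem_cz.2 h3.symm))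

theorem Ctx.claim2 (c : Ctx p G) (g : Good p 2 Q x) {y₀ y t : G} (hy₀ : PE p y₀) (h1 : y₀ ≠ 1)
    (hc : y₀ ∈ centralizer (Q : Set G)) (ht : t ∈ Q) (ht1 : t ≠ 1) (hy : PE p y) (hyt : Commute y t) :
    y ∈ centralizer (Q : Set G) := by
  obtain ⟨K, k1, -, k2⟩ := c.nc_cent g ht1 ((c.elem g).1 t ht)
  have h2 := c.ab K k1 y (k2 y hyt (hy.coprime c.cop)) y₀ (k2 y₀ (hc t ht).symm (hy₀.coprime c.cop))
  exact c.gp1 g.two hy (c.claim1 g hy₀ h1 hc (centralizer_le_normalizer _ (mem_cz.2 h2))) ht ht1 hyt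

theorem Ctx.caseU (c : Ctx p G) (g : Good p 2 Q x) {y₀ : G} (hy₀ : PE p y₀) (h1 : y₀ ≠ 1)
    (hc : y₀ ∈ centralizer (Q : Set G)) : False := by
  refine c.nn Q x g (c.finalA g fun t d ht1 ht2 hd hi => ?_)
  by_contra hd1
  have hcj : ∀ a : G, a * y₀ * a⁻¹ ∈ centralizer ((MulAut.conj a • Q : Subgroup G) : Set G) := fun a => by
    rw [H3.centralizer_conj_smul, H3.conj_mem_conj_smul]; exact hc
  have hcj1 : ∀ a : G, a * y₀ * a⁻¹ ≠ 1 := fun a => by simpa using h1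
  obtain ⟨K, u⟩ := c.uq_of_inv g ht1 ht2 hd hd1 hi
  obtain ⟨P, hP⟩ := hd.zpowers.exists_le_sylow
  have hdP : d ∈ (P : Subgroup G) := hP (mem_zpowers d)
  have htP : t ∈ normalizer ((P : Subgroup G) : Set G) :=
    u.eq_sylow P hdP ▸ u.2.1 (mem_norm_zpowers ht2 (Or.inr hi))
  obtain ⟨a, ha⟩ := c.exists_ge g (pe_two ht2).zpowers
  have hta : t ∈ MulAut.conj a • Q := ha (mem_zpowers t)
  obtain ⟨b, -, hb⟩ := (H3.sylowIn_top P).exists_conj_le hy₀.zpowers le_top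
  have hbP : b * y₀ * b⁻¹ ∈ (P : Subgroup G) := H3.conj_smul_le_iff.1 hb y₀ (mem_zpowers y₀)
  set y₁ := b * y₀ * b⁻¹ with hy₁
  have h2 : t * y₁ * t⁻¹ ∈ (P : Subgroup G) := (mem_normalizer_iff.1 htP y₁).1 hbP
  have ht : t⁻¹ = t := inv_eq_of_mul_eq_one_right (by rw [← pow_two, ht2])
  have htt : t * t = 1 := by rw [← pow_two, ht2]
  by_cases h3 : y₁ * (t * y₁ * t⁻¹) = 1
  · have h4 : t * y₁ * t⁻¹ = y₁⁻¹ := eq_inv_of_mul_eq_one_right h3
    have h5 : t ∈ MulAut.conj b • Q := c.mem_of_norm (g.conj b) (pe_two ht2)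
      (c.claim1 (g.conj b) (hy₀.conj b) (hcj1 b) (hcj b) (mem_norm_zpowers ht2 (Or.inr h4)))
    have h6 : t * y₁ = y₁ * t := hcj b t h5
    rw [h6, mul_inv_cancel_right] at h4
    exact hcj1 b (c.eq_one (hy₀.conj b) (by rw [pow_two]; exact mul_eq_one_iff_eq_inv.2 h4))
  have h4 : y₁ * (t * y₁ * t⁻¹) ∈ (P : Subgroup G) := mul_mem hbP h2
  have h5 : Commute (y₁ * (t * y₁ * t⁻¹)) t := by
    have h6 := c.ab _ P.isPGroup' _ hbP _ h2
    have h7 : t * (y₁ * (t * y₁ * t⁻¹)) = (t * y₁ * t⁻¹) * ((t * t) * y₁) * t⁻¹ := by group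
    rw [Commute, SemiconjBy, h7, htt, one_mul, ← h6, ht]
  have h6 := c.claim2 (g.conj a) (hy₀.conj a) (hcj1 a) (hcj a) hta ht1 (pe_of_mem P.isPGroup' h4) h5
  have h7 := c.claim1 (g.conj a) (pe_of_mem P.isPGroup' h4) h3 h6
    (centralizer_le_normalizer _ (mem_cz.2 (c.ab _ P.isPGroup' d hdP _ h4)))
  have h8 : d * t * d⁻¹ * t⁻¹ ∈ MulAut.conj a • Q :=
    mul_mem ((mem_normalizer_iff.1 h7 t).1 hta) (inv_mem hta)
  have h9 : d * t * d⁻¹ * t⁻¹ = d ^ 2 := by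
    have : d * t * d⁻¹ * t⁻¹ = d * (t * d * t⁻¹)⁻¹ := by group
    rw [this, hi, inv_inv, pow_two]
  rw [h9] at h8
  exact hd1 (c.eq_one hd ((hd.pow 2).eq_one (pe_of_mem (g.conj a).two h8) c.cop))

end Cfsg.Agent.H2.Mix
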