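import Cfsg.Agent.H2.Mix3
import Cfsg.Agent.H2.Lin1

/-! The minimal counterexample, continued. -/

namespace Cfsg.Agent.H2.Mix
open Subgroup
open scoped Pointwise

variable {G : Type*} [Group G] {p : ℕ}

/-- no `p`-element centralizes a good `Q` -/
def NoU (p : ℕ) (G : Type*) [Group G] : Prop :=
  ∀ (Q : Subgroup G) (x y : G), Good p 2 Q x → PE p y → y ∈ centralizer (Q : Set G) → y = 1

variable [Finite G] [hp : Fact p.Prime] {Q : Subgroup G} {x : G}

theorem Ctx.noU (c : Ctx p G) : NoU p G := fun _ _ _ g hy hc => by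
  by_contra h1
  exact c.caseU g hy h1 hc

theorem Ctx.uq_of_cent (c : Ctx p G) {y t : G} (h1 : t ≠ 1) (h2 : t ^ 2 = 1)
    (hy : PE p y) (hy1 : y ≠ 1) (hc : Commute y t) : ∃ P, Uq p y P := by
  have ht : t ∈ normalizer (zpowers y : Set G) := centralizer_le_normalizer _ (mem_cz.2 hc.symm)
  rcases c.mix.dich c.ne (normalizer (zpowers y : Set G)) with h3 | ⟨Q', x', g', h3, h4⟩
  · exact c.uq_of_nc h1 h2 ht h3
  · exact absurd (c.noU Q' x' y g' hy fun a ha => (mem_cz.1 (c.le_cz g' hy h3 h4 ha)).eq) hy1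

omit [Finite G] hp in
theorem mem_norm_sylow {P : Sylow p G} {a : G} (h : a • P = P) :
    a ∈ normalizer ((P : Subgroup G) : Set G) := Sylow.smul_eq_iff_mem_normalizer.1 h

omit [Finite G] hp in
theorem conj_mem_smul {P : Sylow p G} {a y : G} (h : y ∈ (P : Subgroup G)) :
    a * y * a⁻¹ ∈ ((a • P : Sylow p G) : Subgroup G) := by
  rw [Sylow.coe_subgroup_smul, H3.conj_mem_conj_smul]; exact h

/-- two `p`-elements centralizing the same involution lie in the same Sylow subgroup -/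
theorem Ctx.same (c : Ctx p G) (g : Good p 2 Q x) {t y z : G} (h1 : t ≠ 1) (h2 : t ^ 2 = 1)
    {P P' : Sylow p G} (hy : y ∈ (P : Subgroup G)) (hy1 : y ≠ 1) (hyt : Commute y t)
    (hz : z ∈ (P' : Subgroup G)) (hz1 : z ≠ 1) (hzt : Commute z t) : P = P' := by
  obtain ⟨K, k1, -, k2⟩ := c.nc_cent g h1 h2
  obtain ⟨R, hR⟩ := k1.exists_le_sylow
  have hy' := pe_of_mem P.isPGroup' hy
  have hz' := pe_of_mem P'.isPGroup' hz
  obtain ⟨_, u⟩ := c.uq_of_cent h1 h2 hy' hy1 hyt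
  obtain ⟨_, u'⟩ := c.uq_of_cent h1 h2 hz' hz1 hzt
  exact (u.sylow_eq hy (hR (k2 y hyt (hy'.coprime c.cop)))).trans
    (u'.sylow_eq (hR (k2 z hzt (hz'.coprime c.cop))) hz)

theorem Ctx.s1 (c : Ctx p G) (g : Good p 2 Q x) {t y a : G} (h1 : t ≠ 1) (h2 : t ^ 2 = 1)
    {P : Sylow p G} (hy : y ∈ (P : Subgroup G)) (hy1 : y ≠ 1) (hyt : Commute y t) (ha : Commute a t) :
    a ∈ normalizer ((P : Subgroup G) : Set G) :=
  mem_norm_sylow (c.same g h1 h2 (conj_mem_smul hy) (by simpa using hy1)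
    ((ha.mul_left hyt).mul_left ha.inv_left) hy hy1 hyt)

theorem Ctx.s2 (c : Ctx p G) (g : Good p 2 Q x) {t s y z : G} (h1 : t ≠ 1) (h2 : t ^ 2 = 1)
    (hs1 : s ≠ 1) (hs2 : s ^ 2 = 1) (hst : Commute s t) (hne : s ≠ t)
    {P : Sylow p G} (hy : y ∈ (P : Subgroup G)) (hy1 : y ≠ 1) (hyt : Commute y t)
    (hz : z ∈ (P : Subgroup G)) (hzs : Commute z s) : z = 1 := by
  by_contra hz1
  obtain ⟨b, hb⟩ := c.exists_ge g ((pe_two hs2).zpowers.to_sup_of_normal_right' (pe_two h2).zpowers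
    (zpowers_le.2 (centralizer_le_normalizer _ (mem_cz.2 hst))))
  have ht := hb (mem_sup_right (mem_zpowers t))
  have hs := hb (mem_sup_left (mem_zpowers s))
  have g' := g.conj b
  obtain ⟨i, hi⟩ := c.trans g' ht h1 hs hs1
  set a := (b * x * b⁻¹) ^ i with ha
  have h3 : a • P = P := c.same g hs1 hs2 (conj_mem_smul hy) (by simpa using hy1) (by
    rw [hi, Commute, SemiconjBy]
    have : a * y * a⁻¹ * (a * t * a⁻¹) = a * (y * t) * a⁻¹ := by group
    rw [this, hyt.eq]; group) hz hz1 hzs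
  have h4 : a ∈ (P : Subgroup G) := P.is_maximal' ((g'.pe.pow i).zpowers.to_sup_of_normal_right'
    P.isPGroup' (zpowers_le.2 (mem_norm_sylow h3))) le_sup_right ▸ mem_sup_left (mem_zpowers a)
  refine c.not_p (x := a) ⟨g'.two, g'.pe.pow i, pow_mem g'.norm i, fun h => hne ?_⟩ P.isPGroup' h4
    fun u hu => c.s1 g h1 h2 hy hy1 hyt ((c.elem g').2 u hu t ht)
  rw [hi, ← h t ht, mul_inv_cancel_right]

theorem Ctx.s3 (c : Ctx p G) (g : Good p 2 Q x) {t s y z : G} (h1 : t ≠ 1) (h2 : t ^ 2 = 1)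
    (hs1 : s ≠ 1) (hs2 : s ^ 2 = 1) (hst : Commute s t) (hne : s ≠ t)
    {P : Sylow p G} (hy : y ∈ (P : Subgroup G)) (hy1 : y ≠ 1) (hyt : Commute y t)
    (hz : z ∈ (P : Subgroup G)) : s * z * s⁻¹ = z⁻¹ := by
  have h3 : s * z * s⁻¹ ∈ (P : Subgroup G) := (mem_normalizer_iff.1 (c.s1 g h1 h2 hy hy1 hyt hst) z).1 hz
  refine eq_inv_of_mul_eq_one_right (c.s2 g h1 h2 hs1 hs2 hst hne hy hy1 hyt (mul_mem hz h3) ?_)
  have ht : s⁻¹ = s := inv_eq_of_mul_eq_one_right (by rw [← pow_two, hs2])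
  have htt : s * s = 1 := by rw [← pow_two, hs2]
  have h6 := c.ab _ P.isPGroup' _ hz _ h3
  have h7 : s * (z * (s * z * s⁻¹)) = (s * z * s⁻¹) * ((s * s) * z) * s⁻¹ := by group
  rw [Commute, SemiconjBy, h7, htt, one_mul, ← h6, ht]

theorem Ctx.s4 (c : Ctx p G) (g : Good p 2 Q x) {t y z : G} (h1 : t ≠ 1) (h2 : t ^ 2 = 1)
    {P : Sylow p G} (hy : y ∈ (P : Subgroup G)) (hy1 : y ≠ 1) (hyt : Commute y t)
    (hz : z ∈ (P : Subgroup G)) : Commute z t := by
  obtain ⟨b, hb⟩ := c.exists_ge g (pe_two h2).zpowers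
  have ht := hb (mem_zpowers t)
  have g' := g.conj b
  set a := b * x * b⁻¹
  have hs : a * t * a⁻¹ ∈ MulAut.conj b • Q := (mem_normalizer_iff.1 g'.norm t).1 ht
  have hne : a * t * a⁻¹ ≠ t := fun h => c.not_commute g' ht h1 (mul_inv_eq_iff_eq_mul.1 h)
  have hs1 : a * t * a⁻¹ ≠ 1 := by simpa using h1
  set s := a * t * a⁻¹
  have h3 := c.s3 g h1 h2 hs1 ((c.elem g').1 s hs) ((c.elem g').2 s hs t ht) hne hy hy1 hyt hz
  have h4 := c.s3 g h1 h2 (s := s * t) (fun h => hne ((eq_inv_of_mul_eq_one_left h).trans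
    (inv_eq_of_mul_eq_one_right (by rw [← pow_two, h2])))) ((c.elem g').1 _ (mul_mem hs ht))
    ((c.elem g').2 _ (mul_mem hs ht) t ht) (by simpa using hs1) hy hy1 hyt hz
  rw [← h3] at h4
  have h5 : t * z = s⁻¹ * (s * t * z * (s * t)⁻¹) * s * t := by group
  rw [Commute, SemiconjBy, h5, h4]; group

theorem Ctx.s5 (c : Ctx p G) (g : Good p 2 Q x) {t y d : G} (h1 : t ≠ 1) (h2 : t ^ 2 = 1)
    (hy : PE p y) (hy1 : y ≠ 1) (hyt : Commute y t) (hd : PE p d) :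
    ∃ u : G, u ≠ 1 ∧ u ^ 2 = 1 ∧ Commute d u := by
  obtain ⟨P, hP⟩ := hy.zpowers.exists_le_sylow
  obtain ⟨b, -, hb⟩ := (H3.sylowIn_top P).exists_conj_le hd.zpowers le_top
  have h3 := c.s4 g h1 h2 (hP (mem_zpowers y)) hy1 hyt (H3.conj_smul_le_iff.1 hb d (mem_zpowers d))
  refine ⟨b⁻¹ * t * b⁻¹⁻¹, fun h => h1 ?_, by rw [conj_pow, h2]; simp, ?_⟩
  · have : t = b * (b⁻¹ * t * b⁻¹⁻¹) * b⁻¹ := by group
    rw [this, h]; simp
  · have h4 : d * (b⁻¹ * t * b⁻¹⁻¹) = b⁻¹ * (b * d * b⁻¹ * t) * b := by group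
    rw [Commute, SemiconjBy, h4, h3.eq]; group

omit hp in
theorem exists_invol_of_even {s t : G} (hs : s ^ 2 = 1) (ht : t ^ 2 = 1) (h : 2 ∣ orderOf (s * t)) :
    ∃ u : G, u ≠ 1 ∧ u ^ 2 = 1 ∧ Commute u s ∧ Commute u t := by
  have h1 : orderOf ((s * t) ^ (orderOf (s * t) / 2)) = 2 := orderOf_pow_orderOf_div (orderOf_pos _).ne' h
  set u := (s * t) ^ (orderOf (s * t) / 2) with hu
  have h2 : u ^ 2 = 1 := by rw [← h1, pow_orderOf_eq_one]
  have h3 : s * u * s⁻¹ = u := by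
    rw [hu, ← conj_pow, inv_mul_invol hs ht, inv_pow, ← hu]
    exact inv_eq_of_mul_eq_one_right (by rw [← pow_two, h2])
  have h4 : Commute u s := (mul_inv_eq_iff_eq_mul.1 h3).symm
  refine ⟨u, fun h => by simp [h] at h1, h2, h4, ?_⟩
  have h5 : Commute u (s⁻¹ * (s * t)) := h4.inv_right.mul_right ((Commute.refl _).pow_left _)
  simpa using h5

theorem Ctx.finalB (c : Ctx p G) (g : Good p 2 Q x) {t y : G} (h1 : t ≠ 1) (h2 : t ^ 2 = 1)
    (hy : PE p y) (hy1 : y ≠ 1) (hyt : Commute y t) : False := by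
  obtain ⟨z, hz1, hz2, hzx⟩ := c.s5 g h1 h2 hy hy1 hyt g.pe
  obtain ⟨w, hw, hw1⟩ := (bot_or_exists_ne_one Q).resolve_left g.ne_bot
  have hw2 := (c.elem g).1 w hw
  have hx1 : x ≠ 1 := fun h => g.nc (h ▸ one_mem _)
  have hzw : ¬ Commute z w := fun h => by
    have h3 : z ∈ Q := c.mem_of_norm g (pe_two hz2) (centralizer_le_normalizer _ fun u hu => by
      by_cases h4 : u = 1
      · simp [h4]
      obtain ⟨i, rfl⟩ := c.trans g hw hw1 hu h4
      exact (((hzx.pow_left i).mul_left h.symm).mul_left (hzx.pow_left i).inv_left).eq)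
    exact c.not_commute g h3 hz1 hzx
  obtain ⟨u, hu1, hu2, huz, huw⟩ : ∃ u : G, u ≠ 1 ∧ u ^ 2 = 1 ∧ Commute u z ∧ Commute u w := by
    by_cases h3 : 2 ∣ orderOf (z * w)
    · exact exists_invol_of_even hz2 hw2 h3
    have hi := inv_mul_invol hz2 hw2
    have hd := c.pe_of_inv hz1 hz2 ((Nat.coprime_comm.1 ((Nat.Prime.coprime_iff_not_dvd Nat.prime_two).2 h3))) hi
    obtain ⟨v, hv1, hv2, hvd⟩ := c.s5 g h1 h2 hy hy1 hyt hd
    obtain ⟨S, hS, hzS⟩ := H3.exists_sylowIn_le (pe_two hz2).zpowers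
      (zpowers_le.2 (mem_norm_zpowers hz2 (Or.inr hi)))
    have h4 := hS.inf_of_le_normalizer (centralizer_le_normalizer (zpowers (z * w) : Set G))
      (H21.norm_le_norm_cent _)
    obtain ⟨u, hu, hu1⟩ := (bot_or_exists_ne_one _).resolve_left
      fun h => h4.eq_bot_iff.1 h (two_dvd_card (mem_cz.2 hvd.symm) hv1 hv2)
    have h5 := c.two_elem g hS.isPGroup
    have h6 : Commute u z := h5.2 u hu.1 z (hzS (mem_zpowers z))
    refine ⟨u, hu1, h5.1 u hu.1, h6, ?_⟩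
    have h7 : Commute u (z⁻¹ * (z * w)) := h6.inv_right.mul_right (mem_cz.1 hu.2)
    simpa using h7
  obtain ⟨P, hP⟩ := g.pe.zpowers.exists_le_sylow
  have h3 := c.s3 g hz1 hz2 hu1 hu2 huz (fun h => hzw (h ▸ huw)) (hP (mem_zpowers x)) hx1 hzx
    (hP (mem_zpowers x))
  have h4 : u ∈ Q := c.mem_of_norm g (pe_two hu2) (H3.mem_normalizer_of_conj_mem fun a ha => by
    by_cases h4 : a = 1
    · simp [h4]
    obtain ⟨i, rfl⟩ := c.trans g hw hw1 ha h4
    have h5 : u * (x ^ i * w * (x ^ i)⁻¹) * u⁻¹ =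
      (u * x * u⁻¹) ^ i * (u * w * u⁻¹) * ((u * x * u⁻¹) ^ i)⁻¹ := by rw [conj_pow]; group
    rw [h5, h3, huw.eq, mul_inv_cancel_right]
    exact (mem_normalizer_iff.1 (pow_mem (inv_mem g.norm) i) w).1 hw)
  have h5 : x * u * x⁻¹ * u⁻¹ ∈ Q := mul_mem ((mem_normalizer_iff.1 g.norm u).1 h4) (inv_mem h4)
  have h6 : x * u * x⁻¹ * u⁻¹ = x ^ 2 := by
    have : x * u * x⁻¹ * u⁻¹ = x * (u * x * u⁻¹)⁻¹ := by group
    rw [this, h3, inv_inv, pow_two]
  rw [h6] at h5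
  exact hx1 (c.eq_one g.pe ((g.pe.pow 2).eq_one (pe_of_mem g.two h5) c.cop))

theorem Ctx.finalC (c : Ctx p G) (g : Good p 2 Q x)
    (hf : ∀ t y : G, t ≠ 1 → t ^ 2 = 1 → PE p y → Commute y t → y = 1) : False := by
  refine c.nn Q x g (c.finalA g fun t d ht1 ht2 hd hi => ?_)
  by_contra hd1
  obtain ⟨b, hb⟩ := c.exists_ge g (pe_two ht2).zpowers
  have ht := hb (mem_zpowers t)
  have g' := g.conj b
  generalize MulAut.conj b • Q = Q' at ht g'
  generalize b * x * b⁻¹ = x' at g'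
  clear hb b
  have hel := c.elem g'
  have inv2 : ∀ s : G, s ^ 2 = 1 → s⁻¹ = s := fun s hs => inv_eq_of_mul_eq_one_right (by rw [← pow_two, hs])
  -- centralizers of involutions
  have hC : ∀ s ∈ Q', s ≠ 1 → ∀ a, Commute a s → a ∈ Q' := by
    intro s hs hs1 a ha
    have h1 : IsPGroup 2 (centralizer (zpowers s : Set G)) := by
      intro e
      obtain ⟨k, hk⟩ := H3.exists_pow_coprime_orderOf 2 (e : G)
      have h2 : Commute ((e : G) ^ 2 ^ k) s := (mem_cz.1 e.2).pow_left _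
      refine ⟨k, Subtype.ext (hf s _ hs1 (hel.1 s hs) (c.mix.pe c.ne (pe_two (hel.1 s hs)).zpowers
        (by simpa using hs1) hk (centralizer_le_normalizer _ (mem_cz.2 h2))) h2)⟩
    exact c.max g' h1 (fun a ha => mem_cz.2 (hel.2 a ha s hs)) ▸ mem_cz.2 ha
  obtain ⟨P, hP⟩ := hd.zpowers.exists_le_sylow
  have hdP : d ∈ (P : Subgroup G) := hP (mem_zpowers d)
  have hN : ∀ (s e : G) (R : Sylow p G), s ≠ 1 → s ^ 2 = 1 → e ∈ (R : Subgroup G) → e ≠ 1 →
      s * e * s⁻¹ = e⁻¹ → s ∈ normalizer ((R : Subgroup G) : Set G) := by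
    intro s e R h1 h2 he he1 h3
    obtain ⟨K, u⟩ := c.uq_of_inv g h1 h2 (pe_of_mem R.isPGroup' he) he1 h3
    exact u.eq_sylow R he ▸ u.2.1 (mem_norm_zpowers h2 (Or.inr h3))
  have hI : ∀ s : G, s ≠ 1 → s ^ 2 = 1 → s ∈ normalizer ((P : Subgroup G) : Set G) →
      ∀ z ∈ (P : Subgroup G), s * z * s⁻¹ = z⁻¹ := by
    intro s h1 h2 h3 z hz
    have h4 : s * z * s⁻¹ ∈ (P : Subgroup G) := (mem_normalizer_iff.1 h3 z).1 hz
    refine eq_inv_of_mul_eq_one_right (hf s _ h1 h2 (pe_of_mem P.isPGroup' (mul_mem hz h4)) ?_)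
    have htt : s * s = 1 := by rw [← pow_two, h2]
    have h6 := c.ab _ P.isPGroup' _ hz _ h4
    have h7 : s * (z * (s * z * s⁻¹)) = (s * z * s⁻¹) * ((s * s) * z) * s⁻¹ := by group
    rw [Commute, SemiconjBy, h7, htt, one_mul, ← h6, inv2 s h2]
  have htP := hN t d P ht1 ht2 hdP hd1 hi
  have hodd : ∀ s : G, s ^ 2 = 1 → s ∉ Q' → PE p (t * s) := by
    intro s hs hsQ
    refine c.pe_of_inv ht1 ht2 (Nat.coprime_comm.1 ((Nat.Prime.coprime_iff_not_dvd Nat.prime_two).2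
      fun h => ?_)) (inv_mul_invol ht2 hs)
    obtain ⟨u, hu1, -, h3, h4⟩ := exists_invol_of_even ht2 hs h
    exact hsQ (hC u (hC t ht ht1 u h3) hu1 s h4.symm)
  obtain ⟨B, hB⟩ := BG.elem_exists_compl (p := 2) (E := Q') ⟨H2.isMulCommutative_of_forall hel.2, hel.1⟩
    (zpowers_le.2 ht)
  have hBQ : B ≤ Q' := hB.2.1
  have hBt : t ∉ B := fun h => ht1 (mem_bot.1 (hB.inf_eq ▸ mem_inf.2 ⟨mem_zpowers t, h⟩))
  have hQP : ∀ s ∈ Q', s ∈ normalizer ((P : Subgroup G) : Set G) → s = 1 ∨ s = t := by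
    intro s hs hsP
    by_contra h
    push Not at h
    have h3 := hI s h.1 (hel.1 s hs) hsP d hdP
    have h4 : s * t ≠ 1 := fun h5 => h.2 ((eq_inv_of_mul_eq_one_left h5).trans (inv2 t ht2))
    refine hd1 (hf (s * t) d h4 (hel.1 _ (mul_mem hs ht)) hd ?_)
    have h5 : s * t * d = s * (t * d * t⁻¹) * t := by group
    have h6 : d * (s * t) = (s * d⁻¹ * s⁻¹)⁻¹⁻¹⁻¹⁻¹ * s * t := by
      have : s * d⁻¹ * s⁻¹ = (s * d * s⁻¹)⁻¹ := by group
      rw [this, h3]; group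
    rw [Commute, SemiconjBy, h5, hi, h6]; group
  let I : Set G := {s | s ^ 2 = 1 ∧ s ∉ Q'}
  have hpI : p ∣ I.ncard := by
    have h3 := Pm.card_dvd_ncard_of_free (G := ConjAct G) (X := G)
      ((zpowers x').map ConjAct.toConjAct.toMonoidHom) I (by
        rintro _ ⟨a, ha, rfl⟩ s ⟨h3, h4⟩
        refine ⟨?_, fun h => h4 ?_⟩
        · change (a * s * a⁻¹) ^ 2 = 1
          rw [conj_pow, h3]; simp
        · exact (mem_normalizer_iff.1 (zpowers_le.2 g'.norm ha) s).2 h) (by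
        rintro _ ⟨a, ha, rfl⟩ s ⟨h3, h4⟩ h
        have h5 : a * s * a⁻¹ = s := h
        rw [hf s a (fun h => h4 (h ▸ one_mem _)) h3 (pe_of_mem g'.pe.zpowers ha) (mul_inv_eq_iff_eq_mul.1 h5),
          map_one])
    rw [card_map_of_injective ConjAct.toConjAct.injective] at h3
    exact (dvd_card_of_ne_bot g'.pe.zpowers (by
      rw [Ne, zpowers_eq_bot]
      exact fun h => g'.nc (h ▸ one_mem _))).trans h3
  let J : Set G := ((P : Subgroup G) : Set G) \ {1}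
  have hF : ∀ (a : B) (z : J), t * ((a : G) * z * (a : G)⁻¹) ∈ I := by
    rintro ⟨a, ha⟩ ⟨z, hz, hz1⟩
    have h3 := hI t ht1 ht2 htP z hz
    have h4 : t * a = a * t := hel.2 t ht a (hBQ ha)
    constructor
    · have h5 : (t * (a * z * a⁻¹)) ^ 2 = (t * a) * z * (t⁻¹ * a)⁻¹ * (a * z * a⁻¹) := by
        rw [pow_two]; group
      simp only
      rw [h5, inv2 t ht2, h4]
      have h6 : a * t * z * (a * t)⁻¹ * (a * z * a⁻¹) = a * ((t * z * t⁻¹) * z) * a⁻¹ := by group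
      rw [h6, h3]; group
    · intro h
      have h5 : z ∈ Q' := (mem_normalizer_iff.1 (le_normalizer (hBQ ha)) z).2
        ((Q'.mul_mem_cancel_left ht).1 h)
      exact hz1 ((pe_of_mem P.isPGroup' hz).eq_one (pe_of_mem g'.two h5) c.cop)
  have hbij : Function.Bijective fun q : B × J => (⟨_, hF q.1 q.2⟩ : I) := by
    constructor
    · rintro ⟨⟨a, ha⟩, ⟨z, hz, hz1⟩⟩ ⟨⟨a', ha'⟩, ⟨z', hz', hz1'⟩⟩ h
      have h3 : a * z * a⁻¹ = a' * z' * a'⁻¹ := mul_left_cancel (congrArg Subtype.val h)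
      have h4 : a'⁻¹ * a * z * (a'⁻¹ * a)⁻¹ = z' := by
        have : a'⁻¹ * a * z * (a'⁻¹ * a)⁻¹ = a'⁻¹ * (a * z * a⁻¹) * a' := by group
        rw [this, h3]; group
      obtain ⟨K, u⟩ := c.uq_of_inv g ht1 ht2 (pe_of_mem P.isPGroup' hz') hz1' (hI t ht1 ht2 htP z' hz')
      have h5 : (a'⁻¹ * a) • P = P := u.sylow_eq (h4 ▸ conj_mem_smul hz) hz'
      have h6 : a'⁻¹ * a ∈ B := mul_mem (inv_mem ha') ha
      have h7 : a'⁻¹ * a = 1 := (hQP _ (hBQ h6) (mem_norm_sylow h5)).resolve_right fun h => hBt (h ▸ h6)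
      rw [h7] at h4
      obtain rfl : a' = a := inv_mul_eq_one.1 h7
      obtain rfl : z = z' := by simpa using h4
      rfl
    · rintro ⟨s, hs, hsQ⟩
      have he := hodd s hs hsQ
      have he1 : t * s ≠ 1 := fun h => hsQ ((eq_inv_of_mul_eq_one_right h).symm ▸ inv_mem ht)
      obtain ⟨k, -, hk⟩ := (H3.sylowIn_top P).exists_conj_le he.zpowers le_top
      have h3 : k * (t * s) * k⁻¹ ∈ (P : Subgroup G) := H3.conj_smul_le_iff.1 hk _ (mem_zpowers _)
      have h4 : (k * t * k⁻¹) ^ 2 = 1 := by rw [conj_pow, ht2]; simp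
      have h5 : k * t * k⁻¹ ∈ normalizer ((P : Subgroup G) : Set G) :=
        hN _ _ P (by simpa using ht1) h4 h3 (by simpa using he1) (by
          have : k * t * k⁻¹ * (k * (t * s) * k⁻¹) * (k * t * k⁻¹)⁻¹ = k * (t * (t * s) * t⁻¹) * k⁻¹ := by
            group
          rw [this, inv_mul_invol ht2 hs]; group)
      have h6 := hI _ (by simpa using ht1) h4 h5
      set t' := k * t * k⁻¹ with ht'
      have h7 : ∀ z ∈ (P : Subgroup G), Commute (t * t') z := by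
        intro z hz
        have e1 : t * t' * z = t * (t' * z * t'⁻¹) * t' := by group
        have e2 : z * (t * t') = (t * z⁻¹ * t⁻¹) * t * t' := by
          rw [hI t ht1 ht2 htP _ (inv_mem hz)]; group
        rw [Commute, SemiconjBy, e1, h6 z hz, e2]; group
      have h8 : PE p (t * t') := by
        refine c.pe_of_inv ht1 ht2 (Nat.coprime_comm.1 ((Nat.Prime.coprime_iff_not_dvd Nat.prime_two).2
          fun h => ?_)) (inv_mul_invol ht2 h4)
        have h9 : orderOf ((t * t') ^ (orderOf (t * t') / 2)) = 2 :=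
          orderOf_pow_orderOf_div (orderOf_pos _).ne' h
        exact hd1 (hf _ d (fun h => by rw [h] at h9; simp at h9) (h9 ▸ pow_orderOf_eq_one _) hd
          ((h7 d hdP).pow_left _).symm)
      have h9 : t * t' ∈ (P : Subgroup G) := P.is_maximal' (h8.zpowers.to_sup_of_normal_right'
        P.isPGroup' (zpowers_le.2 (mul_mem htP h5))) le_sup_right ▸ mem_sup_left (mem_zpowers _)
      obtain ⟨m, hm⟩ : ∃ m : ℕ, ((t * t') ^ m) ^ 2 = t * t' := by
        obtain ⟨m, hm⟩ := exists_pow_eq_self_of_coprime (h8.coprime c.cop).symm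
        exact ⟨m, by rw [← pow_mul, mul_comm, pow_mul, hm]⟩
      set e := (t * t') ^ m with he'
      have heP : e ∈ (P : Subgroup G) := pow_mem h9 m
      have h10 : e⁻¹ * t * e = t' := by
        have e1 : e⁻¹ * t * e = t * (t⁻¹ * e⁻¹ * t⁻¹⁻¹) * e := by group
        rw [e1, inv2 t ht2, hI t ht1 ht2 htP _ (inv_mem heP), inv_inv, mul_assoc, ← pow_two, hm,
          ← mul_assoc, ← pow_two, ht2, one_mul]
      have h11 : (e * k)⁻¹ ∈ Q' := inv_mem (hC t ht ht1 _ (by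
        have e1 : e * k * t = e * (k * t * k⁻¹) * k := by group
        rw [Commute, SemiconjBy, e1, ← ht', ← h10]; group))
      obtain ⟨a, ha, a', ha', h12⟩ := hB.prod _ h11
      have h13 : a ∈ normalizer ((P : Subgroup G) : Set G) := zpowers_le.2 htP ha
      have h14 : a * (e * (k * (t * s) * k⁻¹) * e⁻¹) * a⁻¹ ∈ (P : Subgroup G) :=
        (mem_normalizer_iff.1 h13 _).1 (mul_mem (mul_mem heP h3) (inv_mem heP))
      refine ⟨(⟨a', ha'⟩, ⟨_, h14, ?_⟩), Subtype.ext ?_⟩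
      · simpa using he1
      · have e1 : a * a' = a' * a := hel.2 a (zpowers_le.2 ht ha) a' (hBQ ha')
        have e2 : a' * (a * (e * (k * (t * s) * k⁻¹) * e⁻¹) * a⁻¹) * a'⁻¹ =
          (a' * a) * (e * k) * (t * s) * ((a' * a) * (e * k))⁻¹ := by group
        simp only
        rw [e2, ← e1, h12, inv_mul_cancel, one_mul, inv_one, mul_one, ← mul_assoc, ← pow_two, ht2, one_mul]
  have h3 := Nat.card_eq_of_bijective _ hbij
  have hJ : J.ncard = ((P : Subgroup G) : Set G).ncard - 1 :=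
    Set.ncard_sdiff_singleton_of_mem (P : Subgroup G).one_mem
  rw [Nat.card_prod, Nat.card_coe_set_eq I, Nat.card_coe_set_eq J, hJ] at h3
  rw [← h3] at hpI
  rcases hp.out.dvd_mul.1 hpI with h4 | h4
  · obtain ⟨k, hk⟩ := IsPGroup.iff_card.1 (g'.two.to_le hBQ)
    rw [hk] at h4
    exact c.ne ((Nat.prime_dvd_prime_iff_eq hp.out Nat.prime_two).1 (hp.out.dvd_of_dvd_pow h4))
  · have h5 : p ∣ ((P : Subgroup G) : Set G).ncard := dvd_card_of_ne_bot P.isPGroup'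
      fun h => hd1 (mem_bot.1 (h ▸ hdP))
    have h6 : 0 < ((P : Subgroup G) : Set G).ncard := Nat.card_pos (α := (P : Subgroup G))
    have h7 := Nat.dvd_sub h5 h4
    rw [show ((P : Subgroup G) : Set G).ncard - (((P : Subgroup G) : Set G).ncard - 1) = 1 by omega] at h7
    exact hp.out.one_lt.ne' (Nat.dvd_one.1 h7)

theorem Ctx.false (c : Ctx p G) (g : Good p 2 Q x) : False :=
  c.finalC g fun _ _ h1 h2 hy hc => by
    by_contra hy1
    exact c.finalB g h1 h2 hy hy1 hc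

universe u

theorem main (G : Type u) [Group G] [Finite G] : Hyp p G →
    HasNormalPComplement 2 G ∨ ∃ S : Sylow 2 G, (S : Subgroup G).Normal := by
  refine H2.card_induction (P := fun G _ _ => Hyp p G →
    HasNormalPComplement 2 G ∨ ∃ S : Sylow 2 G, (S : Subgroup G).Normal) ?_ G
  intro G _ _ ih h
  by_contra hc
  push Not at hc
  obtain ⟨Q, x, g, -⟩ := (h.mix.dich h.ne ⊤).resolve_left
    fun h1 => hc.1 (H3.hasNormalPComplement_top_iff.1 h1)
  refine Ctx.false ⟨h, fun H hH => ?_, fun Q' x' g' h1 => ?_⟩ g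
  · refine (ih H ?_ (h.subgroup H)).imp_right ?_
    · rw [← card_mul_index H]
      have h2 : 1 < H.index := one_lt_index_of_ne_top hH
      have h3 : 0 < Nat.card H := Nat.card_pos
      nlinarith
    · rintro ⟨S, hS⟩
      exact ⟨_, H3.sylowIn_map_subtype S, H3.le_normalizer_map_subtype _⟩
  · exact hc.2 (h.sylowIn g' le_top).toSylowTop (normalizer_eq_top_iff.1 h1)

end Cfsg.Agent.H2.Mix
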