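import Mathlib
import Cfsg.Agent.H9.Repl

/-! `p`-central `p`-groups (`p` odd): if every element of order `p` is central then
`|X : N| ≤ |Ω₁(X)|` whenever `X / N` has exponent `p`. -/

namespace Cfsg.Agent.H2.PCen
open Subgroup
open scoped commutatorElement

/-- every solution of `x ^ p = 1` is central -/
def PC (p : ℕ) (X : Type*) [Group X] : Prop := ∀ x : X, x ^ p = 1 → x ∈ center X

variable {p : ℕ}

theorem PC.subgroup {X : Type*} [Group X] (h : PC p X) (M : Subgroup X) : PC p M := by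
  intro x hx
  have h1 := h x.1 (by rw [← Subgroup.coe_pow, hx]; rfl)
  rw [mem_center_iff] at h1 ⊢
  intro g
  exact Subtype.ext (h1 g.1)

theorem mul_pow_of_central {X : Type*} [Group X] [hp : Fact p.Prime] (hp2 : p ≠ 2) {a c : X}
    (h1 : ⁅c, a⁆ ∈ center X) (h2 : ⁅c, a⁆ ^ p = 1) : (a * c) ^ p = a ^ p * c ^ p := by
  have e1 : Commute ⁅c, a⁆ c := (mem_center_iff.1 h1 c).symm
  have e2 : Commute ⁅c, a⁆ a := (mem_center_iff.1 h1 a).symm
  rw [H9.mul_pow_of_commutator_commute e1 e2]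
  obtain ⟨k, hk⟩ : p ∣ p.choose 2 :=
    hp.out.dvd_choose_self (by norm_num) (lt_of_le_of_ne hp.out.two_le (Ne.symm hp2))
  rw [hk, pow_mul, h2, one_pow, mul_one]

universe u

theorem comm_pow_aux [hp : Fact p.Prime] (hp2 : p ≠ 2) (n : ℕ) :
    ∀ (X : Type u) [Group X] [Finite X], Nat.card X = n → IsPGroup p X → PC p X →
      ∀ x g : X, (x ^ p) ^ p = 1 → ⁅x, g⁆ ^ p = 1 := by
  induction n using Nat.strong_induction_on with
  | _ n ih =>
  intro X _ _ hn hX hPC x g hx
  by_cases h1 : zpowers x = ⊤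
  · have : g ∈ zpowers x := h1 ▸ mem_top g
    obtain ⟨k, rfl⟩ := this
    have : Commute x (x ^ k) := (Commute.refl x).zpow_right k
    rw [commutatorElement_eq_one_iff_commute.2 this, one_pow]
  obtain ⟨M, hM, hxM⟩ := (eq_top_or_exists_le_coatom (zpowers x)).resolve_left h1
  haveI : Group.IsNilpotent X := hX.isNilpotent
  haveI : M.Normal := Subgroup.NormalizerCondition.normal_of_coatom M normalizerCondition_of_isNilpotent hM
  have hx1 : x ∈ M := hxM (mem_zpowers x)
  have hx2 : (g * x * g⁻¹)⁻¹ ∈ M := M.inv_mem (Normal.conj_mem inferInstance x hx1 g)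
  have hlt : Nat.card M < n := by
    rw [← hn, ← card_mul_index M]
    have h2 : 1 < M.index := one_lt_index_of_ne_top hM.1
    have h3 : 0 < Nat.card M := Nat.card_pos
    nlinarith
  have h2 := ih _ hlt M rfl (hX.to_subgroup M) (hPC.subgroup M) ⟨x, hx1⟩ ⟨_, hx2⟩
    (Subtype.ext (by simpa using hx))
  have h3 : ⁅x, (g * x * g⁻¹)⁻¹⁆ ^ p = 1 := by
    have := congrArg Subtype.val h2
    simpa [commutatorElement_def] using this
  have h4 : ⁅(g * x * g⁻¹)⁻¹, x⁆ ^ p = 1 := by
    rw [← commutatorElement_inv, inv_pow, h3, inv_one]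
  have h5 : ⁅x, g⁆ = x * (g * x * g⁻¹)⁻¹ := by rw [commutatorElement_def]; group
  rw [h5, mul_pow_of_central hp2 (hPC _ h4) h4, inv_pow, conj_pow]
  have h6 := mem_center_iff.1 (hPC _ hx) g
  rw [h6]; group

theorem comm_pow [Fact p.Prime] (hp2 : p ≠ 2) {X : Type*} [Group X] [Finite X] (hX : IsPGroup p X)
    (h : PC p X) {x : X} (hx : (x ^ p) ^ p = 1) (g : X) : ⁅x, g⁆ ^ p = 1 :=
  comm_pow_aux hp2 _ X rfl hX h x g hx

/-- `Ω₁` of a `p`-central group -/
def Om {X : Type*} [Group X] (h : PC p X) : Subgroup X where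
  carrier := {x | x ^ p = 1}
  one_mem' := one_pow p
  mul_mem' := by
    intro a b ha hb
    have : Commute a b := (mem_center_iff.1 (h b hb) a)
    show (a * b) ^ p = 1
    rw [this.mul_pow, ha, hb, one_mul]
  inv_mem' := by
    intro a ha
    show a⁻¹ ^ p = 1
    rw [inv_pow, ha, inv_one]

theorem mem_Om {X : Type*} [Group X] (h : PC p X) {x : X} : x ∈ Om h ↔ x ^ p = 1 := Iff.rfl

instance Om_normal {X : Type*} [Group X] (h : PC p X) : (Om h).Normal :=
  ⟨fun x hx g => by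
    rw [mem_Om] at hx ⊢
    rw [conj_pow, hx]; group⟩

theorem PC.quot [Fact p.Prime] (hp2 : p ≠ 2) {X : Type*} [Group X] [Finite X] (hX : IsPGroup p X)
    (h : PC p X) : PC p (X ⧸ Om h) := by
  intro x hx
  obtain ⟨x, rfl⟩ := QuotientGroup.mk_surjective x
  rw [← QuotientGroup.mk_pow, QuotientGroup.eq_one_iff, mem_Om] at hx
  rw [mem_center_iff]
  intro g
  obtain ⟨g, rfl⟩ := QuotientGroup.mk_surjective g
  have h1 : ⁅x, g⁆ ∈ Om h := comm_pow hp2 hX h hx g
  rw [← QuotientGroup.eq_one_iff] at h1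
  have h2 : ⁅(x : X ⧸ Om h), (g : X ⧸ Om h)⁆ = 1 := by
    rw [← h1]; rfl
  exact (commutatorElement_eq_one_iff_commute.1 h2).symm

theorem card_Om_quot [Fact p.Prime] (hp2 : p ≠ 2) {X : Type*} [Group X] [Finite X] (hX : IsPGroup p X)
    (h : PC p X) (N : Subgroup X) (hN : ∀ x : X, x ^ p ∈ N) :
    Nat.card (Om (h.quot hp2 hX)) ≤ Nat.card (Om h ⊓ N : Subgroup X) := by
  have key : ∀ q : Om (h.quot hp2 hX), ((q : X ⧸ Om h).out ^ p) ^ p = 1 := by
    intro q
    have h1 : (q : X ⧸ Om h) ^ p = 1 := q.2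
    rw [← QuotientGroup.out_eq' (q : X ⧸ Om h), ← QuotientGroup.mk_pow, QuotientGroup.eq_one_iff] at h1
    exact h1
  refine Nat.card_le_card_of_injective
    (fun q => (⟨(q : X ⧸ Om h).out ^ p, key q, hN _⟩ : (Om h ⊓ N : Subgroup X))) ?_
  intro q r hqr
  have h1 : (q : X ⧸ Om h).out ^ p = (r : X ⧸ Om h).out ^ p := congrArg Subtype.val hqr
  have h2 : ⁅(r : X ⧸ Om h).out, (q : X ⧸ Om h).out⁻¹⁆ ^ p = 1 := comm_pow hp2 hX h (key r) _
  have h3 := mul_pow_of_central hp2 (h _ h2) h2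
  rw [inv_pow, h1, inv_mul_cancel] at h3
  apply Subtype.ext
  rw [← QuotientGroup.out_eq' (q : X ⧸ Om h), ← QuotientGroup.out_eq' (r : X ⧸ Om h), QuotientGroup.eq]
  exact h3

theorem index_le_aux [hp : Fact p.Prime] (hp2 : p ≠ 2) (n : ℕ) :
    ∀ (X : Type u) [Group X] [Finite X], Nat.card X = n → IsPGroup p X → ∀ h : PC p X,
      ∀ (N : Subgroup X) [N.Normal], (∀ x : X, x ^ p ∈ N) → N.index ≤ Nat.card (Om h) := by
  induction n using Nat.strong_induction_on with
  | _ n ih =>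
  intro X _ _ hn hX h N _ hN
  by_cases h1 : Om h = ⊥
  · have : N = ⊤ := by
      by_contra h2
      haveI : Nontrivial X := by
        by_contra h3
        rw [not_nontrivial_iff_subsingleton] at h3
        exact h2 (Subsingleton.elim _ _)
      obtain ⟨k, hk, hk'⟩ := hX.nontrivial_iff_card.1 inferInstance
      obtain ⟨x, hx⟩ := exists_prime_orderOf_dvd_card' p (hk' ▸ dvd_pow_self p hk.ne')
      have h4 : x ∈ Om h := by rw [mem_Om, ← hx, pow_orderOf_eq_one]
      rw [h1, mem_bot] at h4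
      rw [h4, orderOf_one] at hx
      exact hp.out.one_lt.ne hx
    rw [this, index_top]
    exact Nat.card_pos
  have hlt : Nat.card (X ⧸ Om h) < n := by
    rw [← hn, card_eq_card_quotient_mul_card_subgroup (Om h)]
    have h2 : 1 < Nat.card (Om h) := (one_lt_card_iff_ne_bot _).2 h1
    have h3 : 0 < Nat.card (X ⧸ Om h) := Nat.card_pos
    nlinarith
  haveI : (N.map (QuotientGroup.mk' (Om h))).Normal := Normal.map inferInstance _ (QuotientGroup.mk'_surjective _)
  have h2 := ih _ hlt (X ⧸ Om h) rfl (hX.to_quotient _) (h.quot hp2 hX) (N.map (QuotientGroup.mk' _)) (by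
    intro x
    obtain ⟨x, rfl⟩ := QuotientGroup.mk_surjective x
    exact ⟨x ^ p, hN x, rfl⟩)
  rw [index_map, QuotientGroup.ker_mk', QuotientGroup.range_mk', index_top, mul_one] at h2
  have h3 := h2.trans (card_Om_quot hp2 hX h N hN)
  have h4 : N.index = N.relIndex (N ⊔ Om h) * (N ⊔ Om h).index :=
    (relIndex_mul_index le_sup_left).symm
  have h5 : N.relIndex (N ⊔ Om h) = N.relIndex (Om h) := relIndex_sup_left _ _
  have h6 : Nat.card (Om h ⊓ N : Subgroup X) * N.relIndex (Om h) = Nat.card (Om h) := by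
    rw [← card_mul_index (N.subgroupOf (Om h)), ← card_map_of_injective (K := N.subgroupOf (Om h))
      (Om h).subtype_injective, subgroupOf_map_subtype, inf_comm]
    rfl
  rw [h4, h5, ← h6, mul_comm]
  exact Nat.mul_le_mul_right _ h3

theorem index_le [Fact p.Prime] (hp2 : p ≠ 2) {X : Type*} [Group X] [Finite X] (hX : IsPGroup p X)
    (h : PC p X) (N : Subgroup X) [N.Normal] (hN : ∀ x : X, x ^ p ∈ N) : N.index ≤ Nat.card (Om h) :=
  index_le_aux hp2 _ X rfl hX h N hN

/-- ambient form: `A` a `p`-subgroup whose elements of order `p` lie in `E`, centralized by `A`. -/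
theorem relIndex_le [Fact p.Prime] (hp2 : p ≠ 2) {G : Type*} [Group G] [Finite G] {A B E : Subgroup G}
    (hA : IsPGroup p A) (hE : ∀ x ∈ A, x ^ p = 1 → x ∈ E) (hc : A ≤ centralizer (E : Set G))
    [(B.subgroupOf A).Normal] (hB : ∀ x ∈ A, x ^ p ∈ B) : B.relIndex A ≤ Nat.card E := by
  have h : PC p A := by
    intro x hx
    have h1 : (x : G) ^ p = 1 := by rw [← Subgroup.coe_pow, hx]; rfl
    rw [mem_center_iff]
    intro g
    exact Subtype.ext (hc g.2 x (hE x x.2 h1)).symm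
  refine (index_le hp2 hA h (B.subgroupOf A) fun x => hB x x.2).trans ?_
  refine Nat.card_le_card_of_injective (fun x => (⟨x.1.1, hE _ x.1.2 ?_⟩ : E)) ?_
  · have h1 : x.1 ^ p = 1 := x.2
    rw [← Subgroup.coe_pow, h1]; rfl
  · intro x y hxy
    have h1 : x.1.1 = y.1.1 := congrArg (fun z : E => (z : G)) hxy
    exact Subtype.ext (Subtype.ext h1)

end Cfsg.Agent.H2.PCen
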