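import Cfsg.Agent.H8.Deg1
import Cfsg.Agent.H2.Product

/-! Relative degree sets: the linear character lemma. -/

namespace Cfsg.Agent.H2.RDeg
open Cfsg Cfsg.Agent.H4 Cfsg.Agent.H5
open scoped Pointwise commutatorElement

section alg
variable {A : Type*} [CommGroup A]

theorem alg1 (S : Subgroup A) {x y z : A} (hx : x ∈ S) (hy : y ∈ S) (h : x = z * y) : z ∈ S := by
  simpa [h] using mul_mem hx (inv_mem hy)

theorem alg2 {x y : A} {u e f : ℕ} (h1 : (x ^ u * y) ^ e = 1) (h2 : y ^ f = 1) : x ^ (u * e * f) = 1 := by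
  have := congrArg (· ^ f) h1
  simp only [mul_pow, one_pow, ← pow_mul] at this
  rwa [mul_comm e f, pow_mul y, h2, one_pow, mul_one] at this

theorem alg4 {x : A} {a : ℕ} (h : x⁻¹ ^ a = 1) : x ^ a = 1 := by rwa [inv_pow, inv_eq_one] at h

theorem eq_one_of_coprime {μ : A} {a b : ℕ} (h : a.Coprime b) (ha : μ ^ a = 1) (hb : μ ^ b = 1) :
    μ = 1 := Subgroup.mem_bot.mp (NEmb.mem_of_coprime ⊥ h (Subgroup.mem_bot.mpr ha) (Subgroup.mem_bot.mpr hb))

theorem prod_pow_eq_one {ι : Type*} (s : Finset ι) (f : ι → A) {p : ℕ} (h : ∀ i ∈ s, f i ^ p = 1) :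
    (∏ i ∈ s, f i) ^ p = 1 := by
  rw [← Finset.prod_pow]; exact Finset.prod_eq_one h

theorem prod_const_mul {ι : Type*} (s : Finset ι) (f : ι → A) (x : A) (d : ℕ) :
    ∏ i ∈ s, x ^ d * f i = x ^ (d * s.card) * ∏ i ∈ s, f i := by
  rw [Finset.prod_mul_distrib, Finset.prod_const, pow_mul]

end alg

section emb
variable {N G : Type*} [Group N] [Group G] [Fintype N] [Fintype G] (E : NEmb N G)

/-- linear character as a function -/
abbrev lin (lam : N →* ℂˣ) : N → ℂ := fun n => (lam n : ℂ)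

/-- some irreducible character of degree `c` lies over `θ` -/
def Over (c : ℕ) (θ : N → ℂ) : Prop :=
  ∃ χ : G → ℂ, IsIrrCharacter G χ ∧ χ 1 = c ∧ classInner (fun n => χ (E.f n)) θ ≠ 0

/-- product of the determinants of the conjugates -/
noncomputable def del (θ : N → ℂ) : N →* ℂˣ := ∏ φ ∈ E.orbit θ, detHom φ

/-- invariant linear characters -/
def Inv : Subgroup (N →* ℂˣ) where
  carrier := {μ | ∀ g n, μ (E.act g n) = μ n}
  one_mem' := fun _ _ => rfl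
  mul_mem' := fun ha hb g n => by simp only [MonoidHom.mul_apply, ha g n, hb g n]
  inv_mem' := fun ha g n => by simp only [MonoidHom.inv_apply, ha g n]

/-- orbit length -/
noncomputable abbrev ol (θ : N → ℂ) : ℕ := (E.inertia θ).index

variable {E} {θ : N → ℂ}

omit [Fintype N] [Fintype G] in
theorem inv_iff {μ : N →* ℂˣ} : μ ∈ Inv E ↔ ol E (lin μ) = 1 := by
  rw [Subgroup.index_eq_one, E.inertia_eq_top_iff]
  exact ⟨fun h g n => congrArg Units.val (h g n), fun h g n => Units.ext (h g n)⟩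

theorem exists_over (hθ : IsIrrCharacter N θ) : ∃ c, Over E c θ := by
  obtain ⟨χ, h1, h2⟩ := exists_irr_over_hom E.f E.inj hθ
  obtain ⟨c, -, hc⟩ := h1.exists_degree
  exact ⟨c, χ, h1, hc, h2⟩

omit [Fintype N] in
theorem orbit_char (hθ : IsIrrCharacter N θ) : ∀ φ ∈ E.orbit θ, IsCharacter N φ := fun φ h => by
  obtain ⟨g, rfl⟩ := E.mem_orbit.mp h
  exact E.isCharacter_cj hθ.isCharacter g

theorem Over.data (hG : E.f.range ≤ commutator G) (hθ : IsIrrCharacter N θ) {d c : ℕ} (hd : θ 1 = d)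
    (h : Over E c θ) : ∃ e, c = e * ol E θ * d ∧ del E θ ^ e = 1 := by
  obtain ⟨χ, h1, hc, h2⟩ := h
  obtain ⟨e, he⟩ := (h1.isCharacter.comp E.f).classInner_nat hθ.isCharacter
  have h3 := E.clifford_degree h1 hθ h2
  have h4 := E.clifford h1 hθ h2
  rw [he] at h4
  rw [he, hc, hd] at h3
  refine ⟨e, by exact_mod_cast h3, ?_⟩
  rw [del, ← detHom_sum _ (fun φ => φ) (orbit_char hθ),
    ← detHom_natCast_smul (isCharacter_sum _ _ (orbit_char hθ)), ← h4, detHom_comp h1.isCharacter]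
  ext n
  have := Abelianization.commutator_subset_ker (detHom χ) (hG ⟨n, rfl⟩)
  simpa using this

theorem del_inv (hθ : IsIrrCharacter N θ) : del E θ ∈ Inv E := by
  intro g n
  obtain ⟨χ, h1, h2⟩ := exists_irr_over_hom E.f E.inj hθ
  have h4 := E.clifford h1 hθ h2
  have h5 : ∀ n, (∑ φ ∈ E.orbit θ, φ) (E.act g n) = (∑ φ ∈ E.orbit θ, φ) n := fun n =>
    E.invariant_of_res_eq_mul h1.isClassFunction h2 (fun n => congrFun h4 n) g n
  have h6 := detHom_comp (isCharacter_sum _ (fun φ => φ) (orbit_char (E := E) hθ)) (E.actEquiv g).toMonoidHom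
  rw [show (fun x => (∑ φ ∈ E.orbit θ, φ) ((E.actEquiv g).toMonoidHom x)) = ∑ φ ∈ E.orbit θ, φ from funext h5,
    detHom_sum _ (fun φ => φ) (orbit_char hθ)] at h6
  exact (DFunLike.congr_fun h6 n).symm

omit [Fintype N] in
theorem trans_of_coprime {T : Subgroup G} (h : (ol E θ).Coprime T.index) (g : G) :
    ∃ t ∈ T, E.cj θ g = E.cj θ t := by
  obtain ⟨a, ha, b, hb, rfl⟩ := (fac_of_coprime_index h).3 g (Subgroup.mem_top g)
  exact ⟨b, hb, by rw [E.cj_mul, E.mem_inertia_iff_cj.mp ha]⟩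

theorem del_mul (hθ : IsIrrCharacter N θ) {d : ℕ} (hd : θ 1 = d) (lam : N →* ℂˣ)
    (h1 : (ol E θ).Coprime (ol E (lin lam))) (h2 : (ol E (lin lam * θ)).Coprime (ol E (lin lam))) :
    del E (lin lam * θ) = lam ^ (d * ol E θ) * del E θ := by
  classical
  have key : ∀ t ∈ E.inertia (lin lam), E.cj (lin lam * θ) t = lin lam * E.cj θ t := fun t ht => by
    ext n; simp only [E.cj_apply, Pi.mul_apply]; rw [E.mem_inertia.mp ht n]
  have h3 : E.orbit (lin lam * θ) = (E.orbit θ).image (lin lam * ·) := by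
    ext φ
    rw [Finset.mem_image, E.mem_orbit]
    constructor
    · rintro ⟨g, rfl⟩
      obtain ⟨t, ht, e⟩ := trans_of_coprime h2 g
      exact ⟨_, E.mem_orbit.mpr ⟨t, rfl⟩, by rw [e, key t ht]⟩
    · rintro ⟨ψ, hψ, rfl⟩
      obtain ⟨g, rfl⟩ := E.mem_orbit.mp hψ
      obtain ⟨t, ht, e⟩ := trans_of_coprime h1 g
      exact ⟨t, by rw [e, key t ht]⟩
  rw [del, h3, Finset.prod_image (fun a _ b _ h => by
    ext n; exact mul_left_cancel₀ (lam n).ne_zero (congrFun h n)),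
    Finset.prod_congr rfl (g := fun φ => lam ^ d * detHom φ) (fun φ hφ => detHom_linear_mul lam (orbit_char hθ φ hφ) (by
      obtain ⟨g, rfl⟩ := E.mem_orbit.mp hφ
      rw [E.cj_apply_one, hd])), ol, ← E.card_orbit]
  exact prod_const_mul (A := N →* ℂˣ) _ _ _ _

theorem lin_mul_irr (hθ : IsIrrCharacter N θ) (lam : N →* ℂˣ) : IsIrrCharacter N (lin lam * θ) :=
  isIrr_mul_of_linear (isCharacter_linear lam) (by simp) hθ

theorem inv_of_coprime (hθ : IsIrrCharacter N θ) {d : ℕ} (hd : θ 1 = d) {lam : N →* ℂˣ} {n : ℕ} (hn : lam ^ n = 1)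
    (h0 : n.Coprime (d * ol E θ)) (h1 : (ol E θ).Coprime (ol E (lin lam)))
    (h2 : (ol E (lin lam * θ)).Coprime (ol E (lin lam))) : lam ∈ Inv E := by
  refine NEmb.mem_of_coprime _ h0 (hn ▸ one_mem _) ?_
  exact alg1 (A := N →* ℂˣ) _ (del_inv (E := E) (lin_mul_irr hθ lam)) (del_inv (E := E) hθ) (del_mul hθ hd lam h1 h2)

theorem del_of_inv {μ : N →* ℂˣ} (h : μ ∈ Inv E) : del E (lin μ) = μ := by
  have : E.orbit (lin μ) = {lin μ} := by
    refine Finset.eq_singleton_iff_unique_mem.mpr ⟨E.self_mem_orbit _, fun φ hφ => ?_⟩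
    obtain ⟨g, rfl⟩ := E.mem_orbit.mp hφ
    ext n; exact congrArg Units.val (h g n)
  rw [del, this, Finset.prod_singleton, detHom_linear]

theorem pow_eq_one_of_inv (hG : E.f.range ≤ commutator G) {μ : N →* ℂˣ} (h : μ ∈ Inv E) {c : ℕ}
    (hc : Over E c (lin μ)) : μ ^ c = 1 := by
  obtain ⟨e, h1, h2⟩ := hc.data hG (isIrrCharacter_linear μ) (d := 1) (by simp)
  rwa [inv_iff.mp h, del_of_inv h, ← show c = e by simpa using h1] at *

omit [Fintype N] [Fintype G] in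
theorem ol_eq_of_mul_eq_one {lam : N →* ℂˣ} (h : lin lam * θ = fun _ => 1) : θ = lin lam⁻¹ ∧ ol E θ = ol E (lin lam) := by
  have h1 : θ = lin lam⁻¹ := by
    ext n
    have := congrFun h n
    simp only [Pi.mul_apply] at this
    simpa [lin] using eq_inv_of_mul_eq_one_right this
  refine ⟨h1, ?_⟩
  have : E.inertia (lin lam⁻¹) = E.inertia (lin lam) := by
    ext g
    simp [E.mem_inertia, lin]
  rw [h1, ol, this]

theorem one_lt_gcd {a b : ℕ} (hb : b ≠ 0) (h : ¬ a.Coprime b) : 1 < Nat.gcd a b :=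
  lt_of_le_of_ne (Nat.gcd_pos_of_pos_right a (Nat.pos_of_ne_zero hb)) (Ne.symm h)

omit [Fintype N] in
theorem ol_ne (θ : N → ℂ) : ol E θ ≠ 0 := Subgroup.index_ne_zero_of_finite

omit [Fintype G] in
theorem Over.ne_zero {c : ℕ} (h : Over E c θ) : c ≠ 0 := by
  obtain ⟨χ, h1, h2, -⟩ := h
  rintro rfl
  exact h1.apply_one_ne_zero (by simpa using h2)

/-- the main lemma -/
theorem main (hG : E.f.range ≤ commutator G) (hθ : IsIrrCharacter N θ) (hθ1 : θ ≠ fun _ => 1) {a : ℕ}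
    (ha : Over E a θ) {p : ℕ} (hp : p.Prime) {lam : N →* ℂˣ} (h1 : lam ≠ 1) (hl : lam ^ p = 1)
    (hpt : ¬ p ∣ ol E (lin lam)) (hpa : ¬ p ∣ a) (hat : a.Coprime (ol E (lin lam))) :
    (lin lam * θ ≠ fun _ => 1) ∧ ∀ c, Over E c (lin lam * θ) → ¬ a.Coprime c ∧
      (¬ c.Coprime (ol E (lin lam)) ∨ (ol E (lin lam) = 1 ∧ p ∣ c)) := by
  obtain ⟨d, -, hd⟩ := hθ.exists_degree
  obtain ⟨e, he, hdel⟩ := ha.data hG hθ hd
  have hpa' : p.Coprime a := hp.coprime_iff_not_dvd.mpr hpa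
  have hpt' : p.Coprime (ol E (lin lam)) := hp.coprime_iff_not_dvd.mpr hpt
  have hs : ol E θ ∣ a := ⟨e * d, by rw [he]; ring⟩
  have hst := hat.coprime_dvd_left hs
  refine ⟨fun h => ?_, fun c hc => ?_⟩
  · obtain ⟨e1, e2⟩ := ol_eq_of_mul_eq_one (E := E) h
    rw [e2, Nat.coprime_self] at hst
    have := pow_eq_one_of_inv hG (inv_mem (inv_iff.mpr hst)) (e1 ▸ ha)
    exact h1 (eq_one_of_coprime (A := N →* ℂˣ) hpa' hl (alg4 (A := N →* ℂˣ) this))
  obtain ⟨e', he', hdel'⟩ := hc.data hG (lin_mul_irr hθ lam) (d := d) (by simp [hd, lin])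
  have hk : ol E (lin lam * θ) ∣ c := ⟨e' * d, by rw [he']; ring⟩
  constructor
  · intro hac
    have hd1 : d = 1 := Nat.eq_one_of_dvd_coprimes hac ⟨e * ol E θ, by rw [he]; ring⟩ ⟨e' * ol E (lin lam * θ), by rw [he']; ring⟩
    subst hd1
    obtain ⟨μ, rfl⟩ := hθ.isCharacter.exists_linear (by simpa using hd)
    have hks : (ol E (lin μ * lin lam)).Coprime (ol E (lin μ)) := by
      rw [mul_comm]; exact ((hac.coprime_dvd_left hs).coprime_dvd_right hk).symm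
    have h3 := del_mul (isIrrCharacter_linear lam) (d := 1) (by simp) μ hst.symm hks
    have h4 : μ ^ ol E (lin lam) ∈ Inv E := by
      have := alg1 (A := N →* ℂˣ) _ (del_inv (E := E) (lin_mul_irr (isIrrCharacter_linear lam) μ))
        (del_inv (E := E) (isIrrCharacter_linear lam)) h3
      rwa [one_mul] at this
    have hlp : ∀ n, lam n ^ p = 1 := fun n => by rw [← MonoidHom.pow_apply, hl]; rfl
    have h5 : μ ^ p ∈ Inv E := by
      intro g n
      obtain ⟨u, hu, t, ht, rfl⟩ := (fac_of_coprime_index hks).3 g (Subgroup.mem_top g)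
      have e1 : μ (E.act u (E.act t n)) * lam (E.act u (E.act t n)) = μ (E.act t n) * lam (E.act t n) :=
        Units.ext (E.mem_inertia.mp hu _)
      have e2 : μ (E.act t n) = μ n := Units.ext (E.mem_inertia.mp ht _)
      have e3 := congrArg (· ^ p) e1
      simp only [mul_pow, hlp, mul_one] at e3
      rw [E.act_mul, MonoidHom.pow_apply, MonoidHom.pow_apply, e3, e2]
    have h6 : μ ∈ Inv E := NEmb.mem_of_coprime _ hpt' h5 h4
    have h7 := pow_eq_one_of_inv hG h6 ha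
    have h8 : del E (lin lam) ^ p = 1 := by
      refine prod_pow_eq_one (A := N →* ℂˣ) _ _ fun φ hφ => ?_
      obtain ⟨g, rfl⟩ := E.mem_orbit.mp hφ
      rw [show E.cj (lin lam) g = lin (lam.comp (E.actEquiv g).toMonoidHom) from rfl, detHom_linear]
      ext n; simp [hlp]
    rw [mul_comm (lin lam), h3] at hdel'
    have h9 : μ ^ (ol E (lin lam) * e' * p) = 1 := by
      have := alg2 (A := N →* ℂˣ) hdel' h8
      rwa [one_mul] at this
    have hec : e' ∣ c := by rw [he', mul_assoc]; exact Dvd.intro _ rfl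
    have h10 := eq_one_of_coprime (A := N →* ℂˣ)
      (Nat.Coprime.mul_right (hat.mul_right (hac.coprime_dvd_right hec)) hpa'.symm) h7 h9
    exact hθ1 (by rw [h10]; rfl)
  · by_cases hct : c.Coprime (ol E (lin lam))
    swap
    · exact Or.inl hct
    right
    have hkt := hct.coprime_dvd_left hk
    have hinv := inv_of_coprime hθ hd hl (hpa'.coprime_dvd_right ⟨e, by rw [he]; ring⟩) hst hkt
    refine ⟨inv_iff.mp hinv, ?_⟩
    rw [del_mul hθ hd lam hst hkt] at hdel'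
    have h3 := alg2 (A := N →* ℂˣ) hdel' hdel
    have hec : e' ∣ c := by rw [he', mul_assoc]; exact Dvd.intro _ rfl
    by_contra hpc
    refine h1 (eq_one_of_coprime (A := N →* ℂˣ) (Nat.Coprime.mul_right (Nat.Coprime.mul_right ?_ ?_) ?_) hl h3)
    · exact hpa'.coprime_dvd_right ⟨e, by rw [he]; ring⟩
    · exact (hp.coprime_iff_not_dvd.mpr hpc).coprime_dvd_right hec
    · exact hpa'.coprime_dvd_right ⟨ol E θ * d, by rw [he]; ring⟩

theorem exists_lam {p : ℕ} (hp : p.Prime) (h : p ∣ (commutator N).index) :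
    ∃ lam : N →* ℂˣ, lam ≠ 1 ∧ lam ^ p = 1 ∧ ¬ p ∣ ol E (lin lam) := by
  have := Fact.mk hp
  rw [← card_monoidHom_units] at h
  have hfin : Finite (N →* ℂˣ) := Nat.finite_of_card_ne_zero (by
    rw [card_monoidHom_units]; exact Subgroup.index_ne_zero_of_finite)
  let X : Subgroup (N →* ℂˣ) := (powMonoidHom p).ker
  have hX : IsPGroup p X := fun x => ⟨1, Subtype.ext (by rw [pow_one]; exact x.2)⟩
  obtain ⟨x, hx⟩ := exists_prime_orderOf_dvd_card' p h
  have hxX : x ∈ X := MonoidHom.mem_ker.mpr (by rw [powMonoidHom_apply, ← hx]; exact pow_orderOf_eq_one x)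
  have hdvd : p ∣ Nat.card X := hx ▸ X.orderOf_dvd_natCard hxX
  obtain ⟨P⟩ := (inferInstance : Nonempty (Sylow p G))
  let : MulAction P X :=
    { smul := fun g μ => ⟨μ.1.comp (E.actEquiv (g : G)⁻¹).toMonoidHom, by
        have h2 : μ.1 ^ p = 1 := μ.2
        show μ.1.comp (E.actEquiv (g : G)⁻¹).toMonoidHom ^ p = 1
        ext n
        have := DFunLike.congr_fun h2 (E.act (g : G)⁻¹ n)
        simpa using congrArg Units.val this⟩
      one_smul := fun μ => Subtype.ext (MonoidHom.ext fun n => by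
        show μ.1 (E.act ((1 : P) : G)⁻¹ n) = μ.1 n
        simp [E.act_one])
      mul_smul := fun g h μ => Subtype.ext (MonoidHom.ext fun n => by
        show μ.1 (E.act ((g * h : P) : G)⁻¹ n) = μ.1 (E.act (h : G)⁻¹ (E.act (g : G)⁻¹ n))
        rw [← E.act_mul]; simp) }
  obtain ⟨μ, h1, h2⟩ := P.isPGroup'.exists_fixed_point_of_prime_dvd_card_of_fixed_point X hdvd (a := 1)
    (fun g => Subtype.ext (MonoidHom.ext fun n => rfl))
  refine ⟨μ.1, fun e => h2 (Subtype.ext e.symm), μ.2, fun hd => P.not_dvd_index (hd.trans (Subgroup.index_dvd_of_le ?_))⟩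
  intro g hg
  rw [E.mem_inertia]
  intro n
  have := DFunLike.congr_fun (congrArg Subtype.val (h1 ⟨g⁻¹, inv_mem hg⟩)) n
  have h3 : μ.1 (E.act (g⁻¹)⁻¹ n) = μ.1 n := this
  rw [inv_inv] at h3
  exact congrArg Units.val h3

theorem ol_dvd (hG : E.f.range ≤ commutator G) (hθ : IsIrrCharacter N θ) {c : ℕ} (h : Over E c θ) : ol E θ ∣ c := by
  obtain ⟨d, -, hd⟩ := hθ.exists_degree
  obtain ⟨e, he, -⟩ := h.data hG hθ hd
  exact ⟨e * d, by rw [he]; ring⟩

omit [Fintype N] [Fintype G] in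
theorem ol_dvd_mul {lam ν : N →* ℂˣ} {p q : ℕ} (h : p.Coprime q) (h1 : lam ^ p = 1) (h2 : ν ^ q = 1) :
    ol E (lin lam) ∣ ol E (lin (lam * ν)) := by
  refine Subgroup.index_dvd_of_le fun g hg => E.mem_inertia.mpr fun n => congrArg Units.val ?_
  have e1 : lam (E.act g n) * ν (E.act g n) = lam n * ν n := Units.ext (E.mem_inertia.mp hg n)
  have hl : ∀ n, lam n ^ p = 1 := fun n => by rw [← MonoidHom.pow_apply, h1]; rfl
  have hn : ∀ n, ν n ^ q = 1 := fun n => by rw [← MonoidHom.pow_apply, h2]; rfl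
  have e2 := congrArg (· ^ q) e1
  simp only [mul_pow, hn, mul_one] at e2
  rw [← mul_inv_eq_one]
  exact eq_one_of_coprime h (by rw [mul_pow, inv_pow, hl, hl]; simp) (by rw [mul_pow, inv_pow, e2]; simp)

/-- a linear constituent and any other one of coprime degree have a common neighbour -/
theorem common (hG : E.f.range ≤ commutator G) (hθ : IsIrrCharacter N θ) (hθ1 : θ ≠ fun _ => 1) {μ : N →* ℂˣ}
    (hμ : μ ≠ 1) {a b : ℕ} (ha : Over E a θ) (hb : Over E b (lin μ)) (hab : a.Coprime b)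
    (h1 : a.Coprime (commutator N).index) (h2 : b.Coprime (commutator N).index) :
    (lin μ * θ ≠ fun _ => 1) ∧ ∀ c, Over E c (lin μ * θ) → ¬ a.Coprime c ∧ ¬ b.Coprime c := by
  have pw : ∀ ν : N →* ℂˣ, ν ^ (commutator N).index = 1 := fun ν =>
    linear_pow_index ν _ fun n hn => Abelianization.commutator_subset_ker ν hn
  have ninv : ∀ (ν : N →* ℂˣ) c, Over E c (lin ν) → c.Coprime (commutator N).index → ν ∈ Inv E → ν = 1 :=
    fun ν c hc h hi => eq_one_of_coprime (A := N →* ℂˣ) h (pow_eq_one_of_inv hG hi hc) (pw ν)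
  obtain ⟨d, -, hd⟩ := hθ.exists_degree
  obtain ⟨e, he, -⟩ := ha.data hG hθ hd
  have hs := ol_dvd hG hθ ha
  have ht := ol_dvd hG (isIrrCharacter_linear μ) hb
  have hst : (ol E θ).Coprime (ol E (lin μ)) := (hab.coprime_dvd_left hs).coprime_dvd_right ht
  refine ⟨fun h => ?_, fun c hc => ⟨fun hac => ?_, fun hbc => ?_⟩⟩
  · rw [(ol_eq_of_mul_eq_one (E := E) h).2, Nat.coprime_self] at hst
    exact hμ (ninv μ b hb h2 (inv_iff.mpr hst))
  · obtain ⟨e', he', -⟩ := hc.data hG (lin_mul_irr hθ μ) (d := d) (by simp [hd, lin])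
    have hd1 : d = 1 := Nat.eq_one_of_dvd_coprimes hac ⟨e * ol E θ, by rw [he]; ring⟩
      ⟨e' * ol E (lin μ * θ), by rw [he']; ring⟩
    subst hd1
    obtain ⟨ν, rfl⟩ := hθ.isCharacter.exists_linear (by simpa using hd)
    have hk := ol_dvd hG (lin_mul_irr hθ μ) hc
    have := inv_of_coprime (isIrrCharacter_linear μ) (d := 1) (by simp) (pw ν)
      (by rw [one_mul]; exact (h2.coprime_dvd_left ht).symm) hst.symm
      (by rw [mul_comm]; exact ((hac.coprime_dvd_left hs).coprime_dvd_right hk).symm)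
    exact hθ1 (by rw [ninv ν a ha h1 this]; rfl)
  · have hk := ol_dvd hG (lin_mul_irr hθ μ) hc
    exact hμ (ninv μ b hb h2 (inv_of_coprime hθ hd (pw μ) (h1.symm.coprime_dvd_right ⟨e, by rw [he]; ring⟩) hst
      ((hbc.coprime_dvd_left ht).coprime_dvd_right hk).symm))

end emb

section graph
variable {G : Type*} [Group G] [Fintype G] {N : Subgroup G} [N.Normal] [Fintype N]

theorem mem_rel {c : ℕ} : c ∈ relCharDegrees N ↔
    ∃ θ : N → ℂ, IsIrrCharacter N θ ∧ (θ ≠ fun _ => 1) ∧ Over (NEmb.ofNormal N) c θ := by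
  constructor
  · rintro ⟨χ, ⟨x, hx, h1⟩, rfl⟩
    obtain ⟨θ, hθ, h2⟩ := exists_irr_under_hom (NEmb.ofNormal N).f χ.2
    refine ⟨θ, hθ, ?_, χ.1, χ.2, (H8.coe_charDegree χ.2.isCharacter).symm, h2⟩
    rintro rfl
    exact h1 (((NEmb.ofNormal N).inner_res_one_ne_zero_iff χ.2).mp h2 ⟨x, hx⟩)
  · rintro ⟨θ, hθ, h1, χ, hχ, hc, h2⟩
    refine ⟨⟨χ, hχ⟩, ?_, charDegree_eq_of hc⟩
    by_contra hcon
    push Not at hcon
    obtain ⟨g, hg⟩ := (NEmb.ofNormal N).exists_cj_eq_of_constituents hχ isIrrCharacter_one hθ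
      (((NEmb.ofNormal N).inner_res_one_ne_zero_iff hχ).mpr fun n => hcon n n.2) h2
    exact h1 hg.symm

omit [Fintype G] [N.Normal] [Fintype N] in
theorem index_comm : (commutator N).index = (⁅N, N⁆ : Subgroup G).relIndex N := by
  rw [← Subgroup.map_subtype_commutator, Subgroup.relIndex, Subgroup.subgroupOf,
    Subgroup.comap_map_eq_self_of_injective N.subtype_injective]

omit [Fintype G] [N.Normal] [Fintype N] in
theorem rel_ne {a : ℕ} (h : a ∈ relCharDegrees N) : a ≠ 0 := by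
  obtain ⟨χ, -, rfl⟩ := h
  exact (H8.irr_charDegree_pos χ).ne'

/-- the common divisor graph on a set -/
abbrev Γ (R : Set ℕ) : SimpleGraph R := commonDivisorGraph.induce R

theorem adj_of {R : Set ℕ} {a b : R} (hb : b.1 ≠ 0) (hne : a ≠ b) (h : ¬ a.1.Coprime b.1) : (Γ R).Adj a b :=
  ⟨fun e => hne (Subtype.ext e), one_lt_gcd hb h⟩

theorem reach_of {R : Set ℕ} {a b : R} (hb : b.1 ≠ 0) (h : ¬ a.1.Coprime b.1) : (Γ R).Reachable a b := by
  by_cases e : a = b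
  · rw [e]
  · exact (adj_of hb e h).reachable

theorem not_cop {p a b : ℕ} (hp : p ≠ 1) (ha : p ∣ a) (hb : p ∣ b) : ¬ a.Coprime b :=
  fun h => hp (Nat.eq_one_of_dvd_coprimes h ha hb)

theorem lin_ne {H : Type*} [Group H] {lam : H →* ℂˣ} (h : lam ≠ 1) : lin lam ≠ fun _ => 1 :=
  fun e => h (MonoidHom.ext fun n => Units.ext (congrFun e n))

theorem pd (hNG : N ≤ commutator G) {p : ℕ} (hp : p.Prime) (h : p ∣ (⁅N, N⁆ : Subgroup G).relIndex N) :
    ∃ (lam : N →* ℂˣ) (b : relCharDegrees N), lam ≠ 1 ∧ lam ^ p = 1 ∧ Over (NEmb.ofNormal N) b (lin lam) ∧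
      (ol (NEmb.ofNormal N) (lin lam) = 1 → p ∣ b.1) ∧
      ∀ a : relCharDegrees N, ¬ p ∣ a.1 → (Γ _).Reachable a b := by
  have hG : (NEmb.ofNormal N).f.range ≤ commutator G := by rwa [NEmb.ofNormal_range]
  obtain ⟨lam, h1, h2, h3⟩ := exists_lam (E := NEmb.ofNormal N) hp (index_comm (N := N) ▸ h)
  obtain ⟨b, hb⟩ := exists_over (E := NEmb.ofNormal N) (isIrrCharacter_linear lam)
  have hbR : b ∈ relCharDegrees N := mem_rel.mpr ⟨_, isIrrCharacter_linear lam, lin_ne h1, hb⟩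
  have htb := ol_dvd hG (isIrrCharacter_linear lam) hb
  have hpb : ol (NEmb.ofNormal N) (lin lam) = 1 → p ∣ b := fun e => by
    by_contra hc
    exact h1 (eq_one_of_coprime (A := N →* ℂˣ) (hp.coprime_iff_not_dvd.mpr hc) h2
      (pow_eq_one_of_inv hG (inv_iff.mpr e) hb))
  refine ⟨lam, ⟨b, hbR⟩, h1, h2, hb, hpb, fun a ha => ?_⟩
  by_cases hat : a.1.Coprime (ol (NEmb.ofNormal N) (lin lam))
  swap
  · exact reach_of hb.ne_zero fun e => hat (e.coprime_dvd_right htb)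
  obtain ⟨θ, hθ, hθ1, hov⟩ := mem_rel.mp a.2
  obtain ⟨m1, m2⟩ := main hG hθ hθ1 hov hp h1 h2 h3 ha hat
  obtain ⟨c, hc⟩ := exists_over (E := NEmb.ofNormal N) (lin_mul_irr hθ lam)
  obtain ⟨m3, m4⟩ := m2 c hc
  refine (reach_of (b := ⟨c, mem_rel.mpr ⟨_, lin_mul_irr hθ lam, m1, hc⟩⟩) hc.ne_zero m3).trans
    (reach_of hb.ne_zero ?_)
  rcases m4 with e | ⟨e, e'⟩
  · exact fun e' => e (e'.coprime_dvd_right htb)
  · exact not_cop hp.ne_one e' (hpb e)

theorem sep (hNG : N ≤ commutator G) {a a' : relCharDegrees N} (h : ¬ (Γ _).Reachable a a') {p : ℕ} (hp : p.Prime)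
    (hpm : p ∣ (⁅N, N⁆ : Subgroup G).relIndex N) (hpa : p ∣ a'.1) {r : ℕ} (hr : r.Prime)
    (hrm : r ∣ (⁅N, N⁆ : Subgroup G).relIndex N) : r ∣ a'.1 ∧ ¬ r ∣ a.1 := by
  have hG : (NEmb.ofNormal N).f.range ≤ commutator G := by rwa [NEmb.ofNormal_range]
  have nb : ∀ q : ℕ, q.Prime → q ∣ a'.1 → ¬ q ∣ a.1 := fun q hq h1 h2 =>
    h (reach_of (rel_ne a'.2) (not_cop hq.ne_one h2 h1))
  suffices h1 : r ∣ a'.1 from ⟨h1, nb r hr h1⟩
  by_contra hra
  have hrp : p ≠ r := fun e => hra (e ▸ hpa)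
  obtain ⟨lam, b, l1, l2, l3, l4, l5⟩ := pd hNG hp hpm
  obtain ⟨ν, b', n1, n2, n3, n4, n5⟩ := pd hNG hr hrm
  have r1 := l5 a (nb p hp hpa)
  have r2 := n5 a' hra
  have hra' : r ∣ a.1 := by
    by_contra e; exact h ((n5 a e).trans r2.symm)
  have t1 : ol (NEmb.ofNormal N) (lin lam) ≠ 1 := fun e =>
    h (r1.trans (reach_of (rel_ne a'.2) (not_cop hp.ne_one (l4 e) hpa)))
  have t2 : ol (NEmb.ofNormal N) (lin ν) ≠ 1 := fun e =>
    h ((reach_of (rel_ne b'.2) (not_cop hr.ne_one hra' (n4 e))).trans r2.symm)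
  have hcop := (Nat.coprime_primes hp hr).mpr hrp
  obtain ⟨c, hc⟩ := exists_over (E := NEmb.ofNormal N) (isIrrCharacter_linear (lam * ν))
  have hk := ol_dvd hG (isIrrCharacter_linear _) hc
  have d1 := (ol_dvd_mul (E := NEmb.ofNormal N) hcop l2 n2).trans hk
  have d2 := ol_dvd_mul (E := NEmb.ofNormal N) hcop.symm n2 l2
  rw [show ν * lam = lam * ν from mul_comm (G := N →* ℂˣ) _ _] at d2
  have hne : lam * ν ≠ 1 := fun e => by
    have := ol_dvd_mul (E := NEmb.ofNormal N) hcop l2 n2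
    rw [e, inv_iff.mp (one_mem _)] at this
    exact t1 (Nat.dvd_one.mp this)
  have cR : c ∈ relCharDegrees N := mem_rel.mpr ⟨_, isIrrCharacter_linear _, lin_ne hne, hc⟩
  exact h (((r1.trans (reach_of (b := ⟨c, cR⟩) hc.ne_zero
    (not_cop t1 (ol_dvd hG (isIrrCharacter_linear _) l3) d1))).trans (reach_of (rel_ne b'.2)
      (not_cop t2 (d2.trans hk) (ol_dvd hG (isIrrCharacter_linear _) n3)))).trans r2.symm)

omit [Fintype G] [N.Normal] [Fintype N] in
theorem exists_p (hN : ⁅N, N⁆ < N) : ∃ p : ℕ, p.Prime ∧ p ∣ (⁅N, N⁆ : Subgroup G).relIndex N :=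
  Nat.exists_prime_and_dvd fun e => hN.not_ge (Subgroup.relIndex_eq_one.mp e)

theorem thmA2 (hN : ⁅N, N⁆ < N) (hNG : N ≤ commutator G) {a b : relCharDegrees N} (h : ¬ (Γ _).Reachable a b) :
    (Nat.Coprime a (⁅N, N⁆.relIndex N) ∧ ∀ r : ℕ, r.Prime → r ∣ ⁅N, N⁆.relIndex N → r ∣ b) ∨
      (Nat.Coprime b (⁅N, N⁆.relIndex N) ∧ ∀ r : ℕ, r.Prime → r ∣ ⁅N, N⁆.relIndex N → r ∣ a) := by
  obtain ⟨p, hp, hpm⟩ := exists_p hN
  by_cases hb : p ∣ b.1
  · exact Or.inl ⟨(Nat.coprime_of_dvd fun r hr hrm => (sep hNG h hp hpm hb hr hrm).2).symm,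
      fun r hr hrm => (sep hNG h hp hpm hb hr hrm).1⟩
  by_cases ha : p ∣ a.1
  · have h' := fun e => h (SimpleGraph.Reachable.symm e)
    exact Or.inr ⟨(Nat.coprime_of_dvd fun r hr hrm => (sep hNG h' hp hpm ha hr hrm).2).symm,
      fun r hr hrm => (sep hNG h' hp hpm ha hr hrm).1⟩
  obtain ⟨-, b', -, -, -, -, l5⟩ := pd hNG hp hpm
  exact (h ((l5 a ha).trans (l5 b hb).symm)).elim

theorem thmA1 (hN : ⁅N, N⁆ < N) (hNG : N ≤ commutator G) :
    Nat.card (Γ (relCharDegrees N)).ConnectedComponent ≤ 2 := by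
  obtain ⟨p, hp, hpm⟩ := exists_p hN
  obtain ⟨-, b, -, -, -, -, l5⟩ := pd hNG hp hpm
  obtain ⟨x, hx⟩ : ∃ x : relCharDegrees N, ∀ a : relCharDegrees N, p ∣ a.1 → (Γ _).Reachable a x := by
    by_cases h : ∃ x : relCharDegrees N, p ∣ x.1
    · obtain ⟨x, hx⟩ := h
      exact ⟨x, fun a ha => reach_of (rel_ne x.2) (not_cop hp.ne_one ha hx)⟩
    · exact ⟨b, fun a ha => (h ⟨a, ha⟩).elim⟩
  have := Nat.card_le_card_of_surjective (fun i : Fin 2 => (Γ (relCharDegrees N)).connectedComponentMk (![b, x] i))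
    (fun C => by
      obtain ⟨a, rfl⟩ := C.exists_rep
      by_cases ha : p ∣ a.1
      · exact ⟨1, (SimpleGraph.ConnectedComponent.sound (hx a ha)).symm⟩
      · exact ⟨0, (SimpleGraph.ConnectedComponent.sound (l5 a ha)).symm⟩)
  simpa using this

theorem mem_rel_der {a : ℕ} {θ : N → ℂ} (hθ : IsIrrCharacter N θ) (h1 : θ 1 ≠ 1) (h : Over (NEmb.ofNormal N) a θ) :
    a ∈ relCharDegrees (⁅N, N⁆ : Subgroup G) := by
  obtain ⟨χ, hχ, hc, h2⟩ := h
  refine ⟨⟨χ, hχ⟩, ?_, charDegree_eq_of hc⟩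
  by_contra hcon
  push Not at hcon
  have h3 := hχ.isCharacter.comp (NEmb.ofNormal N).f
  refine h1 (hθ.commutator_le_charKer_iff.mp (le_trans (fun x hx => h3.mem_charKer.mpr ?_)
    (h3.charKer_le_of_constituent hθ h2)))
  rw [map_one]
  exact hcon x (Subgroup.map_subtype_commutator N ▸ Subgroup.mem_map_of_mem N.subtype hx)

theorem dvd_of_over_der [Fintype (⁅N, N⁆ : Subgroup G)] (hNG : N ≤ commutator G) {φ : (⁅N, N⁆ : Subgroup G) →* ℂˣ}
    (hφ : φ ≠ 1) {b : ℕ} (h : Over (NEmb.ofNormal (⁅N, N⁆ : Subgroup G)) b (lin φ)) :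
    ¬ b.Coprime ((⁅N, N⁆ : Subgroup G).relIndex N) := by
  have hG : (NEmb.ofNormal N).f.range ≤ commutator G := by rwa [NEmb.ofNormal_range]
  obtain ⟨χ, hχ, hc, h2⟩ := h
  obtain ⟨θ, hθ, h3⟩ := exists_irr_under_hom (NEmb.ofNormal N).f hχ
  have hle : (⁅N, N⁆ : Subgroup G) ≤ N := Subgroup.commutator_le_left N N
  let E' : NEmb (⁅N, N⁆ : Subgroup G) N := NEmb.ofLeNormal hle
  obtain ⟨η, hη, h4⟩ := exists_irr_under_hom E'.f hθ
  have h5 : classInner (fun n => χ ((NEmb.ofNormal (⁅N, N⁆ : Subgroup G)).f n)) η ≠ 0 := by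
    have c1 := ((hχ.isCharacter.comp (NEmb.ofNormal N).f).sub_irr hθ h3).comp E'.f
    obtain ⟨k, hk⟩ := c1.classInner_nat hη.isCharacter
    obtain ⟨l, hl⟩ := (hθ.isCharacter.comp E'.f).classInner_nat hη.isCharacter
    have e : (fun n => χ ((NEmb.ofNormal (⁅N, N⁆ : Subgroup G)).f n)) =
        (fun x => ((fun n => χ ((NEmb.ofNormal N).f n)) - θ) (E'.f x)) + fun x => θ (E'.f x) := by
      ext x; simp only [Pi.add_apply, Pi.sub_apply, sub_add_cancel]; rfl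
    rw [e, classInner_add_left, hk, hl, ← Nat.cast_add, Nat.cast_ne_zero]
    rw [hl, Nat.cast_ne_zero] at h4
    omega
  obtain ⟨g, hg⟩ := (NEmb.ofNormal _).exists_cj_eq_of_constituents hχ hη (isIrrCharacter_linear φ) h5 h2
  have h6 : η 1 = 1 := by rw [← (NEmb.ofNormal _).cj_apply_one η g, hg]; simp
  obtain ⟨d, hdm, hd⟩ := E'.degree_dvd_index hη hθ h4
  rw [h6, mul_one] at hd
  rw [NEmb.ofLeNormal_index] at hdm
  obtain ⟨e, he, -⟩ := Over.data hG hθ hd ⟨χ, hχ, hc, h3⟩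
  refine not_cop (fun e1 => ?_) ⟨e * ol (NEmb.ofNormal N) θ, by rw [he]; ring⟩ hdm
  have h7 : θ 1 = 1 := by rw [hd, e1]; simp
  have h8 : (fun x => θ (E'.f x)) = fun _ => 1 := by
    ext x
    rw [← h7]
    refine apply_of_mem_charKer (hθ.commutator_le_charKer_iff.mpr h7 ?_)
    have hx := x.2
    obtain ⟨y, hy, e⟩ := (Subgroup.map_subtype_commutator N).ge hx
    rwa [← (Subtype.ext e : y = E'.f x)]
  rw [h8] at h4
  rw [← isIrrCharacter_one.eq_of_classInner_ne_zero hη h4] at hg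
  exact lin_ne hφ hg.symm

theorem thmB (hs : Group.IsSolvable N) (hNG : N ≤ commutator G) (hdisc : ¬ (Γ (relCharDegrees N)).Preconnected) :
    ∃ a₀ : relCharDegrees N, (∀ b c : relCharDegrees N, (Γ _).Reachable a₀ b → (Γ _).Reachable a₀ c → b ≠ c →
      (Γ _).Adj b c) ∧ ∀ b c : relCharDegrees N, ¬ (Γ _).Reachable a₀ b → ¬ (Γ _).Reachable a₀ c → b ≠ c →
      (Γ _).Adj b c ∨ ∃ d, (Γ _).Adj b d ∧ (Γ _).Adj d c := by
  have hG : (NEmb.ofNormal N).f.range ≤ commutator G := by rwa [NEmb.ofNormal_range]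
  have nb : ∀ {K : Subgroup G} {a : ℕ}, a ∈ relCharDegrees K → K ≠ ⊥ := by
    rintro K a ⟨χ, ⟨x, hx, h1⟩, -⟩ rfl
    exact h1 (by rw [Subgroup.mem_bot.mp hx])
  simp only [SimpleGraph.Preconnected, not_forall] at hdisc
  obtain ⟨u, v, huv⟩ := hdisc
  have hN : ⁅N, N⁆ < N := H1.commutator_lt_of_isSolvable hs (nb u.2)
  obtain ⟨a₀, u₀, h0, hu, ha⟩ : ∃ a₀ u₀ : relCharDegrees N, ¬ (Γ _).Reachable a₀ u₀ ∧
      Nat.Coprime u₀ (⁅N, N⁆.relIndex N) ∧ ∀ r : ℕ, r.Prime → r ∣ ⁅N, N⁆.relIndex N → r ∣ a₀ := by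
    rcases thmA2 hN hNG huv with ⟨h1, h2⟩ | ⟨h1, h2⟩
    · exact ⟨v, u, fun e => huv e.symm, h1, h2⟩
    · exact ⟨u, v, huv, h1, h2⟩
  obtain ⟨p, hp, hpm⟩ := exists_p hN
  obtain ⟨-, b₀, -, -, -, -, l5⟩ := pd hNG hp hpm
  have f1 : ∀ x : relCharDegrees N, ¬ (Γ _).Reachable a₀ x → Nat.Coprime x (⁅N, N⁆.relIndex N) := fun x hx =>
    Nat.coprime_of_dvd fun r hr h1 h2 => hx (reach_of (rel_ne x.2) (not_cop hr.ne_one (ha r hr h2) h1))
  have f2 : ∀ x : relCharDegrees N, (Γ _).Reachable a₀ x → p ∣ x.1 := fun x hx => by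
    by_contra hc
    exact h0 ((hx.trans (l5 x hc)).trans (l5 u₀ fun e => not_cop hp.ne_one e hpm hu).symm)
  refine ⟨a₀, fun b c hb hc hne => adj_of (rel_ne c.2) hne (not_cop hp.ne_one (f2 b hb) (f2 c hc)),
    fun b c hb hc hne => ?_⟩
  by_cases hbc : b.1.Coprime c.1
  swap
  · exact Or.inl (adj_of (rel_ne c.2) hne hbc)
  right
  have key : ∀ b c : relCharDegrees N, ¬ (Γ _).Reachable a₀ b → ¬ (Γ _).Reachable a₀ c → b.1.Coprime c.1 →
      ∀ θ : N → ℂ, IsIrrCharacter N θ → θ 1 = 1 → (θ ≠ fun _ => 1) → Over (NEmb.ofNormal N) c θ →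
      ∃ d, (Γ _).Adj b d ∧ (Γ _).Adj d c := by
    intro b c hb hc hbc θ hθ h1 h2 h3
    obtain ⟨μ, rfl⟩ := hθ.isCharacter.exists_linear h1
    obtain ⟨θ, hθ, hθ1, hov⟩ := mem_rel.mp b.2
    obtain ⟨m1, m2⟩ := common hG hθ hθ1 (μ := μ) (fun e => h2 (by rw [e]; rfl)) hov h3 hbc
      (index_comm (N := N) ▸ f1 b hb) (index_comm (N := N) ▸ f1 c hc)
    obtain ⟨d, hd⟩ := exists_over (E := NEmb.ofNormal N) (lin_mul_irr hθ μ)
    obtain ⟨m3, m4⟩ := m2 d hd
    refine ⟨⟨d, mem_rel.mpr ⟨_, lin_mul_irr hθ μ, m1, hd⟩⟩, adj_of hd.ne_zero (fun e => m4 ?_) m3,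
      (adj_of hd.ne_zero (fun e => m3 ?_) m4).symm⟩
    · rw [← show b.1 = d from congrArg Subtype.val e]; exact hbc.symm
    · rw [← show c.1 = d from congrArg Subtype.val e]; exact hbc
  obtain ⟨θ, hθ, hθ1, hov⟩ := mem_rel.mp b.2
  obtain ⟨θ', hθ', hθ1', hov'⟩ := mem_rel.mp c.2
  by_cases e' : θ' 1 = 1
  · exact key b c hb hc hbc θ' hθ' e' hθ1' hov'
  by_cases e : θ 1 = 1
  · obtain ⟨d, h1, h2⟩ := key c b hc hb hbc.symm θ hθ e hθ1 hov
    exact ⟨d, h2.symm, h1.symm⟩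
  exfalso
  have bM := mem_rel_der hθ e hov
  have cM := mem_rel_der hθ' e' hov'
  have hle : (⁅N, N⁆ : Subgroup G) ≤ N := hN.le
  have := Fintype.ofFinite (⁅N, N⁆ : Subgroup G)
  obtain ⟨r, hr, hrm⟩ := exists_p (H1.commutator_lt_of_isSolvable (H1.isSolvable_of_le hle hs) (nb bM))
  obtain ⟨φ, b', k1, -, k3, -, k5⟩ := pd (hle.trans hNG) hr hrm
  have hsub : relCharDegrees (⁅N, N⁆ : Subgroup G) ≤ relCharDegrees N := by
    rintro _ ⟨χ, ⟨x, hx, h1⟩, rfl⟩
    exact ⟨χ, ⟨x, hle hx, h1⟩, rfl⟩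
  have h9 : (Γ _).Reachable a₀ ⟨b'.1, hsub b'.2⟩ := by
    by_contra hc
    exact dvd_of_over_der hNG k1 k3 (f1 _ hc)
  have dv : ∀ x : relCharDegrees N, x.1 ∈ relCharDegrees (⁅N, N⁆ : Subgroup G) → ¬ (Γ _).Reachable a₀ x → r ∣ x.1 := by
    intro x hx hx'
    by_contra hc
    exact hx' (h9.trans ((k5 ⟨x.1, hx⟩ hc).map (commonDivisorGraph.induceHomOfLE hsub).toHom).symm)
  exact not_cop hr.ne_one (dv b bM hb) (dv c cM hc) hbc

end graph

end Cfsg.Agent.H2.RDeg
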