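import Cfsg.Agent.H2.Schmidt
import Cfsg.Agent.H3.Action
import Cfsg.Agent.H1.Generation
import Cfsg.Agent.H9.PLen

/-! Semi-extraspecial Sylow subgroups of `p`-solvable groups. -/

namespace Cfsg.Agent.H2.SE
open Subgroup
open scoped Pointwise commutatorElement IsMulCommutative

variable {G G' : Type*} [Group G] [Group G'] {p : ℕ}

/-- properties of the normal Sylow subgroup of a minimal non-nilpotent group -/
structure SE (p : ℕ) (P : Subgroup G) : Prop where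
  cent : ⁅P, P⁆ ≤ centralizer (P : Set G)
  pow : ∀ x ∈ P, x ^ p ∈ ⁅P, P⁆
  surj : ∀ x ∈ P, x ∉ ⁅P, P⁆ → ∀ d ∈ ⁅P, P⁆, ∃ y ∈ P, ⁅x, y⁆ = d
  exc : p ≤ 3 → ∀ M ≤ P, M.relIndex P = p → ⁅P, P⁆ ≤ M → ∀ H < ⁅P, P⁆, (∀ a ∈ M, ∀ b ∈ M, ⁅a, b⁆ ∈ H) →
    (∀ a ∈ M, a ^ p ∈ H) → False

theorem SE.map {P : Subgroup G} (h : SE p P) (f : G →* G') : SE p (P.map f) where
  cent := by
    rw [← map_commutator]
    rintro _ ⟨d, hd, rfl⟩ _ ⟨x, hx, rfl⟩
    rw [← map_mul, ← map_mul, h.cent hd x hx]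
  pow := by
    rintro _ ⟨x, hx, rfl⟩
    rw [← map_commutator, ← map_pow]
    exact mem_map_of_mem f (h.pow x hx)
  surj := by
    rw [← map_commutator]
    rintro _ ⟨x, hx, rfl⟩ hx' _ ⟨d, hd, rfl⟩
    obtain ⟨y, hy, rfl⟩ := h.surj x hx (fun h => hx' (mem_map_of_mem f h)) d hd
    exact ⟨f y, mem_map_of_mem f hy, (map_commutatorElement f x y).symm⟩
  exc := fun hp M hM h1 h2 H h3 h4 h5 => by
    rw [← map_commutator] at h2 h3
    refine h.exc hp (M.comap f ⊓ P) inf_le_right (by rw [inf_relIndex_right, relIndex_comap, h1])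
      (le_inf (map_le_iff_le_comap.1 h2) (commutator_le_self _)) (H.comap f ⊓ ⁅P, P⁆)
      (lt_of_le_of_ne inf_le_right fun e => h3.not_ge (map_le_iff_le_comap.2 (inf_eq_right.1 e)))
      (fun a ha b hb => ⟨?_, commutator_mem_commutator ha.2 hb.2⟩) fun a ha => ⟨?_, h.pow a ha.2⟩
    · exact mem_comap.2 (map_commutatorElement f a b ▸ h4 _ ha.1 _ hb.1)
    · exact mem_comap.2 (map_pow f a p ▸ h5 _ ha.1)

theorem SE.of_map {P : Subgroup G} {f : G →* G'} (hf : Function.Injective f) (h : SE p (P.map f)) : SE p P where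
  cent := fun d hd x hx => hf (by
    rw [map_mul, map_mul]
    exact h.cent (map_commutator P P f ▸ mem_map_of_mem f hd) _ (mem_map_of_mem f hx))
  pow := fun x hx => by
    have := h.pow _ (mem_map_of_mem f hx)
    rwa [← map_commutator, ← map_pow, mem_map_iff_mem hf] at this
  surj := fun x hx hx' d hd => by
    obtain ⟨_, ⟨y, hy, rfl⟩, e⟩ := h.surj _ (mem_map_of_mem f hx)
      (by rwa [← map_commutator, mem_map_iff_mem hf]) (f d) (map_commutator P P f ▸ mem_map_of_mem f hd)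
    exact ⟨y, hy, hf (by rw [map_commutatorElement, e])⟩
  exc := fun hp M hM h1 h2 H h3 h4 h5 => by
    refine h.exc hp (M.map f) (map_mono hM) (by rw [relIndex_map_map_of_injective _ _ hf, h1])
      (map_commutator P P f ▸ map_mono h2) (H.map f) (map_commutator P P f ▸ (map_lt_map_iff_of_injective hf).2 h3)
      ?_ ?_
    · rintro _ ⟨a, ha, rfl⟩ _ ⟨b, hb, rfl⟩
      exact map_commutatorElement f a b ▸ mem_map_of_mem f (h4 a ha b hb)
    · rintro _ ⟨a, ha, rfl⟩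
      exact map_pow f a p ▸ mem_map_of_mem f (h5 a ha)

theorem le_or_le_of_prime {M T P : Subgroup G} (hp : p.Prime) (h : M.relIndex P = p) (h1 : M ≤ T) (h2 : T ≤ P) :
    T ≤ M ∨ P ≤ T := by
  have h3 := relIndex_mul_relIndex M T P h1 h2
  rw [h] at h3
  rcases (Nat.dvd_prime hp).1 (Dvd.intro _ h3) with h4 | h4
  · exact Or.inl (relIndex_eq_one.1 h4)
  · rw [h4] at h3
    exact Or.inr (relIndex_eq_one.1 (Nat.eq_of_mul_eq_mul_left hp.pos (by rw [h3, mul_one])))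

theorem comm_mul_right {w g h : G} (hc : g * ⁅w, h⁆ = ⁅w, h⁆ * g) : ⁅w, g * h⁆ = ⁅w, g⁆ * ⁅w, h⁆ := by
  calc ⁅w, g * h⁆ = ⁅w, g⁆ * (g * ⁅w, h⁆) * g⁻¹ := by simp only [commutatorElement_def]; group
    _ = _ := by rw [hc]; group

/-- elements of `P` whose commutator with `w` lies in `H` -/
def cset {P : Subgroup G} (hP : ⁅P, P⁆ ≤ centralizer (P : Set G)) {w : G} (hw : w ∈ P) (H : Subgroup G) :
    Subgroup G where
  carrier := {g | g ∈ P ∧ ⁅w, g⁆ ∈ H}
  one_mem' := ⟨P.one_mem, by simp⟩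
  mul_mem' := fun {a b} ha hb => ⟨mul_mem ha.1 hb.1, by
    rw [comm_mul_right (hP (commutator_mem_commutator hw hb.1) a ha.1)]
    exact mul_mem ha.2 hb.2⟩
  inv_mem' := fun {a} ha => ⟨inv_mem ha.1, by
    have h1 := comm_mul_right (hP (commutator_mem_commutator hw (inv_mem ha.1)) a ha.1)
    rw [mul_inv_cancel, commutatorElement_one_right] at h1
    rw [eq_inv_of_mul_eq_one_right h1.symm]
    exact inv_mem ha.2⟩

theorem se_of_minAct [Finite G] [hp : Fact p.Prime] {P : Subgroup G} [P.Normal] {a : G} {q : ℕ} (hq : q.Prime)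
    (hqp : q ≠ p) (hA : IsPGroup q (zpowers a)) (h : H3.MinAct p P (zpowers a))
    (haq : a ^ q ∈ centralizer (P : Set G)) : SE p P := by
  have hcent : ⁅P, P⁆ ≤ centralizer (P : Set G) ⊓ centralizer (zpowers a : Set G) :=
    commutator_le.2 fun x hx y hy => h.commutator_mem hx hy
  have hc1 := hcent.trans inf_le_left
  have hDa : ∀ d ∈ ⁅P, P⁆, a * d * a⁻¹ = d := fun d hd =>
    mul_inv_eq_iff_eq_mul.2 ((hcent hd).2 a (mem_zpowers a))
  have hCA : ∀ x ∈ P, x ∈ centralizer (zpowers a : Set G) → x ∈ ⁅P, P⁆ := fun x hx hx' => by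
    haveI : IsMulCommutative (P.map (QuotientGroup.mk' ⁅P, P⁆)) := isMulCommutative_of_forall (by
      rintro _ ⟨u, hu, rfl⟩ _ ⟨v, hv, rfl⟩
      rw [← commutatorElement_eq_one_iff_mul_comm, ← map_commutatorElement]
      exact (QuotientGroup.eq_one_iff _).2 (commutator_mem_commutator hu hv))
    haveI := Normal.map ‹P.Normal› _ (QuotientGroup.mk'_surjective ⁅P, P⁆)
    have h1 := H1.inf_centralizer_inf_commutator_eq_bot (A := (zpowers a).map (QuotientGroup.mk' ⁅P, P⁆))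
      (V := P.map (QuotientGroup.mk' ⁅P, P⁆)) le_normalizer_of_normal
      ((h.coprime_card.coprime_dvd_left (card_map_dvd _ _)).coprime_dvd_right (card_map_dvd _ _))
    rw [← map_commutator, h.commutator_eq] at h1
    have h2 : QuotientGroup.mk' ⁅P, P⁆ x ∈ (⊥ : Subgroup _) := h1 ▸ ⟨⟨mem_map_of_mem _ hx, by
      rintro _ ⟨u, hu, rfl⟩
      rw [← map_mul, ← map_mul, hx' u hu]⟩, mem_map_of_mem _ hx⟩
    exact (QuotientGroup.eq_one_iff _).1 h2
  have hDP : ⁅P, P⁆ ≤ P := commutator_le_self _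
  have hinv : ∀ C, ⁅P, P⁆ ≤ C → C ≤ P → (∀ c ∈ C, a * c * a⁻¹ ∈ C) → C ≤ ⁅P, P⁆ ∨ P ≤ C := fun C h1 h2 h3 => by
    rcases h2.lt_or_eq with h4 | h4
    · exact Or.inl fun c hc => hCA c (h2 hc) (le_centralizer_iff.1
        (h.min C h4 (zpowers_le.2 (H3.mem_normalizer_of_conj_mem h3))) hc)
    · exact Or.inr h4.ge
  have hconj : ∀ x y : G, ⁅a * x * a⁻¹, a * y * a⁻¹⁆ = a * ⁅x, y⁆ * a⁻¹ := fun x y => by
    simp only [commutatorElement_def]; group
  have hsurj : ∀ x ∈ P, x ∉ ⁅P, P⁆ → ∀ H : Subgroup G, (∀ y ∈ P, ⁅x, y⁆ ∈ H) → ⁅P, P⁆ ≤ H := by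
    intro x hx hx' H hH
    let Z : Subgroup G := P ⊓ ⨅ y : P, cset hc1 y.2 H
    have hZ : ∀ z, z ∈ Z ↔ z ∈ P ∧ ∀ y ∈ P, ⁅y, z⁆ ∈ H := fun z => by
      simp only [Z, mem_inf, mem_iInf, Subtype.forall]
      exact ⟨fun h => ⟨h.1, fun y hy => (h.2 y hy).2⟩, fun h => ⟨h.1, fun y hy => ⟨h.1, h.2 y hy⟩⟩⟩
    rcases hinv Z (fun d hd => (hZ d).2 ⟨hDP hd, fun y hy => by
        rw [commutatorElement_eq_one_iff_mul_comm.2 (hc1 hd y hy)]; exact H.one_mem⟩) inf_le_left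
      (fun c hc => (hZ _).2 ⟨Normal.conj_mem ‹_› c hc.1 a, fun y hy => by
        have hy' : a⁻¹ * y * a⁻¹⁻¹ ∈ P := Normal.conj_mem ‹_› y hy a⁻¹
        have e : y = a * (a⁻¹ * y * a⁻¹⁻¹) * a⁻¹ := by group
        rw [e, hconj, hDa _ (commutator_mem_commutator hy' hc.1)]
        exact ((hZ c).1 hc).2 _ hy'⟩) with h1 | h1
    · exact absurd (h1 ((hZ x).2 ⟨hx, fun y hy => by
        rw [← commutatorElement_inv]; exact inv_mem (hH y hy)⟩)) hx'
    · exact commutator_le.2 fun y hy z hz => ((hZ z).1 (h1 hz)).2 y hy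
  have hab : ∀ c ∈ P, ¬ P ≤ ⁅P, P⁆ ⊔ zpowers c ∨ ⁅P, P⁆ = ⊥ := fun c hc => by
    by_cases h1 : P ≤ ⁅P, P⁆ ⊔ zpowers c
    · right
      have h2 : P ≤ centralizer {c} := h1.trans (sup_le (hc1.trans (centralizer_le (by simpa using hc)))
        (zpowers_le.2 (mem_centralizer_singleton_iff.2 rfl)))
      rw [commutator_eq_bot_iff_le_centralizer]
      exact h1.trans (sup_le hc1 (zpowers_le.2 fun y hy => mem_centralizer_singleton_iff.1 (h2 hy)))
    · exact Or.inl h1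
  have hS : ∀ x ∈ P, x ∉ ⁅P, P⁆ → ∀ d ∈ ⁅P, P⁆, ∃ y ∈ P, ⁅x, y⁆ = d := fun x hx hx' d hd => by
    let φ : P →* G := MonoidHom.mk' (fun y => ⁅x, y⁆) fun y z =>
      comm_mul_right (hc1 (commutator_mem_commutator hx z.2) y y.2)
    obtain ⟨y, rfl⟩ := hsurj x hx hx' φ.range (fun y hy => ⟨⟨y, hy⟩, rfl⟩) hd
    exact ⟨y, y.2, rfl⟩
  refine ⟨hc1, fun x hx => hCA _ (pow_mem hx p) (h.pow_mem hx).2, hS,
    fun hp3 M hM h1 h2 H h3 h4 h5 => ?_⟩
  have hD0 : ⁅P, P⁆ ≠ ⊥ := fun e => not_lt_bot (e ▸ h3)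
  have hPM : ¬ P ≤ M := fun e => hp.out.one_lt.ne' (h1.symm.trans (relIndex_eq_one.2 e))
  obtain ⟨x, hx, hx'⟩ : ∃ x ∈ M, x ∉ ⁅P, P⁆ := by
    by_contra hc
    push Not at hc
    obtain ⟨c, hc1', hc2⟩ := SetLike.not_le_iff_exists.1 hPM
    rcases le_or_le_of_prime hp.out h1 (T := ⁅P, P⁆ ⊔ zpowers c) (le_sup_of_le_left hc)
      (sup_le hDP (zpowers_le.2 hc1')) with e | e
    · exact hc2 (e (mem_sup_right (mem_zpowers c)))
    · exact (hab c hc1').elim (fun h => h e) hD0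
  have hnc : ∀ x ∈ P, x ∉ ⁅P, P⁆ → a * x * a⁻¹ ∉ ⁅P, P⁆ := fun x _ hx h => hx (by
    simpa [mul_assoc] using Normal.conj_mem inferInstance _ h a⁻¹)
  have hfix : ∀ c ∈ P, a * c * a⁻¹ ∈ ⁅P, P⁆ ⊔ zpowers c → c ∈ ⁅P, P⁆ := fun c hc hc' => by
    refine ((hinv (⁅P, P⁆ ⊔ zpowers c) le_sup_left (sup_le hDP (zpowers_le.2 hc)) fun d hd => ?_).resolve_right
      ((hab c hc).resolve_right hD0)) (mem_sup_right (mem_zpowers c))
    have : ⁅P, P⁆ ⊔ zpowers c ≤ (⁅P, P⁆ ⊔ zpowers c).comap (MulAut.conj a).toMonoidHom :=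
      sup_le (fun d hd => mem_sup_left (Normal.conj_mem inferInstance d hd a)) (zpowers_le.2 hc')
    exact this hd
  have hMM : ∀ w ∈ M, a * w * a⁻¹ ∈ M → w ∈ ⁅P, P⁆ := fun w hw hw' => by
    by_contra hc
    rcases le_or_le_of_prime hp.out h1 (T := cset hc1 (hM hw') H) (fun m hm => ⟨hM hm, h4 _ hw' _ hm⟩)
      (fun _ h => h.1) with e | e
    · refine ((hinv M h2 hM fun m hm => e ⟨Normal.conj_mem ‹_› _ (hM hm) a, ?_⟩).elim (fun h => hx' (h hx)) hPM)
      rw [hconj, hDa _ (commutator_mem_commutator (hM hw) (hM hm))]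
      exact h4 _ hw _ hm
    · exact h3.not_ge (hsurj _ (hM hw') (hnc w (hM hw) hc) H fun y hy => (e hy).2)
  set y := a * x * a⁻¹ with hy
  have hyP : y ∈ P := Normal.conj_mem ‹_› _ (hM hx) a
  have hyM : y ∉ M := fun h => hx' (hMM x hx h)
  have hp2 : p = 2 ∨ p = 3 := by have := hp.out.two_le; omega
  rcases hp2 with rfl | rfl
  · have idx : ∀ u ∈ P, ∀ v ∈ P, u * v ∈ M ↔ (u ∈ M ↔ v ∈ M) := fun u hu v hv =>
      mul_mem_iff_of_index_two (H := M.subgroupOf P) h1 (a := ⟨u, hu⟩) (b := ⟨v, hv⟩)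
    set z := a * y * a⁻¹ with hz
    have hzP : z ∈ P := Normal.conj_mem ‹_› _ hyP a
    set x' := a⁻¹ * x * a⁻¹⁻¹ with hx''
    have hx'P : x' ∈ P := Normal.conj_mem ‹_› _ (hM hx) a⁻¹
    have e1 : a * x' * a⁻¹ = x := by rw [hx'']; group
    have hx'M : x' ∉ M := fun h => hx' (e1 ▸ Normal.conj_mem inferInstance _ (hMM x' h (e1 ▸ hx)) a)
    have h6 : x' * y ∈ M := (idx _ hx'P _ hyP).2 (iff_of_false hx'M hyM)
    have e2 : ∀ u v : G, a * (u * v) * a⁻¹ = (a * u * a⁻¹) * (a * v * a⁻¹) := fun u v => by group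
    by_cases hzM : z ∈ M
    · have h7 : x * z ∈ ⁅P, P⁆ := by
        have := Normal.conj_mem inferInstance _ (hMM _ h6 (by rw [e2, e1]; exact mul_mem hx hzM)) a
        rwa [e2, e1] at this
      have h8 := hfix (x * y) (mul_mem (hM hx) hyP) (by
        rw [e2]
        have e3 : y * z = (⁅y, x⁻¹⁆ * (x ^ 2)⁻¹) * (x * y) * (x * z) := by
          simp only [commutatorElement_def, pow_two]; group
        rw [← hy, ← hz, e3]
        exact mul_mem (mul_mem (mem_sup_left (mul_mem (commutator_mem_commutator hyP (inv_mem (hM hx)))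
          (inv_mem (hCA _ (pow_mem (hM hx) 2) (h.pow_mem (hM hx)).2)))) (mem_sup_right (mem_zpowers _)))
          (mem_sup_left h7))
      exact hyM ((mul_mem_cancel_left hx).1 (h2 h8))
    · have h7 : x * y * z ∈ ⁅P, P⁆ := by
        have := Normal.conj_mem inferInstance _ (hMM (x' * x * y) (by
          rw [idx _ (mul_mem hx'P (hM hx)) _ hyP, mul_mem_cancel_right hx]; exact iff_of_false hx'M hyM) (by
          rw [e2, e2, e1, idx _ (mul_mem (hM hx) hyP) _ hzP, mul_mem_cancel_left hx]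
          exact iff_of_false hyM hzM)) a
        rwa [e2, e2, e1] at this
      have sq : ∀ u ∈ P, u ^ 2 ∈ H → (a * u * a⁻¹) ^ 2 ∈ H := fun u hu hu' => by
        rw [conj_pow, hDa _ (h3.le hu')]; exact hu'
      have a1 := h5 x hx
      have a2 := sq x (hM hx) a1
      have a3 := sq y hyP a2
      have hD2 : ∀ d ∈ ⁅P, P⁆, d ^ 2 = 1 := fun d hd => by
        obtain ⟨v, hv, rfl⟩ := hS x (hM hx) hx' d hd
        exact h.commutator_pow (hM hx) hv
      have a4 : ⁅x, y⁆ ∈ H := by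
        have c1 := hc1 h7 z hzP
        have c2 := hc1 (commutator_mem_commutator (hM hx) hyP)
        have e4 : (x * y) ^ 2 * z ^ 2 = 1 := by
          rw [← hD2 _ h7]
          calc (x * y) ^ 2 * z ^ 2 = (x * y) * (x * y * z) * z := by simp only [pow_two]; group
            _ = (x * y * z) * (x * y) * z := by rw [hc1 h7 _ (mul_mem (hM hx) hyP)]
            _ = _ := by simp only [pow_two]; group
        have e5 : x ^ 2 * y ^ 2 = ⁅x, y⁆ * (x * y) ^ 2 := by
          calc x ^ 2 * y ^ 2 = (x * ⁅x, y⁆) * (y * x * y) := by simp only [pow_two, commutatorElement_def]; group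
            _ = _ := by rw [c2 x (hM hx)]; simp only [pow_two]; group
        have e6 : ⁅x, y⁆ = x ^ 2 * y ^ 2 * z ^ 2 := by rw [e5, mul_assoc, e4, mul_one]
        rw [e6]
        exact mul_mem (mul_mem a1 a2) a3
      rcases le_or_le_of_prime hp.out h1 (T := cset hc1 (hM hx) H) (fun m hm => ⟨hM hm, h4 _ hx _ hm⟩)
        (fun _ h => h.1) with e | e
      · exact hyM (e ⟨hyP, a4⟩)
      · exact h3.not_ge (hsurj _ (hM hx) hx' H fun y hy => (e hy).2)
  · obtain ⟨n, hn⟩ := (H9.exists_relIndex_eq_pow_iff (p := 3) (N := ⁅P, P⁆) (D := P)).2 fun u hu => by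
      obtain ⟨k, hk⟩ := h.isPGroup ⟨u, hu⟩
      exact ⟨k, by rw [show u ^ 3 ^ k = 1 from congrArg Subtype.val hk]; exact one_mem _⟩
    have hn2 : n ≤ 2 := by
      have a1 : M ⊓ M.comap (MulAut.conj a).toMonoidHom ≤ ⁅P, P⁆ := fun w hw => hMM w hw.1 hw.2
      have a2 : (M.comap (MulAut.conj a).toMonoidHom).relIndex P = 3 := by
        rw [relIndex_comap, H3.map_conj_eq_smul, H3.conj_smul_eq_of_normal, h1]
      have a3 := relIndex_inf_le (H := M) (K := M.comap (MulAut.conj a).toMonoidHom) (L := P)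
      have a4 := relIndex_le_of_le_left (L := P) a1 index_ne_zero_of_finite
      rw [a2, h1] at a3
      rw [hn] at a4
      exact (Nat.pow_le_pow_iff_right (by norm_num : 1 < 3)).1 (a4.trans a3)
    obtain ⟨i, hi1, hi2, hi⟩ := H3.exists_dvd_pow_sub_one_of_section hn hq hqp hA le_normalizer_of_normal
      le_normalizer_of_normal le_normalizer_of_normal (by
        rw [h.commutator_eq]; exact fun e => hPM (e.trans h2))
    obtain rfl : q = 2 := by
      have : q ∣ 2 ^ 3 := by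
        obtain rfl | rfl : i = 1 ∨ i = 2 := by omega
        exacts [hi.trans (by norm_num), hi]
      exact (Nat.prime_dvd_prime_iff_eq hq Nat.prime_two).1 (hq.dvd_of_dvd_pow this)
    have h8 := hfix (x * y) (mul_mem (hM hx) hyP) (by
      have e3 : a * (x * y) * a⁻¹ = ⁅y, x⁆ * (x * y) := by
        calc a * (x * y) * a⁻¹ = y * (a ^ 2 * x) * (a ^ 2)⁻¹ := by rw [hy]; simp only [pow_two]; group
          _ = _ := by rw [← haq x (hM hx), commutatorElement_def]; group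
      rw [e3]
      exact mul_mem (mem_sup_left (commutator_mem_commutator hyP (hM hx))) (mem_sup_right (mem_zpowers _)))
    exact hyM ((mul_mem_cancel_left hx).1 (h2 h8))

end Cfsg.Agent.H2.SE
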