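import Cfsg.Agent.H2.SE

/-! A `p`-solvable group with a Sylow subgroup of Schmidt type has `p`-length one. -/

namespace Cfsg.Agent.H2.SE
open Subgroup
open scoped Pointwise commutatorElement IsMulCommutative

variable {G G' : Type*} [Group G] [Group G'] {p : ℕ}

/-- stability group of `V` modulo `U` -/
def stab (V U : Subgroup G) [V.Normal] : Subgroup G where
  carrier := {g | ∀ v ∈ V, ⁅g, v⁆ ∈ U}
  one_mem' := fun v _ => by simp
  mul_mem' := fun {g h} hg hh v hv => by
    have : ⁅g * h, v⁆ = ⁅g, h * v * h⁻¹⁆ * ⁅h, v⁆ := by simp only [commutatorElement_def]; group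
    rw [this]
    exact mul_mem (hg _ (Normal.conj_mem ‹_› v hv h)) (hh v hv)
  inv_mem' := fun {g} hg v hv => by
    have : ⁅g⁻¹, v⁆ = ⁅g, g⁻¹ * v * g⁻¹⁻¹⁆⁻¹ := by simp only [commutatorElement_def]; group
    rw [this]
    exact inv_mem (hg _ (Normal.conj_mem ‹_› v hv g⁻¹))

theorem conj_mem_stab {V U : Subgroup G} [V.Normal] {l y : G} (hl : l ∈ normalizer (U : Set G))
    (hy : y ∈ stab V U) : l * y * l⁻¹ ∈ stab V U := fun v hv => by
  have : ⁅l * y * l⁻¹, v⁆ = l * ⁅y, l⁻¹ * v * l⁻¹⁻¹⁆ * l⁻¹ := by simp only [commutatorElement_def]; group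
  rw [this]
  exact (mem_normalizer_iff.1 hl _).1 (hy _ (Normal.conj_mem ‹_› v hv l⁻¹))

theorem le_pCore [Finite G] [hp : Fact p.Prime] (hG : IsPSolvable p G) (hV : IsElementaryAbelian p (pCore p G))
    (hC : H9.CharPGrp p G) {P : Subgroup G} (hP : IsPGroup p P) (hVP : pCore p G ≤ P) (h : SE p P) :
    P ≤ pCore p G := by
  set V := pCore p G with hVdef
  have hC' : centralizer (V : Set G) ≤ V := hC
  have hVp : IsPGroup p V := H1.isPGroup_pCore p G
  have hDV : ⁅P, P⁆ ≤ V := h.cent.trans ((centralizer_le hVP).trans hC')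
  by_cases hp3 : 3 < p
  · have h1 := H9.le_opMod_of_isPStableOn (H9.isPStableOn_of_isPSolvable (by omega) hG
      (fun h => absurd h (by omega)) V hVp) (A := P) (commutator_eq_bot_iff_le_centralizer.2
        ((commutator_mono hVP le_rfl).trans h.cent))
    rwa [H9.opMod_eq_pCore (hVp.to_le hC')] at h1
  by_contra hne
  let π := QuotientGroup.mk' V
  have hπ : ∀ {g}, π g = 1 ↔ g ∈ V := QuotientGroup.eq_one_iff _
  have hker : π.ker = V := QuotientGroup.ker_mk' V
  set K := pPrimeCore p (G ⧸ V)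
  set A := P.map π with hA
  have hAp : IsPGroup p A := hP.map π
  haveI : IsMulCommutative A := isMulCommutative_of_forall (by
    rintro _ ⟨u, hu, rfl⟩ _ ⟨v, hv, rfl⟩
    rw [← commutatorElement_eq_one_iff_mul_comm, ← map_commutatorElement]
    exact hπ.2 (hDV (commutator_mem_commutator hu hv)))
  have hKc : (Nat.card K).Coprime p := H1.coprime_card_pPrimeCore p _
  have hcop : (Nat.card A).Coprime (Nat.card K) :=
    H1.coprime_card_of_isPGroup hAp ((Nat.Prime.coprime_iff_not_dvd hp.out).1 hKc.symm)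
  obtain ⟨B', hB', ⟨a', ha', hBa⟩, hL'⟩ : ∃ B' ≤ A, (∃ a ∈ A, B' ⊔ zpowers a = A) ∧
      ¬ ⁅K ⊓ centralizer (B' : Set (G ⧸ V)), A⁆ ≤ ⊥ := by
    by_contra hc
    push Not at hc
    have h1 := H1.commutator_le_of_forall_centralizer le_normalizer_of_normal hcop hc
    rw [le_bot_iff, commutator_eq_bot_iff_le_centralizer, ← le_centralizer_iff] at h1
    have h2 := h1.trans (H9.centralizer_pPrimeCore_le_of_isPSolvable (H9.isPSolvable_quotient hG V)
      (H1.pCore_quotient_pCore p))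
    have h3 : A = ⊥ := card_eq_one.1 ((Nat.coprime_self _).1 (hcop.coprime_dvd_right (card_dvd_of_le h2)))
    exact hne (hker ▸ (map_eq_bot_iff P).1 h3)
  obtain ⟨a, ha, rfl⟩ := ha'
  set L' := ⁅K ⊓ centralizer (B' : Set (G ⧸ V)), A⁆ with hL'def
  have hAC : A ≤ centralizer (B' : Set (G ⧸ V)) := fun x hx b hb => mul_comm_of_mem (hB' hb) hx
  have hAN : A ≤ normalizer ((K ⊓ centralizer (B' : Set (G ⧸ V)) : Subgroup _) : Set (G ⧸ V)) :=
    H1.le_normalizer_inf le_normalizer_of_normal (hAC.trans le_normalizer)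
  have hL1 : L' ≤ K ⊓ centralizer (B' : Set (G ⧸ V)) := H1.commutator_le_left_of_le_normalizer hAN
  have hL2 : ⁅L', A⁆ = L' := H1.commutator_commutator_eq hAN (hcop.coprime_dvd_right (card_dvd_of_le inf_le_left))
  set L := L'.comap π with hL
  set B := B'.comap π with hB
  have hPA : A.comap π = P := comap_map_eq_self (hker.le.trans hVP)
  have hBP : B ≤ P := hPA ▸ comap_mono hB'
  have hs : Function.Surjective π := QuotientGroup.mk'_surjective V
  have key : ∀ Y : Subgroup G, P ≤ Y → (∀ l ∈ L, ∀ y ∈ P, l * y * l⁻¹ ∈ Y) → L ≤ Y := fun Y h1 h2 => by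
    have h3 : L = ⁅L, P⁆ ⊔ V := by
      rw [← hker, ← comap_map_eq, map_commutator, map_comap_eq_self_of_surjective hs, hL2]
    rw [h3]
    exact sup_le (commutator_le.2 fun l hl y hy => mul_mem (h2 l hl y hy) (inv_mem (h1 hy))) (hVP.trans h1)
  have hLB : L ≤ normalizer (B : Set G) := fun l hl => H3.mem_normalizer_of_conj_mem fun b hb => by
    rw [hB, mem_comap, map_mul, map_mul, map_inv, ← (hL1 hl).2 _ hb, mul_inv_cancel_right]
    exact hb
  have hD0 : ⁅P, P⁆ ≠ ⊥ := fun e =>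
    hne ((commutator_eq_bot_iff_le_centralizer.1 e).trans ((centralizer_le hVP).trans hC'))
  by_cases hBV : B ≤ V
  · refine h.exc (by omega) V hVP ?_ hDV ⊥ (bot_lt_iff_ne_bot.2 hD0)
      (fun a ha b hb => commutatorElement_eq_one_iff_mul_comm.2 (haveI := hV.1; mul_comm_of_mem ha hb)) hV.2
    have h1 : B' = ⊥ := by
      rw [← map_comap_eq_self_of_surjective hs B', Subgroup.map_eq_bot_iff, hker]; exact hBV
    rw [h1, bot_sup_eq] at hBa
    rw [H9.relIndex_eq_card_map_mk', ← hA, ← hBa, Nat.card_zpowers]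
    refine orderOf_eq_prime (by rw [← map_pow]; exact hπ.2 (hDV (h.pow a ha))) fun e => hne ?_
    rw [e, zpowers_one_eq_bot] at hBa
    exact hker ▸ (map_eq_bot_iff P).1 hBa.symm
  have hPst : P ≤ stab V ⁅P, P⁆ := fun y hy v hv => commutator_mem_commutator hy (hVP hv)
  have h1 : L ≤ stab V (V ⊓ centralizer (B : Set G)) :=
    key _ (fun y hy v hv => ⟨hDV (hPst hy v hv), centralizer_le hBP (h.cent (hPst hy v hv))⟩) fun l hl y hy =>
      conj_mem_stab (H1.le_normalizer_inf le_normalizer_of_normal (H1.le_normalizer_centralizer hLB) hl)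
        fun v hv => ⟨hDV (hPst hy v hv), centralizer_le hBP (h.cent (hPst hy v hv))⟩
  have h2 : ¬ L ≤ stab V ⁅P, P⁆ := fun h2 => by
    have h3 : ⁅L, V⁆ ≤ ⁅P, P⁆ := commutator_le.2 fun l hl v hv => h2 hl v hv
    have h4 : P ≤ centralizer ((⁅L, V⁆ : Subgroup G) : Set G) := le_centralizer_iff.1 (h3.trans h.cent)
    have h5 := key _ h4 fun l hl y hy => (mem_normalizer_iff.1
      (H1.le_normalizer_centralizer (normalizer_commutator_ge_left L V) hl) y).1 (h4 hy)
    refine hL' fun l' hl' => ?_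
    obtain ⟨l, rfl⟩ := hs l'
    have h6 : l ^ p ∈ V := hC' fun v hv => (commutatorElement_eq_one_iff_mul_comm.1 (by
      rw [H9.conj_pow_eq_of_commute (h5 hl' _ (commutator_mem_commutator hl' hv)).symm]
      exact hV.2 _ (hDV (h2 hl' v hv)))).symm
    have h7 : orderOf (π l) ∣ p := orderOf_dvd_of_pow_eq_one (by rw [← map_pow]; exact hπ.2 h6)
    exact orderOf_eq_one_iff.1 (Nat.eq_one_of_dvd_coprimes hKc (orderOf_dvd_natCard _ (hL1 hl').1) h7)
  refine h2 (key _ hPst fun l hl y hy => conj_mem_stab ?_ (hPst hy))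
  obtain ⟨l0, hl0, hl0'⟩ := SetLike.not_le_iff_exists.1 h2
  obtain ⟨w, hw, hv⟩ : ∃ w ∈ V, ⁅l0, w⁆ ∉ ⁅P, P⁆ := by
    by_contra hc
    push Not at hc
    exact hl0' hc
  obtain ⟨hv1, hv2⟩ := h1 hl0 w hw
  set v := ⁅l0, w⁆
  have h3 : P ≤ cset h.cent (hVP hv1) (zpowers ⁅v, a⁆) := by
    refine hPA.ge.trans ?_
    rw [← hBa, ← comap_sup_eq _ _ _ hs, ← MonoidHom.map_zpowers, comap_map_eq, hker]
    have h4 : B ≤ cset h.cent (hVP hv1) (zpowers ⁅v, a⁆) := fun b hb => ⟨hBP hb, by
      rw [commutatorElement_eq_one_iff_mul_comm.2 (hv2 b hb).symm]; exact one_mem _⟩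
    exact sup_le h4 (sup_le (zpowers_le.2 ⟨ha, mem_zpowers _⟩) (fun u hu => h4 (by
      rw [hB, mem_comap, hπ.2 hu]; exact one_mem _)))
  have h4 : ⁅P, P⁆ ≤ zpowers ⁅v, a⁆ := fun d hd => by
    obtain ⟨y, hy, rfl⟩ := h.surj v (hVP hv1) hv d hd
    exact (h3 hy).2
  have h5 : ⁅B, V⁆ = ⁅P, P⁆ := by
    refine eq_of_le_of_card_ge (commutator_mono hBP hVP) ((card_le_of_le h4).trans ?_)
    have h6 : ⁅B, V⁆ ≠ ⊥ := fun e => hBV ((commutator_eq_bot_iff_le_centralizer.1 e).trans hC')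
    have h7 : Nat.card (zpowers ⁅v, a⁆) ∣ p := by
      rw [Nat.card_zpowers]
      exact orderOf_dvd_of_pow_eq_one (hV.2 _ (hDV (commutator_mem_commutator (hVP hv1) ha)))
    have h8 := (card_dvd_of_le ((commutator_mono hBP hVP).trans h4)).trans h7
    rcases (Nat.dvd_prime hp.out).1 h8 with e | e
    · exact absurd (card_eq_one.1 e) h6
    · rw [e]; exact Nat.le_of_dvd hp.out.pos h7
  rw [← h5]
  exact H1.le_normalizer_commutator hLB le_normalizer_of_normal hl

theorem se_of_schmidt [Finite G] [hp : Fact p.Prime] (hG : IsMinimalNonNilpotent G) (P : Sylow p G)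
    (hPn : (P : Subgroup G).Normal) (hP1 : (P : Subgroup G) ≠ ⊥) : SE p (P : Subgroup G) := by
  obtain ⟨q, r, hq, hr, hqr, A, R, hA, hAc, hR, hRn, hAR, hne⟩ := exists_schmidt hG
  haveI := Fact.mk hq
  haveI := Fact.mk hr
  have hcop := coprime_card_of_isPGroup_of_ne hqr hA.isPGroup hR.isPGroup
  obtain rfl : p = r := by
    by_contra hpr
    have h1 : P ≤ centralizer (R : Set G) := le_centralizer_of_inf_eq_bot le_normalizer_of_normal
      le_normalizer_of_normal (disjoint_iff.1 (disjoint_of_coprime_natCard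
        (coprime_card_of_isPGroup_of_ne hpr P.isPGroup' hR.isPGroup)))
    by_cases hpq : p = q
    · subst hpq
      exact hne (((H3.sylowIn_top P).le_of_le_normalizer' hA.isPGroup le_top le_normalizer_of_normal).trans h1)
    · have h2 := H1.card_sup_dvd (N := R) (H := A) le_normalizer_of_normal
      rw [sup_comm, hAR, card_top] at h2
      have h3 := (card_subgroup_dvd_card (P : Subgroup G)).trans h2
      exact hP1 (card_eq_one.1 ((Nat.coprime_self _).1 ((Nat.Coprime.mul_right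
        (coprime_card_of_isPGroup_of_ne hpr P.isPGroup' hR.isPGroup)
        (coprime_card_of_isPGroup_of_ne hpq P.isPGroup' hA.isPGroup)).coprime_dvd_right h3)))
  obtain rfl : R = P := (hR.eq_of_le P.isPGroup' le_top
    ((H3.sylowIn_top P).le_of_le_normalizer hR.isPGroup le_top le_normalizer_of_normal)).symm
  obtain ⟨a, rfl⟩ := (Subgroup.isCyclic_iff_exists_zpowers_eq_top A).1 hAc
  have hnil : ∀ C D : Subgroup G, C ≤ P → D ≤ zpowers a → D ≤ normalizer (C : Set G) →
      (C < P ∨ D < zpowers a) → D ≤ centralizer (C : Set G) := fun C D h1 h2 h3 h4 => by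
    refine le_centralizer_of_coprime_of_isNilpotent (hG.2 (C ⊔ D) fun e => ?_) le_sup_right le_sup_left
      ((hcop.coprime_dvd_left (card_dvd_of_le h2)).coprime_dvd_right (card_dvd_of_le h1))
    have h5 := H1.card_sup_dvd h3
    rw [e, card_top] at h5
    rcases h4 with h4 | h4
    · exact h4.ne (eq_of_le_of_card_ge h1 (Nat.le_of_dvd Nat.card_pos
        ((hcop.coprime_dvd_left (card_dvd_of_le h2)).symm.dvd_of_dvd_mul_right
          ((card_subgroup_dvd_card _).trans h5))))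
    · exact h4.ne (eq_of_le_of_card_ge h2 (Nat.le_of_dvd Nat.card_pos
        ((hcop.coprime_dvd_right (card_dvd_of_le h1)).dvd_of_dvd_mul_left
          ((card_subgroup_dvd_card _).trans h5))))
  refine se_of_minAct hq hqr hA.isPGroup ⟨P.isPGroup', ?_, le_normalizer_of_normal, hne,
    fun C h1 h2 => hnil C _ h1.le le_rfl h2 (Or.inl h1)⟩ (hnil P (zpowers (a ^ q)) le_rfl
      (zpowers_le.2 (pow_mem (mem_zpowers a) q)) le_normalizer_of_normal (Or.inr ?_) (mem_zpowers _))
  · obtain ⟨k, hk⟩ := hA.isPGroup.exists_card_eq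
    rw [hk]
    exact ((Nat.coprime_primes hq hp.out).2 hqr).pow_left k
  · refine lt_of_le_of_ne (zpowers_le.2 (pow_mem (mem_zpowers a) q)) fun e => hne ?_
    obtain ⟨k, hk⟩ := hA.isPGroup.exists_card_eq
    have h1 := mem_zpowers_pow_iff.1 (e ▸ mem_zpowers a : a ∈ zpowers (a ^ q))
    rw [Nat.card_zpowers] at hk
    rw [hk] at h1
    have h2 : k = 0 := by
      by_contra h0
      exact hq.one_lt.ne' (Nat.eq_one_of_dvd_one (h1 ▸ Nat.dvd_gcd dvd_rfl (dvd_pow_self q h0)))
    rw [h2, pow_zero, orderOf_eq_one_iff] at hk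
    rw [hk, zpowers_one_eq_bot]
    exact bot_le

end Cfsg.Agent.H2.SE
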