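import Mathlib
import Cfsg.Agent.H24.Base5
import Cfsg.Agent.H2.EP

/-! The Thompson–Wielandt theorem for primitive groups. -/

namespace Cfsg.Agent.H2.TW
open Subgroup H24 MulAction
open H10 (SubnormalIn OpOf FitOf LayOf FstarOf CompOf)
open scoped Nat

variable {G : Type*} [Group G] {H K L X Y W : Subgroup G} {p : ℕ}

/-- The core of `X` in `H`. -/
def cr (X H : Subgroup G) : Subgroup G := (X.subgroupOf H).normalCore.map H.subtype

theorem mem_cr {x : G} : x ∈ cr X H ↔ x ∈ H ∧ ∀ h ∈ H, h * x * h⁻¹ ∈ X :=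
  ⟨by rintro ⟨y, hy, rfl⟩; exact ⟨y.2, fun h hh => hy ⟨h, hh⟩⟩, fun h => ⟨⟨x, h.1⟩, fun y => h.2 y y.2, rfl⟩⟩

theorem cr_le : cr X H ≤ X := fun x hx => by simpa using (mem_cr.1 hx).2 1 H.one_mem
theorem cr_le' : cr X H ≤ H := map_subtype_le _
theorem cr_nm : H ≤ 𝐍[cr X H] := map_subtype_le_normalizer _
theorem le_cr (h1 : Y ≤ X) (h2 : Y ≤ H) (h3 : H ≤ 𝐍[Y]) : Y ≤ cr X H := fun _ hx =>
  mem_cr.2 ⟨h2 hx, fun _ hh => h1 (conj_mem_of_mem_normalizer (h3 hh) hx)⟩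

theorem cr_relIndex [Finite G] : (cr X H).relIndex H ∣ (X.relIndex H)! := by
  rw [relIndex, cr, subgroupOf_map_subtype', normalCore_eq_ker, index_ker, relIndex, index_eq_card, ← Nat.card_perm]
  exact card_subgroup_dvd_card _

theorem relIndex_iInf_dvd {ι : Type*} [Fintype ι] (X : ι → Subgroup G) (h : ∀ i, H ≤ 𝐍[X i]) :
    (⨅ i, X i).relIndex H ∣ ∏ i, (X i).relIndex H := by
  have := fun i => normal_subgroupOf_of_le_normalizer' (h i)
  have := card_subgroup_dvd_card (MonoidHom.pi fun i => QuotientGroup.mk' ((X i).subgroupOf H)).range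
  rw [← index_ker, Nat.card_pi] at this
  refine (dvd_of_eq (congrArg index ?_)).trans this
  ext; simp [mem_subgroupOf, mem_iInf, funext_iff]

/-- Two conjugate core-free maximal subgroups. -/
structure Am (H K : Subgroup G) : Prop where
  hH : ∀ X, X ≠ ⊥ → X ≤ K → H ≤ 𝐍[X] → 𝐍[X] ≤ H
  hK : ∀ X, X ≠ ⊥ → X ≤ H → K ≤ 𝐍[X] → 𝐍[X] ≤ K
  ne : H ≠ K
  conj : ∃ g, cj H g = K

theorem Am.symm (h : Am H K) : Am K H := ⟨h.hK, h.hH, h.ne.symm, let ⟨g, e⟩ := h.conj; ⟨g⁻¹, e ▸ cj_cj_inv ..⟩⟩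

theorem Am.card (h : Am H K) : Nat.card H = Nat.card K := let ⟨g, e⟩ := h.conj; e ▸ (card_cj H g).symm

theorem Am.bot (h : Am H K) (h1 : X ≤ H ⊓ K) (h2 : H ≤ 𝐍[X]) (h3 : K ≤ 𝐍[X]) : X = ⊥ := by_contra fun n =>
  h.ne ((h2.trans (h.hK X n (h1.trans inf_le_left) h3)).antisymm (h3.trans (h.hH X n (h1.trans inf_le_right) h2)))

theorem Am.le_cr (h : Am H K) (h0 : W ≠ ⊥) (h1 : W ≤ K) (h2 : H ≤ 𝐍[W]) (h3 : Y ≤ K)
    (h4 : ∀ k ∈ K, Y ≤ 𝐍[cj W k]) : Y ≤ cr H K := fun y hy => mem_cr.2 ⟨h3 hy, fun k hk => h.hH W h0 h1 h2 (by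
  simpa [← cj_normalizer, mem_cj] using h4 k⁻¹ (inv_mem hk) hy)⟩

theorem sn_cr (h1 : cr H K ≤ L) (h2 : L ≤ K) : SubnormalIn (cr H K) L := .of_normal h1 (h2.trans cr_nm)

theorem sn_cj (h1 : cr H K ≤ L) (h2 : L ≤ K) {k : G} (hk : k ∈ K) : SubnormalIn (cj (cr (cr H K) H) k) L := by
  refine .trans (.of_normal (cj_le_of_mem_normalizer cr_le (cr_nm hk)) ?_) (sn_cr h1 h2)
  rw [← cj_normalizer]
  exact (cj_eq_of_mem_normalizer (cr_nm hk)).ge.trans (cj_mono (cr_le.trans cr_nm) k)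

variable [Finite G]

theorem Am.relIndex (h : Am H K) : H.relIndex K = K.relIndex H := by
  have h1 := card_inf_mul_relIndex H K
  rw [← h.card, ← card_inf_mul_relIndex K H, inf_comm K] at h1
  exact Nat.eq_of_mul_eq_mul_left Nat.card_pos h1

theorem Am.idx (h : Am H K) {d : ℕ} (hd : K.relIndex H = d) : (cr (cr H K) H).relIndex H ∣ d ! * (d - 1)! ^ d := by
  have := Fintype.ofFinite (H ⧸ K.subgroupOf H)
  have h0 : d ≠ 0 := hd ▸ index_ne_zero_of_finite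
  have h1 : (cr H K).relIndex (cr K H) ∣ (d - 1)! := by
    have a := cr_relIndex (X := H) (H := K)
    rw [← relIndex_mul_relIndex _ (H ⊓ K) _ (le_inf cr_le cr_le') inf_le_right, inf_relIndex_right, h.relIndex, hd,
      ← Nat.mul_factorial_pred h0, mul_comm] at a
    have := normal_subgroupOf_of_le_normalizer' ((inf_le_right (a := H)).trans (cr_nm (X := H) (H := K)))
    refine .trans ?_ (Nat.dvd_of_mul_dvd_mul_left (by omega) a)
    rw [← relIndex_subgroupOf (le_inf cr_le' cr_le)]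
    exact relIndex_dvd_index_of_normal ..
  have h2 := relIndex_iInf_dvd (H := cr K H) (fun q : H ⧸ K.subgroupOf H => cj (cr H K) q.out) fun q => by
    rw [← cj_normalizer]
    exact (cj_eq_of_mem_normalizer (cr_nm q.out.2)).ge.trans (cj_mono (cr_le.trans cr_nm) _)
  rw [Finset.prod_congr rfl (g := fun _ => (cr H K).relIndex (cr K H)) fun q _ => by
    rw [← relIndex_cj (cr H K) _ q.out.1, cj_eq_of_mem_normalizer (cr_nm q.out.2)], Finset.prod_const,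
    Finset.card_univ, ← Nat.card_eq_fintype_card, ← inf_relIndex_right] at h2
  refine (relIndex_dvd_of_le_left _ (fun x hx => mem_cr.2 ⟨cr_le' hx.2, fun k hk => ?_⟩ :
    (⨅ q : H ⧸ K.subgroupOf H, cj (cr H K) q.out) ⊓ cr K H ≤ _)).trans ?_
  swap
  · rw [← relIndex_mul_relIndex _ (cr K H) _ inf_le_right cr_le', mul_comm]
    exact mul_dvd_mul (hd ▸ cr_relIndex) (h2.trans (hd ▸ pow_dvd_pow_of_dvd (hd ▸ h1) _))
  · obtain ⟨y, hy⟩ := QuotientGroup.mk_out_eq_mul (K.subgroupOf H) ⟨k⁻¹, inv_mem hk⟩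
    have := mem_iInf.1 hx.1 (⟨k⁻¹, inv_mem hk⟩ : H)
    rw [hy, mem_cj] at this
    simpa [mul_assoc] using conj_mem_of_mem_normalizer (cr_nm (H := K) (x := y.1) y.2) this

theorem Am.card_dvd (h : Am H K) {d : ℕ} (hd : K.relIndex H = d) (h1 : cr (cr H K) H = ⊥ ∨ cr (cr K H) K = ⊥) :
    Nat.card H ∣ d ! * (d - 1)! ^ d := h1.elim (fun e => by simpa [e] using h.idx hd) fun e => by
  simpa [e, h.card] using h.symm.idx (h.relIndex.trans hd)

theorem Am.lay (h : Am H K) (h0 : cr (cr H K) H ≠ ⊥) (h1 : cr H K ≤ L) (h2 : L ≤ K) : LayOf L = LayOf (cr H K) :=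
  (H10.LayOf_le_LayOf_of_le (h.le_cr h0 (cr_le.trans cr_le') cr_nm (H10.LayOf_le.trans h2) fun _ hk =>
    H10.LayOf_le_normalizer_of_subnormal (sn_cj h1 h2 hk)) h1).antisymm (sn_cr h1 h2).LayOf_le

theorem Am.lay_bot (h : Am H K) (h0 : cr (cr H K) H ≠ ⊥) (h1 : cr (cr K H) K ≠ ⊥) :
    LayOf (H ⊓ K) = ⊥ ∧ LayOf K = ⊥ := by
  have a := h.lay h0 (le_inf cr_le cr_le') inf_le_right
  have b := h.symm.lay h1 (le_inf cr_le' cr_le) inf_le_left
  have c := h.bot H10.LayOf_le (b ▸ H10.le_normalizer_LayOf cr_nm) (a ▸ H10.le_normalizer_LayOf cr_nm)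
  exact ⟨c, by rw [h.lay h0 cr_le' le_rfl, ← a, c]⟩

variable [Fact p.Prime]

theorem Am.op_bot (h : Am H K) (h1 : OpOf p (H ⊓ K) ≤ cr H K) : OpOf p (H ⊓ K) = ⊥ := by_contra fun n => by
  have a : K ≤ 𝐍[OpOf p (H ⊓ K)] := by
    rw [← inf_eq_right.2 h1, ← (sn_cr (le_inf cr_le cr_le') inf_le_right).OpOf_eq]
    exact H10.le_normalizer_OpOf cr_nm
  have b : OpOf p (H ⊓ K) ≤ H := H10.OpOf_le.trans inf_le_left
  have c := b.trans (H10.le_normalizer_OpOf (p := p) le_normalizer)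
  have d : OpOf p H ≤ OpOf p (H ⊓ K) := by_contra fun m => by
    have := (H10.OpOf_isPGroup.to_sup_of_normal_right' H10.OpOf_isPGroup c).isNilpotent
    refine (@lt_inf_normalizer_of_isNilpotent _ _ _ _ this (left_lt_sup.2 m)).not_ge ?_
    rw [sup_inf_of_le_normalizer_right c le_normalizer]
    exact sup_le le_rfl ((le_inf (le_inf (inf_le_left.trans H10.OpOf_le) (inf_le_right.trans (h.hK _ n b a)))
      inf_le_left).trans (H10.inf_OpOf_le inf_le_left))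
  have e : OpOf p (H ⊓ K) ≤ OpOf p K := H10.le_OpOf (H10.OpOf_le.trans inf_le_right) a H10.OpOf_isPGroup
  obtain ⟨g, hg⟩ := h.conj
  have f := eq_of_le_of_card_le (d.trans e) (by rw [← hg, cj, ← H10.conj_OpOf, H10.card_conj])
  exact n (h.bot H10.OpOf_le (d.antisymm (f ▸ e) ▸ H10.le_normalizer_OpOf le_normalizer) a)

theorem Am.not_p (h : Am H K) (h0 : ¬ IsPGroup p (cr (cr H K) H)) : OpOf p (H ⊓ K) = ⊥ ∧ OpOf p K = ⊥ := by
  have a : ∀ L, cr H K ≤ L → L ≤ K → OpOf p L ≤ cr H K := fun L h1 h2 =>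
    h.le_cr (mt pResidualOf_eq_bot_iff.1 h0) ((pResidualOf_le ..).trans (cr_le.trans cr_le'))
      (le_normalizer_pResidualOf_of cr_nm) (H10.OpOf_le.trans h2) fun _ hk => by
        rw [cj_pResidualOf]; exact SubnormalIn.pCoreOf_le_normalizer (sn_cj h1 h2 hk)
  have b := h.op_bot (a _ (le_inf cr_le cr_le') inf_le_right)
  exact ⟨b, le_bot_iff.1 (b ▸ (le_inf ((a K cr_le' le_rfl).trans (le_inf cr_le cr_le')) le_rfl).trans
    (H10.inf_OpOf_le inf_le_right))⟩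

theorem Am.main (h : Am H K) (h0 : cr (cr H K) H ≠ ⊥) (h1 : cr (cr K H) K ≠ ⊥) :
    ∃ p : ℕ, p.Prime ∧ OpOf p (H ⊓ K) ≠ ⊥ ∧ IsPGroup p (cr (cr H K) H) ∧ FstarOf K = OpOf p K := by
  have a := H10.FstarOf_ne_bot (H := H ⊓ K) fun e => h0 (le_bot_iff.1 (e ▸ le_inf cr_le' (cr_le.trans cr_le')))
  rw [H10.FstarOf_eq_FitOf (h.lay_bot h0 h1).1, H10.FitOf_eq_iSup_OpOf, Ne, iSup_eq_bot, not_forall] at a
  obtain ⟨⟨p, hp⟩, a⟩ := a
  have := Fact.mk hp
  have b := by_contra fun n => a (h.not_p n).1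
  refine ⟨p, hp, a, b, le_antisymm ?_ ((H10.OpOf_le_FitOf p).trans H10.FitOf_le_FstarOf)⟩
  rw [H10.FstarOf_eq_FitOf (h.lay_bot h0 h1).2, H10.FitOf_eq_iSup_OpOf]
  refine iSup_le fun ⟨q, hq⟩ => ?_
  have := Fact.mk hq
  rcases eq_or_ne q p with rfl | e
  · rfl
  · exact (h.not_p fun c => h0 (H10.eq_bot_of_isPGroup_of_coprime b (H10.coprime_of_isPGroup e c))).2.trans_le bot_le

theorem am_stab {Ω : Type*} [MulAction G Ω] [FaithfulSMul G Ω] [IsPreprimitive G Ω] {a b : Ω} {d : ℕ}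
    (hd : Nat.card (orbit (stabilizer G a) b) = d) (h2 : 2 ≤ d) :
    Am (stabilizer G a) (stabilizer G b) ∧ (stabilizer G b).relIndex (stabilizer G a) = d := by
  have h : (stabilizer G b).relIndex (stabilizer G a) = d := (index_stabilizer (stabilizer G a) b).trans hd
  obtain ⟨g, rfl⟩ := exists_smul_eq G a b
  exact ⟨⟨fun X h0 h1 h2 => (Pm.normalizer_eq_stab h0 h1 h2).le, fun X h0 h1 h2 => (Pm.normalizer_eq_stab h0 h1 h2).le,
    fun e => by rw [← e, relIndex_self] at h; omega, g, (stabilizer_smul_eq_stabilizer_map_conj g a).symm⟩, h⟩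

omit [Finite G] in
theorem ker_eq {Ω : Type*} [MulAction G Ω] (a b : Ω) : (toPermHom (stabilizer G a) (orbit (stabilizer G a) b)).ker =
    (cr (stabilizer G b) (stabilizer G a)).subgroupOf (stabilizer G a) := by
  ext x
  simp only [MonoidHom.mem_ker, Equiv.ext_iff, mem_subgroupOf, mem_cr, x.2, true_and]
  refine ⟨fun h y hy => ?_, fun h ⟨_, y, rfl⟩ => Subtype.ext ?_⟩
  · have : x.1 • y⁻¹ • b = y⁻¹ • b := congrArg Subtype.val (h ⟨_, ⟨y⁻¹, inv_mem hy⟩, rfl⟩)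
    simp [mul_smul, this]
  · have := h y.1⁻¹ (inv_mem y.2)
    rw [mem_stabilizer_iff, mul_smul, mul_smul, inv_smul_eq_iff, inv_inv] at this
    exact this

theorem fit_bot {Ω : Type*} [MulAction G Ω] {a b : Ω} (h : Am (stabilizer G a) (stabilizer G b))
    (hF : fittingSubgroup (((stabilizer G b).subgroupOf (stabilizer G a)).map
      (toPermHom (stabilizer G a) (orbit (stabilizer G a) b))) = ⊥) : FitOf (stabilizer G a ⊓ stabilizer G b) = ⊥ := by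
  have := (H10.map_FitOf_le ..).trans ((H10.FitOf_eq_bot_iff _).2 hF).le
  rw [le_bot_iff, Subgroup.map_eq_bot_iff, ker_eq, ← inf_subgroupOf_left, H10.FitOf_subgroupOf inf_le_left,
    H10.subgroupOf_le_subgroupOf_iff (H10.FitOf_le.trans inf_le_left), inf_comm] at this
  rw [inf_comm, H10.FitOf_eq_iSup_OpOf, iSup_eq_bot]
  exact fun ⟨p, hp⟩ => have _ := Fact.mk hp; h.symm.op_bot ((H10.OpOf_le_FitOf p).trans this)

end Cfsg.Agent.H2.TW
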