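import Mathlib
import Cfsg.Agent.H8.Deg3
import Cfsg.Agent.H3.PNil
import Cfsg.Agent.H1.Basic
import Cfsg.Agent.H2.Basic

/-!
Normal subgroups with two class sizes that contain a noncentral Sylow subgroup.
-/

set_option autoImplicit false
set_option linter.dupNamespace false

namespace Cfsg.Agent.H2.TwoCl

open Subgroup
open scoped Pointwise commutatorElement

variable {G : Type*} [Group G] [Finite G]

/-- semiregular counting for conjugation -/
theorem dvd_ncard (H : Subgroup G) (S : Set G) (hS : ∀ h ∈ H, ∀ s ∈ S, h * s * h⁻¹ ∈ S) {k : ℕ}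
    (hk : ∀ s ∈ S, (centralizer ({s} : Set G)).relIndex H = k) : k ∣ S.ncard := by
  classical
  letI : MulAction H S :=
    { smul := fun h s => ⟨h * s * h⁻¹, hS h h.2 s s.2⟩
      one_smul := fun s => Subtype.ext (by
        change ((1 : H) : G) * s * ((1 : H) : G)⁻¹ = s
        simp)
      mul_smul := fun a b s => Subtype.ext (by
        change ((a * b : H) : G) * s * ((a * b : H) : G)⁻¹ = a * (b * s * (b : G)⁻¹) * (a : G)⁻¹
        simp [mul_assoc]) }
  have h1 : ∀ s : S, (MulAction.stabilizer H s).index = k := fun s => by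
    rw [← hk s s.2, relIndex]
    congr 1
    ext h
    rw [MulAction.mem_stabilizer_iff, mem_subgroupOf, mem_centralizer_singleton_iff,
      Subtype.ext_iff]
    change (h : G) * s * (h : G)⁻¹ = s ↔ _
    rw [mul_inv_eq_iff_eq_mul]
  haveI := Fintype.ofFinite (MulAction.orbitRel.Quotient H S)
  rw [← Nat.card_coe_set_eq, Nat.card_congr (MulAction.selfEquivSigmaOrbits' H S), Nat.card_sigma]
  refine Finset.dvd_sum fun ω _ => ?_
  obtain ⟨s, rfl⟩ := Quotient.exists_rep ω
  rw [← h1 s, MulAction.index_stabilizer, ← Nat.card_coe_set_eq]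
  rfl

/-- the size of an orbit under conjugation -/
theorem ncard_orbit (H : Subgroup G) (y : G) :
    {s | ∃ h ∈ H, h * y * h⁻¹ = s}.ncard = (centralizer ({y} : Set G)).relIndex H := by
  letI : MulAction H G := MulAction.compHom G ((MulAut.conj : G →* MulAut G).comp H.subtype)
  have h1 : MulAction.stabilizer H y = (centralizer ({y} : Set G)).subgroupOf H := by
    ext h
    rw [MulAction.mem_stabilizer_iff, mem_subgroupOf, mem_centralizer_singleton_iff]
    change (h : G) * y * (h : G)⁻¹ = y ↔ _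
    rw [mul_inv_eq_iff_eq_mul]
  rw [relIndex, ← h1, MulAction.index_stabilizer]
  congr 1
  ext s
  constructor
  · rintro ⟨h, hh, rfl⟩
    exact ⟨⟨h, hh⟩, rfl⟩
  · rintro ⟨h, rfl⟩
    exact ⟨h, h.2, rfl⟩

omit [Finite G] in
theorem mem_of_pow_coprime {H : Subgroup G} {x : G} {a b : ℕ} (hab : a.Coprime b) (ha : x ^ a ∈ H)
    (hb : x ^ b ∈ H) : x ∈ H := by
  obtain ⟨u, v, huv⟩ : IsCoprime (a : ℤ) (b : ℤ) := Nat.isCoprime_iff_coprime.mpr hab
  have : x = (x ^ a) ^ u * (x ^ b) ^ v := by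
    rw [← zpow_natCast, ← zpow_natCast, ← zpow_mul, ← zpow_mul, ← zpow_add, mul_comm (a : ℤ),
      mul_comm (b : ℤ), huv, zpow_one]
  rw [this]
  exact H.mul_mem (H.zpow_mem ha u) (H.zpow_mem hb v)

omit [Finite G] in
theorem cent_le_of_mem_zpowers {u w : G} (h : u ∈ zpowers w) :
    centralizer ({w} : Set G) ≤ centralizer {u} := by
  obtain ⟨k, rfl⟩ := h
  intro g hg
  rw [mem_centralizer_singleton_iff] at hg ⊢
  exact (Commute.zpow_right (hg : Commute g w) k)

omit [Finite G] in
theorem cent_conj (g u : G) :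
    centralizer ({g * u * g⁻¹} : Set G) = MulAut.conj g • centralizer ({u} : Set G) := by
  ext x
  rw [H1.mem_conj_smul, mem_centralizer_singleton_iff, mem_centralizer_singleton_iff]
  constructor
  · intro h
    calc g⁻¹ * x * g * u = g⁻¹ * (x * (g * u * g⁻¹)) * g := by group
      _ = _ := by rw [h]; group
  · intro h
    calc x * (g * u * g⁻¹) = g * (g⁻¹ * x * g * u) * g⁻¹ := by group
      _ = _ := by rw [h]; group

omit [Finite G] in
theorem conj_not_mem_center {g u : G} (h : u ∉ center G) : g * u * g⁻¹ ∉ center G := fun h1 =>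
  h (by simpa [mul_assoc] using (inferInstance : (center G).Normal).conj_mem _ h1 g⁻¹)

section
variable {N : Subgroup G} {m : ℕ}
  (h : ∀ x ∈ N, x ∉ center G → (centralizer ({x} : Set G)).index = m)
include h

theorem cent_eq {u v : G} (hu : u ∈ N) (hv : v ∈ N) (hu' : u ∉ center G) (hv' : v ∉ center G)
    (hle : centralizer ({v} : Set G) ≤ centralizer {u}) :
    centralizer ({u} : Set G) = centralizer {v} := by
  have h1 := relIndex_mul_index hle
  rw [h u hu hu', h v hv hv'] at h1
  have h2 : m ≠ 0 := h u hu hu' ▸ index_ne_zero_of_finite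
  exact le_antisymm (relIndex_eq_one.1 (mul_left_eq_self₀.1 h1 |>.resolve_right h2)) hle

theorem coprime_eq {u v : G} (hu : u ∈ N) (hv : v ∈ N) (hu' : u ∉ center G) (hv' : v ∉ center G)
    (hc : Commute u v) (hcop : (orderOf u).Coprime (orderOf v)) :
    centralizer ({u} : Set G) = centralizer {v} := by
  have h1 : u ∈ zpowers (u * v) := mem_of_pow_coprime hcop (by rw [pow_orderOf_eq_one]; simp) (by
    have := pow_mem (mem_zpowers (u * v)) (orderOf v)
    rwa [hc.mul_pow, pow_orderOf_eq_one, mul_one] at this)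
  have h2 : v ∈ zpowers (u * v) := mem_of_pow_coprime hcop (by
    have := pow_mem (mem_zpowers (u * v)) (orderOf u)
    rwa [hc.mul_pow, pow_orderOf_eq_one, one_mul] at this) (by rw [pow_orderOf_eq_one]; simp)
  have h3 : u * v ∉ center G := fun h4 => hu' (zpowers_le.2 h4 h1)
  rw [cent_eq h hu (N.mul_mem hu hv) hu' h3 (cent_le_of_mem_zpowers h1),
    cent_eq h hv (N.mul_mem hu hv) hv' h3 (cent_le_of_mem_zpowers h2)]

/-- the centralizer of two commuting elements, one an `r`-element and one an `r'`-element -/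
theorem key {r : ℕ} [hr : Fact r.Prime] {x y : G} (hx : x ∈ N) (hy : y ∈ N) (hx' : x ∉ center G)
    (hy' : y ∉ center G) (hc : Commute x y) (hxr : ∃ k, x ^ r ^ k = 1)
    (hyr : (orderOf y).Coprime r) {u : G} (hu : u ∈ N) (hu' : u ∉ center G)
    (huy : u ∈ centralizer ({y} : Set G)) : centralizer ({u} : Set G) = centralizer {y} := by
  have hco : ∀ a b : G, (∃ k, a ^ r ^ k = 1) → (orderOf b).Coprime r →
      (orderOf a).Coprime (orderOf b) := fun a b ⟨k, hk⟩ hb =>
    Nat.Coprime.coprime_dvd_left (orderOf_dvd_of_pow_eq_one hk) (hb.symm.pow_left k)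
  have h1 := coprime_eq h hx hy hx' hy' hc (hco x y hxr hyr)
  refine cent_eq h hu hy hu' hy' ?_
  obtain ⟨a, b, ha, hb, h2, h3, h4⟩ := H3.exists_p_part r u
  have h5 : centralizer ({y} : Set G) ≤ centralizer {a} := by
    by_cases h6 : a ∈ center G
    · intro g _
      exact mem_centralizer_singleton_iff.2 (mem_center_iff.1 h6 g)
    · exact (coprime_eq h (zpowers_le.2 hu ha) hy h6 hy'
        (mem_centralizer_singleton_iff.1 (zpowers_le.2 huy ha)) (hco a y h2 hyr)).ge
  have h6 : centralizer ({y} : Set G) ≤ centralizer {b} := by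
    by_cases h6 : b ∈ center G
    · intro g _
      exact mem_centralizer_singleton_iff.2 (mem_center_iff.1 h6 g)
    · rw [← h1] at huy ⊢
      exact (coprime_eq h (zpowers_le.2 hu hb) hx h6 hx'
        (mem_centralizer_singleton_iff.1 (zpowers_le.2 huy hb)) (hco x b hxr h3).symm).ge
  intro g hg
  rw [mem_centralizer_singleton_iff, h4]
  exact Commute.mul_right (mem_centralizer_singleton_iff.1 (h5 hg))
    (mem_centralizer_singleton_iff.1 (h6 hg))

end

section
variable {N : Subgroup G} [hN : N.Normal] {y : G} (hy : y ∈ N) (hy' : y ∉ center G)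
  (hk : ∀ u ∈ N, u ∉ center G → u ∈ centralizer ({y} : Set G) →
    centralizer ({u} : Set G) = centralizer {y})
include hk

omit [Finite G] hN in
theorem comm_of_mem {u v : G} (hu : u ∈ N) (hu' : u ∈ centralizer ({y} : Set G))
    (hv' : v ∈ centralizer ({y} : Set G)) : v * u = u * v := by
  by_cases h : u ∈ center G
  · exact mem_center_iff.1 h v
  · rw [← hk u hu h hu'] at hv'
    exact mem_centralizer_singleton_iff.1 hv'

/-- the elements of `C_N(y)` killed by `n` -/
def part (n : ℕ) : Subgroup G where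
  carrier := {a | a ∈ N ∧ a ∈ centralizer ({y} : Set G) ∧ a ^ n = 1}
  one_mem' := ⟨one_mem _, one_mem _, one_pow n⟩
  mul_mem' := fun {a b} ha hb => ⟨mul_mem ha.1 hb.1, mul_mem ha.2.1 hb.2.1, by
    rw [Commute.mul_pow (comm_of_mem hk hb.1 hb.2.1 ha.2.1), ha.2.2, hb.2.2, one_mul]⟩
  inv_mem' := fun {a} ha => ⟨inv_mem ha.1, inv_mem ha.2.1, by rw [inv_pow, ha.2.2, inv_one]⟩

theorem e_dvd (n : ℕ) :
    (centralizer ({y} : Set G)).relIndex (normalizer (centralizer ({y} : Set G) : Set G)) ∣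
      Nat.card (center G ⊓ part hk n : Subgroup G) * ((center G).relIndex (part hk n) - 1) := by
  have h1 := dvd_ncard (normalizer (centralizer ({y} : Set G) : Set G))
    ((part hk n : Set G) \ (center G ⊓ part hk n : Subgroup G)) (fun g hg s hs =>
      ⟨⟨hN.conj_mem _ hs.1.1 g, (mem_normalizer_iff.1 hg s).1 hs.1.2.1, by
        rw [conj_pow, hs.1.2.2]; simp⟩,
        fun h2 => conj_not_mem_center (fun h3 => hs.2 ⟨h3, hs.1⟩) h2.1⟩)
    (fun s hs => by rw [hk s hs.1.1 (fun h3 => hs.2 ⟨h3, hs.1⟩) hs.1.2.1])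
  rw [Set.ncard_diff (SetLike.coe_subset_coe.2 inf_le_right), ← Nat.card_coe_set_eq,
    ← Nat.card_coe_set_eq] at h1
  rw [Nat.mul_sub_one, H1.card_inf_mul_relIndex]
  exact h1

omit [Finite G] hN in
theorem relIndex_eq {B : Subgroup G} (hB : B ≤ N ⊓ centralizer ({y} : Set G)) {s : G}
    (hs : s ∉ centralizer ({y} : Set G)) :
    (centralizer ({s} : Set G)).relIndex B = (center G).relIndex B := by
  rw [← inf_relIndex_right, ← inf_relIndex_right (center G)]
  congr 1
  refine le_antisymm (fun a ha => ⟨?_, ha.2⟩) fun a ha =>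
    ⟨mem_centralizer_singleton_iff.2 (mem_center_iff.1 ha.1 s).symm, ha.2⟩
  by_contra h1
  rw [← hk a (hB ha.2).1 h1 (hB ha.2).2] at hs
  exact hs (mem_centralizer_singleton_iff.2 (mem_centralizer_singleton_iff.1 ha.1).symm)

include hy hy' in
theorem dvd_e {g : G} (hg : (centralizer ({g} : Set G)).index = (centralizer ({y} : Set G)).index)
    (hg' : ∀ x, x * g * x⁻¹ ∉ centralizer ({y} : Set G)) {B : Subgroup G}
    (hB : B ≤ N ⊓ centralizer ({y} : Set G)) : (center G).relIndex B ∣
      (centralizer ({y} : Set G)).relIndex (normalizer (centralizer ({y} : Set G) : Set G)) := by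
  have h1 := dvd_ncard B {s | ∃ h ∈ (⊤ : Subgroup G), h * g * h⁻¹ = s}
    (by rintro b - _ ⟨x, -, rfl⟩; exact ⟨b * x, trivial, by group⟩)
    (k := (center G).relIndex B) (by rintro _ ⟨x, -, rfl⟩; exact relIndex_eq hk hB (hg' x))
  rw [ncard_orbit, relIndex_top_right, hg] at h1
  have h2 := dvd_ncard B ({s | ∃ h ∈ (⊤ : Subgroup G), h * y * h⁻¹ = s} \
      {s | ∃ h ∈ normalizer (centralizer ({y} : Set G) : Set G), h * y * h⁻¹ = s})
    (by
      rintro b hb _ ⟨⟨x, -, rfl⟩, h3⟩
      refine ⟨⟨b * x, trivial, by group⟩, fun ⟨z, hz, h4⟩ => h3 ⟨b⁻¹ * z,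
        mul_mem (inv_mem (le_normalizer (hB hb).2)) hz, ?_⟩⟩
      calc b⁻¹ * z * y * (b⁻¹ * z)⁻¹ = b⁻¹ * (z * y * z⁻¹) * b := by group
        _ = _ := by rw [h4]; group)
    (k := (center G).relIndex B) (by
      rintro _ ⟨⟨x, -, rfl⟩, h3⟩
      refine relIndex_eq hk hB fun h4 => h3 ⟨x, ?_, rfl⟩
      rw [← H1.conj_smul_eq_iff_mem_normalizer, ← cent_conj]
      exact hk _ (hN.conj_mem _ hy x) (conj_not_mem_center hy') h4)
  have h3 : {s | ∃ h ∈ normalizer (centralizer ({y} : Set G) : Set G), h * y * h⁻¹ = s} ⊆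
      {s | ∃ h ∈ (⊤ : Subgroup G), h * y * h⁻¹ = s} := fun s ⟨x, _, h⟩ => ⟨x, trivial, h⟩
  have h4 := Set.ncard_le_ncard h3
  rw [Set.ncard_diff h3] at h2
  rw [ncard_orbit, ncard_orbit, relIndex_top_right] at h2 h4
  exact (Nat.dvd_sub_iff_right h4 h1).1 h2

omit hN in
theorem coprime_part {a b : ℕ} (hab : a.Coprime b) :
    (Nat.card (part hk a)).Coprime (Nat.card (part hk b)) := by
  refine Nat.coprime_of_dvd fun p hp h1 h2 => ?_
  haveI := Fact.mk hp
  obtain ⟨u, hu⟩ := exists_prime_orderOf_dvd_card' p h1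
  obtain ⟨v, hv⟩ := exists_prime_orderOf_dvd_card' p h2
  have h3 : p ∣ a := by
    rw [← hu, ← orderOf_coe]; exact orderOf_dvd_of_pow_eq_one u.2.2.2
  have h4 : p ∣ b := by
    rw [← hv, ← orderOf_coe]; exact orderOf_dvd_of_pow_eq_one v.2.2.2
  exact hp.one_lt.ne' (Nat.eq_one_of_dvd_coprimes hab h3 h4)

include hy hy' in
theorem part_lt {g : G}
    (hg : (centralizer ({g} : Set G)).index = (centralizer ({y} : Set G)).index)
    (hg' : ∀ x, x * g * x⁻¹ ∉ centralizer ({y} : Set G)) {a b : ℕ} (hab : a.Coprime b)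
    (hb : ¬ part hk b ≤ center G) :
    (center G).relIndex (part hk a) < (center G).relIndex (part hk b) := by
  have h1 := (dvd_e hy hy' hk hg hg' (B := part hk a) fun u hu => ⟨hu.1, hu.2.1⟩).trans
    (e_dvd hk b)
  have h2 : ((center G).relIndex (part hk a)).Coprime
      (Nat.card (center G ⊓ part hk b : Subgroup G)) :=
    Nat.Coprime.coprime_dvd_left (relIndex_dvd_card _ _)
      (Nat.Coprime.coprime_dvd_right (card_dvd_of_le inf_le_right) (coprime_part hk hab))
  have h3 : (center G).relIndex (part hk b) ≠ 1 := fun h => hb (relIndex_eq_one.1 h)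
  have h4 : (center G).relIndex (part hk b) ≠ 0 := index_ne_zero_of_finite
  have := Nat.le_of_dvd (by omega) (h2.dvd_of_dvd_mul_left h1)
  omega

theorem le_normalizer_of_cover (hc : ∀ g ∈ N, ∃ x, x * g * x⁻¹ ∈ centralizer ({y} : Set G)) :
    N ≤ normalizer (centralizer ({y} : Set G) : Set G) := by
  rw [← relIndex_eq_one]
  by_contra h1
  obtain ⟨p, hp, h2⟩ := Nat.exists_prime_and_dvd h1
  haveI := Fact.mk hp
  obtain ⟨P, hPN, hP, h3⟩ := H1.exists_sylow_le p N
  obtain ⟨x, hx⟩ : ∃ x : G,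
      MulAut.conj x • P ≤ normalizer (centralizer ({y} : Set G) : Set G) := by
    by_cases h4 : P ≤ center G
    · exact ⟨1, by rw [map_one, one_smul]; exact h4.trans (center_le_normalizer _)⟩
    haveI : Nontrivial (P.map (QuotientGroup.mk' (center G))) := by
      rw [nontrivial_iff_ne_bot, ne_eq, Subgroup.map_eq_bot_iff, QuotientGroup.ker_mk']
      exact h4
    haveI := (hP.map (QuotientGroup.mk' (center G))).center_nontrivial
    obtain ⟨⟨⟨_, u, hu, rfl⟩, h5⟩, h6⟩ :=
      exists_ne (1 : center (P.map (QuotientGroup.mk' (center G))))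
    have h7 : u ∉ center G := fun h => h6 (Subtype.ext (Subtype.ext
      ((QuotientGroup.eq_one_iff u).2 h)))
    obtain ⟨x, hx⟩ := hc u (hPN hu)
    refine ⟨x, fun v hv => ?_⟩
    rw [H1.mem_conj_smul] at hv
    have h8 := hk _ (hN.conj_mem _ (hPN hu) x) (conj_not_mem_center h7) hx
    rw [← H1.conj_smul_eq_iff_mem_normalizer, ← h8, ← cent_conj]
    have h9 := congrArg Subtype.val (mem_center_iff.1 h5 ⟨_, mem_map_of_mem _ hv⟩)
    set w := x⁻¹ * v * x with hw
    have h10 : w * u * w⁻¹ * u⁻¹ ∈ center G := by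
      rw [← QuotientGroup.eq_one_iff]
      change QuotientGroup.mk' (center G) _ = 1
      have h11 : QuotientGroup.mk' (center G) w * QuotientGroup.mk' (center G) u =
        QuotientGroup.mk' (center G) u * QuotientGroup.mk' (center G) w := h9
      rw [map_mul, map_mul, map_mul, h11]
      simp
    have h11 : v * (x * u * x⁻¹) * v⁻¹ = (x * (w * u * w⁻¹ * u⁻¹) * x⁻¹) * (x * u * x⁻¹) := by
      rw [hw]; group
    have h12 := (inferInstance : (center G).Normal).conj_mem _ h10 x
    rw [h11]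
    generalize x * (w * u * w⁻¹ * u⁻¹) * x⁻¹ = z at h12
    generalize x * u * x⁻¹ = t
    ext a
    rw [mem_centralizer_singleton_iff, mem_centralizer_singleton_iff, ← mul_assoc,
      mem_center_iff.1 h12 a, mul_assoc, mul_assoc, mul_right_inj]
  have h4 : MulAut.conj x • P ≤ N := fun v hv => by
    have := hN.conj_mem _ (hPN (H1.mem_conj_smul.1 hv)) x
    simpa [mul_assoc] using this
  have h5 : (MulAut.conj x • P).relIndex N = P.relIndex N := by
    have h6 := H1.card_mul_relIndex h4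
    rw [H1.card_conj_smul, ← H1.card_mul_relIndex hPN] at h6
    exact Nat.eq_of_mul_eq_mul_left Nat.card_pos h6
  exact h3 (h5 ▸ h2.trans (relIndex_dvd_of_le_left N hx))

theorem nil_of_cover (hc : ∀ g ∈ N, ∃ x, x * g * x⁻¹ ∈ centralizer ({y} : Set G)) :
    Group.IsNilpotent N := by
  have h1 := le_normalizer_of_cover hk hc
  have h2 : ∀ u ∈ N, u ∉ center G → ∃ x : G,
      centralizer ({u} : Set G) = MulAut.conj x • centralizer ({y} : Set G) := fun u hu hu' => by
    obtain ⟨x, hx⟩ := hc u hu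
    refine ⟨x⁻¹, ?_⟩
    rw [← hk _ (hN.conj_mem _ hu x) (conj_not_mem_center hu') hx, ← cent_conj]
    congr 2
    group
  have h3 : ∀ u ∈ N, u ∉ center G → ∀ v ∈ N, ∀ w ∈ centralizer ({u} : Set G),
      v * w * v⁻¹ ∈ centralizer ({u} : Set G) := fun u hu hu' v hv w hw => by
    obtain ⟨x, hx⟩ := h2 u hu hu'
    rw [hx, H1.mem_conj_smul] at hw ⊢
    have := (mem_normalizer_iff.1 (h1 (hN.conj_mem _ hv x⁻¹)) _).1 hw
    convert this using 1
    group
  have h4 : ∀ u ∈ N, u ∉ center G → ∀ w ∈ N, w ∉ center G → w ∈ centralizer ({u} : Set G) →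
      centralizer ({w} : Set G) = centralizer ({u} : Set G) := fun u hu hu' w hw hw' hwu => by
    obtain ⟨x, hx⟩ := h2 u hu hu'
    rw [hx] at hwu ⊢
    rw [H1.mem_conj_smul] at hwu
    have h5 := hk _ (hN.conj_mem _ hw x⁻¹) (conj_not_mem_center hw') (by rwa [inv_inv])
    rw [← h5, ← cent_conj]
    congr 2
    group
  have h5 : ∀ u ∈ N, ∀ v ∈ N, ⁅u, v⁆ ∈ center G := fun u hu v hv => by
    by_contra h6
    have h7 : ¬ u * v = v * u := fun h => h6 (by
      rw [commutatorElement_eq_one_iff_mul_comm.2 h]; exact one_mem _)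
    have hu' : u ∉ center G := fun h => h7 (mem_center_iff.1 h v).symm
    have hv' : v ∉ center G := fun h => h7 (mem_center_iff.1 h u)
    have hw : ⁅u, v⁆ ∈ N := by
      rw [commutatorElement_def]
      exact mul_mem (mul_mem (mul_mem hu hv) (inv_mem hu)) (inv_mem hv)
    have hs : ∀ a : G, a ∈ centralizer ({a} : Set G) := fun a => mem_centralizer_singleton_iff.2 rfl
    have h8 := h4 u hu hu' _ hw h6 (by
      have := mul_mem (hs u) (h3 u hu hu' v hv _ (inv_mem (hs u)))
      rw [commutatorElement_def]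
      simpa [mul_assoc] using this)
    have h9 := h4 v hv hv' _ hw h6 (by
      rw [commutatorElement_def]
      exact mul_mem (h3 v hv hv' u hu _ (hs v)) (inv_mem (hs v)))
    have h10 := hs u
    rw [← h8, h9] at h10
    exact h7 (mem_centralizer_singleton_iff.1 h10)
  refine H8.isNilpotent_of_commutator_le_center ?_
  rw [_root_.commutator_def, commutator_le]
  intro u _ v _
  rw [mem_center_iff]
  intro g
  exact Subtype.ext (mem_center_iff.1 (h5 u u.2 v v.2) g)

end

theorem main (r : ℕ) [hr : Fact r.Prime] (R : Sylow r G) (hR : ¬ (R : Subgroup G) ≤ center G)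
    (N : Subgroup G) [hN : N.Normal] (hRN : (R : Subgroup G) ≤ N) (m : ℕ)
    (h : ∀ x ∈ N, x ∉ center G → (centralizer ({x} : Set G)).index = m) :
    Group.IsNilpotent N := by
  by_cases h1 : ∀ y ∈ N, (orderOf y).Coprime r → y ∈ center G
  · have h2 : IsPGroup r (N ⧸ center N) := fun x => by
      obtain ⟨u, rfl⟩ := QuotientGroup.mk_surjective x
      obtain ⟨k, hk⟩ := H3.exists_pow_coprime_orderOf r (u : G)
      refine ⟨k, ?_⟩
      rw [← QuotientGroup.mk_pow, QuotientGroup.eq_one_iff, mem_center_iff]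
      intro g
      exact Subtype.ext (mem_center_iff.1 (h1 _ (pow_mem u.2 _) hk) g)
    exact of_quotient_center_nilpotent h2.isNilpotent
  push Not at h1
  obtain ⟨y, hy, hyr, hy'⟩ := h1
  obtain ⟨x₀, hx₀, hx₀'⟩ := SetLike.not_le_iff_exists.1 hR
  obtain ⟨k₀, hk₀⟩ : ∃ k, x₀ ^ r ^ k = 1 := by
    obtain ⟨k, hk⟩ := R.isPGroup' ⟨x₀, hx₀⟩
    exact ⟨k, congrArg Subtype.val hk⟩
  have hz : ∀ a : G, center G ≤ centralizer ({a} : Set G) := fun a => center_le_centralizer _
  have h2 : r ∣ (center G).relIndex (centralizer ({x₀} : Set G)) := by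
    by_contra h3
    refine hx₀' (mem_of_pow_coprime
      (((Nat.Prime.coprime_iff_not_dvd hr.out).2 h3).pow_left k₀) (hk₀ ▸ one_mem _) ?_)
    exact pow_relIndex_mem _ (mem_centralizer_singleton_iff.2 rfl)
  have h3 : (center G).relIndex (centralizer ({x₀} : Set G)) =
      (center G).relIndex (centralizer ({y} : Set G)) := by
    have h4 := relIndex_mul_index (hz x₀)
    rw [← relIndex_mul_index (hz y), h x₀ (hRN hx₀) hx₀', h y hy hy'] at h4
    exact Nat.eq_of_mul_eq_mul_right
      (Nat.pos_of_ne_zero (h y hy hy' ▸ index_ne_zero_of_finite)) h4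
  obtain ⟨P, hP, hPr, h4⟩ := H1.exists_sylow_le r (centralizer ({y} : Set G))
  obtain ⟨x, hx, hx'⟩ := SetLike.not_le_iff_exists.1 fun h5 : P ≤ center G =>
    h4 ((h3 ▸ h2).trans (relIndex_dvd_of_le_left _ h5))
  obtain ⟨k, hk⟩ : ∃ k, x ^ r ^ k = 1 := by
    obtain ⟨k, hk⟩ := hPr ⟨x, hx⟩
    exact ⟨k, congrArg Subtype.val hk⟩
  have hxN : x ∈ N := mem_of_pow_coprime
    (((Nat.Prime.coprime_iff_not_dvd hr.out).2 fun h5 =>
      R.not_dvd_index (h5.trans (index_dvd_of_le hRN))).pow_left k) (hk ▸ one_mem _)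
    (pow_index_mem N x)
  have hkey : ∀ u ∈ N, u ∉ center G → u ∈ centralizer ({y} : Set G) →
      centralizer ({u} : Set G) = centralizer {y} := fun u hu hu' huy =>
    key h hxN hy hx' hy' (mem_centralizer_singleton_iff.1 (hP hx)) ⟨k, hk⟩ hyr hu hu' huy
  refine nil_of_cover hkey fun g hg => ?_
  by_contra h5
  push Not at h5
  have hg' : g ∉ center G := fun h6 => h5 1 (by simpa using hz y h6)
  have h6 : (centralizer ({g} : Set G)).index = (centralizer ({y} : Set G)).index := by
    rw [h g hg hg', h y hy hy']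
  have hco : (r ^ k).Coprime (orderOf y) := hyr.symm.pow_left k
  have h7 := part_lt hy hy' hkey h6 h5 hco fun h8 =>
    hy' (h8 ⟨hy, mem_centralizer_singleton_iff.2 rfl, pow_orderOf_eq_one y⟩)
  have h8 := part_lt hy hy' hkey h6 h5 hco.symm fun h8 => hx' (h8 ⟨hxN, hP hx, hk⟩)
  omega

end Cfsg.Agent.H2.TwoCl
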